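import Cfsg.Agent.Lib.LargeExtra.Basic
import Cfsg.Prelude.Def_Transfer
import Mathlib.Tactic

/-!
An extraspecial subgroup from involutory commutation rules with a nondegenerate form given by bit numbers.
-/

set_option autoImplicit false
set_option linter.unusedSectionVars false
set_option linter.style.haveILetI false

namespace Cfsg.Agent.J4Cent

open Subgroup
open scoped commutatorElement

/-- The data of the rules. -/
structure XRules {G : Type*} [Group G] (n : ℕ) (q : ℕ → G) (z : G) where
  /-- The squares. -/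
  s : ℕ → Bool
  /-- The form, one bit number for each generator. -/
  B : ℕ → ℕ
  zz : z * z = 1
  zne : z ≠ 1
  cz : ∀ i < n, q i * z = z * q i
  sq : ∀ i < n, q i * q i = if s i then z else 1
  cm : ∀ i < n, ∀ j < n, q i * q j = q j * q i * if (B i).testBit j then z else 1

namespace XRules

variable {G : Type*} [Group G] {n : ℕ} {q : ℕ → G} {z : G} (R : XRules n q z)

/-- The subgroup. -/
def sub (_R : XRules n q z) : Subgroup G := closure (insert z (q '' Set.Iio n))

/-- A power of the central involution. -/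
def zb (_R : XRules n q z) (b : Bool) : G := if b then z else 1

theorem zb_mul (a b : Bool) : R.zb a * R.zb b = R.zb (a ^^ b) := by
  cases a <;> cases b <;> simp [zb, R.zz]

theorem q_mem {i : ℕ} (hi : i < n) : q i ∈ R.sub := subset_closure (Or.inr ⟨i, hi, rfl⟩)

theorem z_mem : z ∈ R.sub := subset_closure (Or.inl rfl)

theorem zb_mem (b : Bool) : R.zb b ∈ R.sub := by
  cases b
  · exact one_mem _
  · exact R.z_mem

theorem z_comm {x : G} (hx : x ∈ R.sub) : x * z = z * x := by
  induction hx using closure_induction with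
  | mem x hx => rcases hx with rfl | ⟨i, hi, rfl⟩; exacts [rfl, R.cz i hi]
  | one => simp
  | mul a b _ _ ha hb => rw [mul_assoc, hb, ← mul_assoc, ha, mul_assoc]
  | inv a _ ha => exact (Commute.inv_left (show Commute a z from ha))

theorem zb_comm {x : G} (hx : x ∈ R.sub) (b : Bool) : x * R.zb b = R.zb b * x := by
  cases b
  · simp [zb]
  · simpa [zb] using R.z_comm hx

/-- The products. -/
def el (_R : XRules n q z) : ℕ → ℕ → G
  | 0, _ => 1
  | k + 1, m => el _R k m * if m.testBit k then q k else 1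

/-- The form on bit numbers. -/
def chi (R : XRules n q z) : ℕ → ℕ → ℕ
  | 0, _ => 0
  | k + 1, m => chi R k m ^^^ if m.testBit k then R.B k else 0

theorem el_mem : ∀ k ≤ n, ∀ m, R.el k m ∈ R.sub
  | 0, _, _ => one_mem _
  | k + 1, hk, m => by
    refine mul_mem (el_mem k (by omega) m) ?_
    split
    · exact R.q_mem (by omega)
    · exact one_mem _

theorem el_congr : ∀ k, ∀ m m' : ℕ, (∀ i < k, m.testBit i = m'.testBit i) → R.el k m = R.el k m'
  | 0, _, _, _ => rfl
  | k + 1, m, m', h => by
    simp only [el]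
    rw [el_congr k m m' (fun i hi => h i (by omega)), h k (by omega)]

theorem el_mul_q : ∀ k ≤ n, ∀ m, ∀ j < k, ∃ b, R.el k m * q j = R.el k (m ^^^ 2 ^ j) * R.zb b
  | 0, _, _, j, hj => absurd hj (by omega)
  | k + 1, hk, m, j, hj => by
    by_cases hjk : j = k
    · subst hjk
      have hb : (m ^^^ 2 ^ j).testBit j = !m.testBit j := by simp [Nat.testBit_xor, Nat.testBit_two_pow]
      refine ⟨m.testBit j && R.s j, ?_⟩
      simp only [el, hb]
      rw [R.el_congr j (m ^^^ 2 ^ j) m fun i hi => by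
        have hne : j ≠ i := by omega
        simp [Nat.testBit_xor, Nat.testBit_two_pow, hne]]
      cases m.testBit j
      · simp [zb]
      · simp [zb, mul_assoc, R.sq j (by omega)]
    · obtain ⟨b, hb⟩ := el_mul_q k (by omega) m j (by omega)
      have hbit : (m ^^^ 2 ^ j).testBit k = m.testBit k := by simp [Nat.testBit_xor, Nat.testBit_two_pow, hjk]
      refine ⟨b ^^ (m.testBit k && (R.B k).testBit j), ?_⟩
      simp only [el, hbit]
      cases m.testBit k
      · simp [hb]
      · simp only [if_true, Bool.true_and]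
        rw [mul_assoc (R.el k m), R.cm k (by omega) j (by omega)]
        change R.el k m * (q j * q k * R.zb _) = _
        rw [← R.zb_mul, ← mul_assoc (R.el k m), ← mul_assoc (R.el k m), hb, mul_assoc (R.el k _) (R.zb b) (q k),
          ← R.zb_comm (R.q_mem (by omega)) b]
        simp only [mul_assoc]

theorem mem_sub_iff [Finite G] {x : G} : x ∈ R.sub ↔ ∃ m < 2 ^ n, ∃ b, x = R.el n m * R.zb b := by
  constructor
  · intro hx
    have hstep : ∀ g ∈ insert z (q '' Set.Iio n), ∀ m < 2 ^ n, ∀ b,
        ∃ m' < 2 ^ n, ∃ b', R.el n m * R.zb b * g = R.el n m' * R.zb b' := by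
      rintro g (rfl | ⟨j, hj, rfl⟩) m hm b
      · exact ⟨m, hm, b ^^ true, by rw [← R.zb_mul, mul_assoc]; rfl⟩
      · obtain ⟨b', hb'⟩ := R.el_mul_q n le_rfl m j hj
        refine ⟨m ^^^ 2 ^ j, Nat.xor_lt_two_pow hm (Nat.pow_lt_pow_right one_lt_two hj), b' ^^ b, ?_⟩
        rw [mul_assoc, ← R.zb_comm (R.q_mem hj), ← mul_assoc, hb', mul_assoc, R.zb_mul]
    have key : ∀ y ∈ R.sub, ∀ m < 2 ^ n, ∀ b,
        ∃ m' < 2 ^ n, ∃ b', R.el n m * R.zb b * y = R.el n m' * R.zb b' := by
      intro y hy
      change y ∈ (closure (insert z (q '' Set.Iio n))).toSubmonoid at hy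
      rw [closure_toSubmonoid_of_finite] at hy
      induction hy using Submonoid.closure_induction with
      | mem g hg => exact hstep g hg
      | one => intro m hm b; exact ⟨m, hm, b, mul_one _⟩
      | mul u v _ _ hu hv =>
        intro m hm b
        obtain ⟨m1, h1, b1, e1⟩ := hu m hm b
        obtain ⟨m2, h2, b2, e2⟩ := hv m1 h1 b1
        exact ⟨m2, h2, b2, by rw [← mul_assoc, e1, e2]⟩
    have h0 : R.el n 0 = 1 := by
      have : ∀ k, R.el k 0 = 1 := fun k => by
        induction k with
        | zero => rfl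
        | succ k ih => simp [el, ih]
      exact this n
    obtain ⟨m, hm, b, e⟩ := key x hx 0 (Nat.two_pow_pos n) false
    exact ⟨m, hm, b, by simpa [h0, zb] using e⟩
  · rintro ⟨m, -, b, rfl⟩
    exact mul_mem (R.el_mem n le_rfl m) (R.zb_mem b)

theorem el_chi : ∀ k ≤ n, ∀ m, ∀ j < n, R.el k m * q j = q j * R.el k m * R.zb ((R.chi k m).testBit j)
  | 0, _, _, j, _ => by simp [el, chi, zb]
  | k + 1, hk, m, j, hj => by
    simp only [el, chi]
    cases hb : m.testBit k
    · simpa using el_chi k (by omega) m j hj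
    · simp only [if_true]
      rw [Nat.testBit_xor, mul_assoc (R.el k m), R.cm k (by omega) j hj]
      change R.el k m * (q j * q k * R.zb _) = _
      rw [← mul_assoc, ← mul_assoc, el_chi k (by omega) m j hj, ← R.zb_mul, mul_assoc _ (R.zb _) (q k),
        ← R.zb_comm (R.q_mem (by omega)) ((R.chi k m).testBit j)]
      simp only [mul_assoc]

theorem chi_comm {m : ℕ} (b : Bool) {j : ℕ} (hj : j < n) :
    R.el n m * R.zb b * q j = q j * (R.el n m * R.zb b) * R.zb ((R.chi n m).testBit j) := by
  rw [mul_assoc (R.el n m), ← R.zb_comm (R.q_mem hj), ← mul_assoc, R.el_chi n le_rfl m j hj]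
  simp only [mul_assoc, R.zb_mul, Bool.xor_comm b]

theorem hzb_inj (R : XRules n q z) {a b : Bool} (h : R.zb a = R.zb b) : a = b := by
  cases a <;> cases b <;> simp only [zb, if_true] at h ⊢
  · exact absurd h.symm R.zne
  · exact absurd h R.zne

/-- The certificate of nondegeneracy. -/
theorem card_sub [Finite G] (hinj : ∀ m < 2 ^ n, ∀ m' < 2 ^ n,
    (∀ j < n, (R.chi n m).testBit j = (R.chi n m').testBit j) → m = m') :
    Nat.card ↥R.sub = 2 ^ (n + 1) ∧ ∀ x ∈ R.sub, (∀ j < n, x * q j = q j * x) → x = 1 ∨ x = z := by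
  have hzb : Function.Injective R.zb := fun a b h => by
    cases a <;> cases b <;> simp only [zb, if_true] at h ⊢
    · exact absurd h.symm R.zne
    · exact absurd h R.zne
  have hu : ∀ m < 2 ^ n, ∀ b, ∀ m' < 2 ^ n, ∀ b', R.el n m * R.zb b = R.el n m' * R.zb b' → m = m' ∧ b = b' := by
    intro m hm b m' hm' b' e
    have hmm : m = m' := hinj m hm m' hm' fun j hj => by
      have h1 := R.chi_comm (m := m) b hj
      rw [e, R.chi_comm (m := m') b' hj] at h1
      exact hzb (mul_left_cancel h1).symm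
    subst hmm
    exact ⟨rfl, hzb (mul_left_cancel e)⟩
  refine ⟨?_, fun x hx hc => ?_⟩
  · let f : Fin (2 ^ n) × Bool → ↥R.sub := fun p =>
      ⟨R.el n p.1 * R.zb p.2, mul_mem (R.el_mem n le_rfl _) (R.zb_mem _)⟩
    have hf : Function.Bijective f := by
      refine ⟨fun a b e => ?_, fun x => ?_⟩
      · obtain ⟨h1, h2⟩ := hu _ a.1.2 _ _ b.1.2 _ (congrArg Subtype.val e)
        exact Prod.ext (Fin.ext h1) h2
      · obtain ⟨m, hm, b, e⟩ := R.mem_sub_iff.1 x.2
        exact ⟨(⟨m, hm⟩, b), Subtype.ext e.symm⟩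
    rw [← Nat.card_congr (Equiv.ofBijective f hf), Nat.card_prod, Nat.card_fin, Nat.card_eq_fintype_card,
      Fintype.card_bool, pow_succ]
  · obtain ⟨m, hm, b, rfl⟩ := R.mem_sub_iff.1 hx
    have h0 : ∀ k, R.chi k 0 = 0 := fun k => by
      induction k with
      | zero => rfl
      | succ k ih => simp [chi, ih]
    have hm0 : m = 0 := hinj m hm 0 (Nat.two_pow_pos n) fun j hj => by
      have h1 := R.chi_comm (m := m) b hj
      rw [hc j hj] at h1
      have h2 : R.zb ((R.chi n m).testBit j) = R.zb false := by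
        have h3 : q j * (R.el n m * R.zb b) * R.zb false = q j * (R.el n m * R.zb b) *
            R.zb ((R.chi n m).testBit j) := by
          rw [← h1]; simp [zb]
        exact (mul_left_cancel h3).symm
      rw [hzb h2, h0, Nat.zero_testBit]
    subst hm0
    have : ∀ k, R.el k 0 = 1 := fun k => by
      induction k with
      | zero => rfl
      | succ k ih => simp [el, ih]
    cases b <;> simp [this, zb]

theorem extraspecial [Finite G] (hn : 0 < n) (hinj : ∀ m < 2 ^ n, ∀ m' < 2 ^ n,
    (∀ j < n, (R.chi n m).testBit j = (R.chi n m').testBit j) → m = m') :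
    Cfsg.IsExtraspecial 2 ↥R.sub := by
  obtain ⟨hcard, hcen⟩ := R.card_sub hinj
  haveI : Fact (Nat.Prime 2) := ⟨Nat.prime_two⟩
  set z' : ↥R.sub := ⟨z, R.z_mem⟩
  have hz : orderOf z' = 2 := orderOf_eq_prime (Subtype.ext (by rw [pow_two]; exact R.zz))
    fun h => R.zne (congrArg Subtype.val h)
  have hzb : ∀ b, R.zb b ∈ zpowers z := fun b => by
    cases b
    · exact one_mem _
    · exact mem_zpowers z
  have hbig : ∀ x ∈ R.sub, ∀ y ∈ R.sub, ∃ b, x * y = y * x * R.zb b := by
    intro x hx y hy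
    induction hy using closure_induction with
    | mem y hy =>
      rcases hy with rfl | ⟨j, hj, rfl⟩
      · exact ⟨false, by rw [R.z_comm hx]; simp [zb]⟩
      · obtain ⟨m, -, b, rfl⟩ := R.mem_sub_iff.1 hx
        exact ⟨_, R.chi_comm b hj⟩
    | one => exact ⟨false, by simp [zb]⟩
    | mul a c ha hc iha ihc =>
      obtain ⟨b1, e1⟩ := iha
      obtain ⟨b2, e2⟩ := ihc
      refine ⟨b1 ^^ b2, ?_⟩
      calc x * (a * c) = a * x * R.zb b1 * c := by rw [← mul_assoc, e1]
        _ = a * (x * c) * R.zb b1 := by rw [mul_assoc (a * x), ← R.zb_comm hc]; simp only [mul_assoc]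
        _ = a * (c * x * R.zb b2) * R.zb b1 := by rw [e2]
        _ = _ := by rw [← R.zb_mul, R.zb_comm (R.zb_mem b1) b2]; simp only [mul_assoc]
    | inv a ha iha =>
      obtain ⟨b, e⟩ := iha
      refine ⟨b, ?_⟩
      have hb2 : R.zb b * R.zb b = 1 := by rw [R.zb_mul]; simp [zb]
      have hc : a * x = x * a * R.zb b := by rw [e, mul_assoc, hb2, mul_one]
      calc x * a⁻¹ = a⁻¹ * (a * x) * a⁻¹ := by group
        _ = a⁻¹ * x * (a * R.zb b) * a⁻¹ := by rw [hc]; group
        _ = _ := by rw [R.zb_comm ha]; simp [mul_assoc]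
  have hmem : ∀ x : ↥R.sub, (x : G) = 1 ∨ (x : G) = z → x ∈ zpowers z' := by
    rintro x (h | h)
    · rw [show x = 1 from Subtype.ext h]; exact one_mem _
    · rw [show x = z' from Subtype.ext h]; exact mem_zpowers _
  have hzb' : ∀ b, R.zb b = 1 ∨ R.zb b = z := fun b => by cases b <;> simp [zb]
  refine Cfsg.Agent.LargeExtra.isExtraspecial_of (IsPGroup.of_card hcard) hz (fun x => ⟨fun h => hmem x ?_, ?_⟩)
    (fun x y => hmem _ ?_) (fun x => hmem _ ?_) ?_
  · exact hcen x x.2 fun j hj => congrArg Subtype.val (h ⟨q j, R.q_mem hj⟩)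
  · intro h y
    obtain ⟨i, rfl⟩ := mem_zpowers_iff.1 h
    exact ((show Commute z' y from Subtype.ext (R.z_comm y.2).symm).zpow_left i).eq
  · obtain ⟨b, e⟩ := hbig x x.2 y y.2
    have h1 : ((⁅x, y⁆ : ↥R.sub) : G) = R.zb b := by
      show (x : G) * y * (x : G)⁻¹ * (y : G)⁻¹ = R.zb b
      rw [e, mul_assoc ((y : G) * x), ← R.zb_comm (inv_mem x.2), show (y : G) * x * ((x : G)⁻¹ * R.zb b) = y * R.zb b by group,
        R.zb_comm y.2 b, mul_assoc, mul_inv_cancel, mul_one]
    rw [h1]; exact hzb' b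
  · show (x : G) ^ 2 = 1 ∨ (x : G) ^ 2 = z
    obtain ⟨m, hm, b, e⟩ := R.mem_sub_iff.1 x.2
    have hsq : ∀ k ≤ n, ∀ m, ∃ b, R.el k m * R.el k m = R.zb b := by
      intro k hk m
      induction k with
      | zero => exact ⟨false, by simp [el, zb]⟩
      | succ k ih =>
        obtain ⟨b1, e1⟩ := ih (by omega)
        simp only [el]
        cases m.testBit k
        · exact ⟨b1, by simpa using e1⟩
        · obtain ⟨b2, e2⟩ := hbig _ (R.q_mem (i := k) (by omega)) _ (R.el_mem k (by omega) m)
          refine ⟨b1 ^^ (R.s k ^^ b2), ?_⟩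
          simp only [if_true]
          calc R.el k m * q k * (R.el k m * q k) = R.el k m * (q k * R.el k m) * q k := by simp only [mul_assoc]
            _ = R.el k m * (R.el k m * q k * R.zb b2) * q k := by rw [e2]
            _ = R.el k m * R.el k m * (q k * (R.zb b2 * q k)) := by simp only [mul_assoc]
            _ = (R.el k m * R.el k m) * (q k * q k) * R.zb b2 := by
              rw [← R.zb_comm (R.q_mem (i := k) (by omega))]; simp only [mul_assoc]
            _ = _ := by
              rw [e1, show q k * q k = R.zb (R.s k) from R.sq k (by omega), mul_assoc, R.zb_mul, R.zb_mul]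
    obtain ⟨b1, e1⟩ := hsq n le_rfl m
    rw [pow_two, e, mul_assoc (R.el n m), ← mul_assoc (R.zb b), ← R.zb_comm (R.el_mem n le_rfl m), mul_assoc (R.el n m) (R.zb b),
      ← mul_assoc (R.el n m), e1, R.zb_mul, R.zb_mul]
    exact hzb' _
  · by_contra h
    push Not at h
    have hq0 : (⟨q 0, R.q_mem hn⟩ : ↥R.sub) = 1 ∨ (⟨q 0, R.q_mem hn⟩ : ↥R.sub) = z' := by
      rcases hcen (q 0) (R.q_mem hn) (fun j hj => congrArg Subtype.val (h ⟨q 0, R.q_mem hn⟩ ⟨q j, R.q_mem hj⟩)) with e | e
      · exact Or.inl (Subtype.ext e)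
      · exact Or.inr (Subtype.ext e)
    have h1 : (1 : ℕ) = 0 := hinj 1 (Nat.one_lt_two_pow hn.ne') 0 (Nat.two_pow_pos n) fun j hj => by
      have hc : ∀ (m : ℕ), (R.chi n m).testBit j = false := fun m => hzb_inj R (by
        have h1 := R.chi_comm (m := m) false hj
        have h2 := congrArg Subtype.val (h ⟨_, mul_mem (R.el_mem n le_rfl m) (R.zb_mem false)⟩ ⟨q j, R.q_mem hj⟩)
        simp only [MulMemClass.coe_mul] at h2
        rw [h2] at h1
        exact (mul_left_cancel (a := q j * (R.el n m * R.zb false)) (by rw [← h1]; simp [zb])).symm)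
      rw [hc 1, hc 0]
    exact one_ne_zero h1

end XRules

end Cfsg.Agent.J4Cent
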