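import Cfsg.Prelude.Def_Sporadic
import Cfsg.Prelude.Def_Transfer
import Cfsg.Agent.Lib.Qd.Basic
import Mathlib.Tactic

/-!
The layers of an involution centraliser from generators, their action on a finite set and an upper bound.
-/

set_option autoImplicit false
set_option linter.unusedSectionVars false
set_option linter.style.haveILetI false

namespace Cfsg.Agent.J4Cent

open Subgroup

variable {G : Type*} [Group G] [Finite G]

theorem closure_le_normalizer {gens : Set G} {Q₀ : Subgroup G} (hQn : ∀ g ∈ gens, ∀ q ∈ Q₀, g * q * g⁻¹ ∈ Q₀) :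
    ∀ g ∈ closure gens, ∀ q ∈ Q₀, g * q * g⁻¹ ∈ Q₀ := by
  intro g hg
  induction hg using closure_induction with
  | mem x hx => exact hQn x hx
  | one => intro q hq; simpa using hq
  | mul a b _ _ ha hb => intro q hq; simpa [mul_assoc] using ha _ (hb q hq)
  | inv a _ ha =>
    intro q hq
    have hinj : Function.Injective fun v : ↥Q₀ => (⟨a * v * a⁻¹, ha _ v.2⟩ : ↥Q₀) := fun v w e =>
      Subtype.ext (mul_left_cancel (mul_right_cancel (congrArg Subtype.val e)))
    obtain ⟨v, hv⟩ := Finite.surjective_of_injective hinj ⟨q, hq⟩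
    have hv' : a * (v : G) * a⁻¹ = q := congrArg Subtype.val hv
    rw [← hv']
    simp [mul_assoc]

theorem exists_layers {z : G} (hub : Nat.card ↥(centralizer ({z} : Set G)) ≤ 21799895040) {gens : Set G}
    (hgens : ∀ g ∈ gens, g ∈ centralizer ({z} : Set G)) {P : Type*} [Group P] [Finite P]
    (ρ : ↥(closure gens) →* P) (S D : Subgroup P) (hrange : ρ.range = D) (hSD : S ≤ D) (hS : IsSimpleGroup ↥S)
    (cS : Nat.card ↥S = 443520) (cD : Nat.card ↥D = 887040) (Q₀ : Subgroup G) (cQ : Nat.card ↥Q₀ = 2 ^ 13)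
    (hQx : Cfsg.IsExtraspecial 2 ↥Q₀) (hQn : ∀ g ∈ gens, ∀ q ∈ Q₀, g * q * g⁻¹ ∈ Q₀)
    (hQker : ∀ q ∈ Q₀, ∃ h : q ∈ closure gens, ρ ⟨q, h⟩ = 1)
    (w : ↥(closure gens)) (hw : orderOf w = 3) (hwker : ρ w = 1) :
    ∃ (Q N M : Subgroup (centralizer ({z} : Set G))), Q.Normal ∧ N.Normal ∧ Q ≤ N ∧ N ≤ M ∧
      Nat.card Q = 2 ^ 13 ∧ Cfsg.IsExtraspecial 2 Q ∧ Nat.card N = 3 * 2 ^ 13 ∧ M.index = 2 ∧
      ∃ (_ : (N.subgroupOf M).Normal), Cfsg.IsM22 (M ⧸ N.subgroupOf M) := by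
  classical
  set C := centralizer ({z} : Set G) with hC
  have hKC : closure gens ≤ C := (closure_le _).2 hgens
  have hQK : Q₀ ≤ closure gens := fun q hq => (hQker q hq).1
  -- the kernel
  have hQk : Nat.card ↥Q₀ ∣ Nat.card ↥ρ.ker := by
    rw [← Nat.card_congr (subgroupOfEquivOfLe hQK).toEquiv]
    exact card_dvd_of_le fun q hq => by
      obtain ⟨h, e⟩ := hQker _ (mem_subgroupOf.1 hq)
      exact e
  have h3k : 3 ∣ Nat.card ↥ρ.ker := by
    rw [← hw]
    exact orderOf_coe (⟨w, hwker⟩ : ↥ρ.ker) ▸ orderOf_dvd_natCard (⟨w, hwker⟩ : ↥ρ.ker)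
  have hk : 24576 ∣ Nat.card ↥ρ.ker := by
    rw [cQ] at hQk
    exact (Nat.Coprime.mul_dvd_of_dvd_of_dvd (by norm_num) h3k hQk : 3 * 2 ^ 13 ∣ _)
  have hK : Nat.card ↥ρ.ker * 887040 = Nat.card ↥(closure gens) := by
    rw [← cD, ← hrange, ← index_ker, card_mul_index]
  have hkpos : 0 < Nat.card ↥ρ.ker := Nat.card_pos
  have hle : Nat.card ↥(closure gens) ≤ Nat.card ↥C := card_le_of_le hKC
  have hker : Nat.card ↥ρ.ker = 24576 := by
    have h1 := Nat.le_of_dvd hkpos hk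
    omega
  have hKeq : closure gens = C := eq_of_le_of_card_ge hKC (by omega)
  let j : ↥C →* ↥(closure gens) := Subgroup.inclusion hKeq.ge
  have hj : Function.Bijective j := by
    refine ⟨Subgroup.inclusion_injective _, fun x => ⟨⟨x, hKC x.2⟩, rfl⟩⟩
  let σ : ↥C →* P := ρ.comp j
  have hσr : σ.range = D := by
    rw [MonoidHom.range_comp, MonoidHom.range_eq_top.2 hj.2, ← MonoidHom.range_eq_map, hrange]
  let Q := Q₀.subgroupOf C
  let N := σ.ker
  let M := S.comap σ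
  have hQC : Q₀ ≤ C := hQK.trans hKC
  have eQ : ↥Q ≃* ↥Q₀ := subgroupOfEquivOfLe hQC
  have hnQ : Q.Normal := ⟨fun q hq c => by
    simpa [Q, mem_subgroupOf] using closure_le_normalizer hQn (c : G) (hKeq.ge c.2) _ (mem_subgroupOf.1 hq)⟩
  have hQN : Q ≤ N := fun q hq => by
    obtain ⟨h, e⟩ := hQker _ (mem_subgroupOf.1 hq)
    exact e
  have hNM : N ≤ M := fun q hq => by
    show σ q ∈ S
    rw [show σ q = 1 from hq]
    exact S.one_mem
  have hNc : Nat.card ↥N = 3 * 2 ^ 13 := by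
    show Nat.card ↥σ.ker = _
    rw [show σ.ker = ρ.ker.comap j from (MonoidHom.comap_ker ρ j).symm]
    rw [Nat.card_congr (α := ↥(ρ.ker.comap j)) (β := ↥ρ.ker)
      (Equiv.subtypeEquiv (Equiv.ofBijective j hj) fun _ => Iff.rfl), hker]
    norm_num
  have hSr : S ≤ σ.range := hσr ▸ hSD
  have hMidx : M.index = 2 := by
    show (S.comap σ).index = 2
    rw [index_comap, hσr]
    have h := relIndex_mul_relIndex ⊥ S D bot_le hSD
    rw [relIndex_bot_left, relIndex_bot_left, cS, cD] at h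
    omega
  refine ⟨Q, N, M, hnQ, inferInstance, hQN, hNM, ?_, Cfsg.Agent.Qd.isExtraspecial_congr eQ hQx, hNc, hMidx,
    inferInstance, ?_⟩
  · rw [Nat.card_congr eQ.toEquiv, cQ]
  let f : ↥M →* ↥S := (σ.comp M.subtype).codRestrict S fun m => m.2
  have hf : Function.Surjective f := by
    intro s
    obtain ⟨c, hc⟩ := hSr s.2
    exact ⟨⟨c, show σ c ∈ S by rw [hc]; exact s.2⟩, Subtype.ext hc⟩
  have hfk : f.ker = N.subgroupOf M := by
    ext m
    exact ⟨fun h => congrArg Subtype.val (h : f m = 1), fun h => Subtype.ext h⟩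
  have e : ↥M ⧸ N.subgroupOf M ≃* ↥S :=
    (QuotientGroup.quotientMulEquivOfEq hfk.symm).trans (QuotientGroup.quotientKerEquivOfSurjective f hf)
  haveI := hS
  haveI : Nontrivial (↥M ⧸ N.subgroupOf M) := e.toEquiv.nontrivial
  exact ⟨IsSimpleGroup.isSimpleGroup_of_surjective e.symm.toMonoidHom e.symm.surjective,
    by rw [Nat.card_congr e.toEquiv, cS]⟩

end Cfsg.Agent.J4Cent
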