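import Cfsg.Agent.Lib.J4Cent.Hex
import Cfsg.Agent.Lib.J4Cent.Structure
import Cfsg.Agent.Lib.J4Cent.Extra

/-!
The layers of the centraliser from the action on seventy-seven points.
-/

set_option autoImplicit false
set_option linter.unusedSectionVars false

namespace Cfsg.Agent.J4Cent

open Cfsg Cfsg.Agent.Golay Subgroup
open scoped Pointwise

variable {G : Type*} [Group G] [Finite G] {X : Type*} [MulAction G X]

/-- An element and a permutation move the seventy-seven points and octads alike. -/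
def Alike (v : Fin 77 → X) (k : G) (σ : Equiv.Perm GolayPt) : Prop :=
  σ ∈ hexGroup ∧ ∀ i, ∃ j, k • v i = v j ∧ σ • hex i = hex j

theorem alike_mul {v : Fin 77 → X} {k l : G} {σ τ : Equiv.Perm GolayPt} (h : Alike v k σ) (h' : Alike v l τ) :
    Alike v (k * l) (σ * τ) := by
  refine ⟨mul_mem h.1 h'.1, fun i => ?_⟩
  obtain ⟨j, e1, e2⟩ := h'.2 i
  obtain ⟨m, f1, f2⟩ := h.2 j
  exact ⟨m, by rw [mul_smul, e1, f1], by rw [mul_smul, e2, f2]⟩

theorem alike_one {v : Fin 77 → X} : Alike v (1 : G) 1 :=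
  ⟨one_mem _, fun i => ⟨i, one_smul _ _, one_smul _ _⟩⟩

theorem alike_unique {v : Fin 77 → X} (hv : Function.Injective v) {k : G} {σ τ : Equiv.Perm GolayPt}
    (h : Alike v k σ) (h' : Alike v k τ) : σ = τ := by
  have hM : ∀ {π : Equiv.Perm GolayPt}, π ∈ hexGroup → π ∈ M24 := fun hπ => (mem_stabIn.1 (hexGroup_le hπ)).1
  refine (inv_mul_eq_one.1 ?_).symm
  refine eq_one_of_fix_hex (mul_mem (inv_mem (hM h'.1)) (hM h.1)) fun i => ?_
  obtain ⟨j, e1, e2⟩ := h.2 i
  obtain ⟨m, f1, f2⟩ := h'.2 i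
  rw [mul_smul, e2, inv_smul_eq_iff, f2, hv (e1.symm.trans f1)]

variable {v : Fin 77 → X} {gens : ℕ → G}

theorem exists_alike (hstep : ∀ i < 14, Alike v (gens i) (gperm i)) {k : G} (hk : k ∈ closure (gens '' Set.Iio 14)) :
    ∃ σ, Alike v k σ := by
  change k ∈ (closure (gens '' Set.Iio 14)).toSubmonoid at hk
  rw [closure_toSubmonoid_of_finite] at hk
  induction hk using Submonoid.closure_induction with
  | mem g hg => obtain ⟨i, hi, rfl⟩ := hg; exact ⟨_, hstep i hi⟩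
  | one => exact ⟨1, alike_one⟩
  | mul a b _ _ ha hb =>
    obtain ⟨σ, hσ⟩ := ha
    obtain ⟨τ, hτ⟩ := hb
    exact ⟨_, alike_mul hσ hτ⟩

/-- The layers, given the bound, the moved points and the subgroup with its checks. -/
theorem exists_layers_of_action {z : G} (hub : Nat.card ↥(centralizer ({z} : Set G)) ≤ 21799895040)
    (hgens : ∀ i < 14, gens i ∈ centralizer ({z} : Set G)) (hv : Function.Injective v)
    (hstep : ∀ i < 14, Alike v (gens i) (gperm i)) {q : ℕ → G} (R : XRules 12 q z)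
    (hinj : ∀ m < 2 ^ 12, ∀ m' < 2 ^ 12,
      (∀ j < 12, (R.chi 12 m).testBit j = (R.chi 12 m').testBit j) → m = m')
    (hq : ∀ i < 12, q i ∈ closure (gens '' Set.Iio 14) ∧ ∀ h, q i • v h = v h)
    (hzq : z ∈ closure (gens '' Set.Iio 14) ∧ ∀ h, z • v h = v h)
    (hn : ∀ i < 14, ∀ j < 12, gens i * q j * (gens i)⁻¹ ∈ R.sub)
    (w : G) (hw : orderOf w = 3) (hwK : w ∈ closure (gens '' Set.Iio 14)) (hwv : ∀ h, w • v h = v h) :
    ∃ (Q N M : Subgroup (centralizer ({z} : Set G))), Q.Normal ∧ N.Normal ∧ Q ≤ N ∧ N ≤ M ∧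
      Nat.card Q = 2 ^ 13 ∧ Cfsg.IsExtraspecial 2 Q ∧ Nat.card N = 3 * 2 ^ 13 ∧ M.index = 2 ∧
      ∃ (_ : (N.subgroupOf M).Normal), Cfsg.IsM22 (M ⧸ N.subgroupOf M) := by
  classical
  set K := closure (gens '' Set.Iio 14) with hK
  choose f hf using fun k : ↥K => exists_alike hstep k.2
  let ρ : ↥K →* Equiv.Perm GolayPt := MonoidHom.mk' f fun a b =>
    alike_unique hv (hf (a * b)) (alike_mul (hf a) (hf b))
  have hρ1 : ∀ k : ↥K, (∀ h, (k : G) • v h = v h) → ρ k = 1 := fun k hk =>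
    alike_unique hv (hf k) ⟨one_mem _, fun i => ⟨i, hk i, one_smul _ _⟩⟩
  have hρg : ∀ i (hi : i < 14), ρ ⟨gens i, subset_closure ⟨i, hi, rfl⟩⟩ = gperm i := fun i hi =>
    alike_unique hv (hf _) (hstep i hi)
  have hrange : ρ.range = hexGroup := by
    refine le_antisymm ?_ ((closure_le _).2 ?_)
    · rintro _ ⟨k, rfl⟩; exact (hf k).1
    · rintro _ ⟨i, hi, rfl⟩; exact ⟨_, hρg i hi⟩
  have hqz : ∀ x ∈ R.sub, x ∈ K ∧ ∀ h, x • v h = v h := by
    intro x hx
    induction hx using closure_induction with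
    | mem g hg => rcases hg with rfl | ⟨i, hi, rfl⟩; exacts [hzq, hq i hi]
    | one => exact ⟨one_mem _, fun h => one_smul _ _⟩
    | mul a b _ _ ha hb => exact ⟨mul_mem ha.1 hb.1, fun h => by rw [mul_smul, hb.2, ha.2]⟩
    | inv a _ ha => exact ⟨inv_mem ha.1, fun h => by rw [inv_smul_eq_iff, ha.2]⟩
  have hQn : ∀ g ∈ gens '' Set.Iio 14, ∀ x ∈ R.sub, g * x * g⁻¹ ∈ R.sub := by
    rintro _ ⟨i, hi, rfl⟩ x hx
    induction hx using closure_induction with
    | mem g hg =>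
      rcases hg with rfl | ⟨j, hj, rfl⟩
      · rw [mem_centralizer_singleton_iff.1 (hgens i hi), mul_inv_cancel_right]; exact R.z_mem
      · exact hn i hi j hj
    | one => simp
    | mul a b _ _ ha hb =>
      rw [show gens i * (a * b) * (gens i)⁻¹ = gens i * a * (gens i)⁻¹ * (gens i * b * (gens i)⁻¹) by group]
      exact mul_mem ha hb
    | inv a _ ha =>
      rw [show gens i * a⁻¹ * (gens i)⁻¹ = (gens i * a * (gens i)⁻¹)⁻¹ by group]
      exact inv_mem ha
  refine exists_layers hub (gens := gens '' Set.Iio 14) (by rintro _ ⟨i, hi, rfl⟩; exact hgens i hi) ρ hexSimple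
    hexGroup hrange hexSimple_le isSimpleGroup_hexSimple card_hexSimple card_hexGroup R.sub (R.card_sub hinj).1
    (R.extraspecial (by norm_num) hinj) hQn (fun x hx => ⟨(hqz x hx).1, hρ1 _ (hqz x hx).2⟩)
    ⟨w, hwK⟩ ?_ (hρ1 _ hwv)
  rw [← orderOf_coe]
  exact hw

end Cfsg.Agent.J4Cent
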