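import Cfsg.Agent.Lib.Compute.PermCert

/-!
The octads through two points in the order of the seventy-seven vectors, and the images of the generators of the
centraliser on the twenty-four points.
-/

set_option autoImplicit false

namespace Cfsg.Agent.J4Cent

open Cfsg.Agent.PermCert

/-- The octads through the two points, as masks. -/
def hexMasks : List ℕ := [
  8536111, 12656663, 13124355, 10486557, 11010247, 8657159, 12650793, 15747077,
  9465987, 8505411, 11100169, 9963547, 9506893, 8431757, 10765331, 9471495,
  8546577, 8663097, 8946281, 9969957, 8675909, 8966165, 12587685, 12747077,
  9519665, 15335473, 12599513, 9748745, 8716939, 14716939, 8524371, 13370381,
  8412681, 8421811, 11535529, 9112069, 10496547, 13062145, 10666625, 11575377,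
  10846245, 13893731, 8471941, 12641313, 8391797, 10630149, 13771273, 9193633,
  10506593, 11731203, 8593633, 9607201, 12880401, 8398155, 9830549, 9347075,
  12717187, 13636881, 8983587, 10881097, 10110017, 8922769, 14254209, 12325377,
  14747201, 14950785, 10557585, 11046145, 9048457, 8783649, 13121601, 8499969,
  9776129, 9440193, 8688833, 8619033, 9240913]

/-- The images of the generators. -/
def hexElts : List Elt := [
  (29435013489047861476471824679286839, 29435013489047861476471824679286839),
  (966603239968116334248020410189154400, 967254980909126407632814506510420512),
  (974338656214362718975024378963690560, 974338656214362718975024378963690560),
  (972512676110088067912772961567868960, 972512676110088067912772961567868960),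
  (963721886883755259286232606933354528, 963721886883755259286232606933354528),
  (970499966350631336865513127433832480, 970499966350631336865513127433832480),
  (980224387687010295957922729495201824, 980224387687010295957922729495201824),
  (963721886883755259286232606933354528, 963721886883755259286232606933354528),
  (971592882964418941354553515258775584, 971592882964418941354553515258775584),
  (971592882964418941354553515258775584, 971592882964418941354553515258775584),
  (970499966350631336865513127433832480, 970499966350631336865513127433832480),
  (980224387687010295957922729495201824, 980224387687010295957922729495201824),
  (970499966350631336865513127433832480, 970499966350631336865513127433832480),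
  (972512676110088067912772961567868960, 972512676110088067912772961567868960)]

/-- The transposition of the two points. -/
def swapElt : Elt := (29435622565346244453937714881988663, 29435622565346244453937714881988663)

/-- The generators of the Mathieu group on 22 points as words in the images. -/
def hexWords : List (List ℕ) := [[0, 1, 1, 0, 2, 0, 5, 2, 1, 0], [4, 6, 2, 0, 8, 2, 0, 3]]

end Cfsg.Agent.J4Cent
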