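import Cfsg.Agent.Lib.J4Cent.FastMat
import Cfsg.Agent.Lib.J4Cent.CentData
import Cfsg.Agent.Lib.J4Cent.HexData
import Cfsg.Agent.Lib.Golay.Aut

/-!
Kernel checks on the certificate: words, the moved vectors and the form.
-/

set_option autoImplicit false
set_option maxRecDepth 100000

namespace Cfsg.Agent.J4Cent

open Cfsg.Agent.PermCert Cfsg.Agent.Golay

/-- The form on bit numbers, as in the rules. -/
def chiB : ℕ → ℕ → ℕ
  | 0, _ => 0
  | k + 1, m => chiB k m ^^^ if m.testBit k then qB.getD k 0 else 0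

/-- The moved vectors and the octads correspond. -/
def movOK : Bool :=
  (List.range 14).all fun i => (List.range 77).all fun h =>
    let j := (movT.getD i []).getD h 0
    Nat.blt j 77 && Nat.beq (ap (genT.getD i idMat) (pts.getD h 0)) (pts.getD j 0) &&
      Nat.beq (imgMask (hexElts.getD i (one 5 24)) (hexMasks.getD h 0)) (hexMasks.getD j 0)

theorem movOK_true : movOK = true := by decide +kernel

theorem fixOK : ((qT ++ [mW, mZ]).all fun M => pts.all fun v => Nat.beq (ap M v) v) = true := by decide +kernel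

theorem pts_nodup : pts.length = 77 ∧ pts.Nodup := by decide +kernel

theorem chiOK : ((List.range 4096).all fun m => Nat.blt (chiB 12 m) 4096 && Nat.beq (ap qBinv (chiB 12 m)) m) = true := by
  decide +kernel

theorem ok_all : baseT.all okB = true ∧ genT.all okB = true ∧ qT.all okB = true ∧ okB mW = true ∧ okB mZ = true := by
  decide +kernel

theorem wordF_ok : wordMatF baseT (gWords.getD 0 []) = mG1 ∧ wordMatF baseT (gWords.getD 1 []) = mG2 ∧
    wordMatF baseT zWord = mZ ∧ wordMatF genT wWord = mW := by decide +kernel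

theorem wordG1 : wordMat baseT (gWords.getD 0 []) = mG1 :=
  (wordMatF_eq baseT (ok_getD ok_all.1) _).1 ▸ wordF_ok.1

theorem wordG2 : wordMat baseT (gWords.getD 1 []) = mG2 :=
  (wordMatF_eq baseT (ok_getD ok_all.1) _).1 ▸ wordF_ok.2.1

theorem wordZ : wordMat baseT zWord = mZ :=
  (wordMatF_eq baseT (ok_getD ok_all.1) _).1 ▸ wordF_ok.2.2.1

theorem wordW : wordMat genT wWord = mW :=
  (wordMatF_eq genT (ok_getD ok_all.2.1) _).1 ▸ wordF_ok.2.2.2

theorem cubeF_ok : (fcomp mW (fcomp mW mW) == idMat) = true ∧ (mW == idMat) = false ∧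
    (fcomp mZ mZ == idMat) = true ∧ (mZ == idMat) = false := by decide +kernel

theorem wCube : (mcomp mW (mcomp mW mW) == idMat) = true ∧ (mW == idMat) = false := by
  have hW := ok_of_okB ok_all.2.2.2.1
  rw [← fcomp_eq hW hW, ← fcomp_eq hW (fcomp_eq hW hW ▸ ok_mcomp hW hW)]
  exact ⟨cubeF_ok.1, cubeF_ok.2.1⟩

theorem zz_ok : (mcomp mZ mZ == idMat) = true ∧ (mZ == idMat) = false := by
  have hZ := ok_of_okB ok_all.2.2.2.2
  rw [← fcomp_eq hZ hZ]
  exact cubeF_ok.2.2

end Cfsg.Agent.J4Cent
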