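import Cfsg.Agent.Lib.J4Cent.CentChecks

/-!
Kernel checks on the certificate: words, relations and conjugates of the extraspecial generators.
-/

set_option autoImplicit false
set_option maxRecDepth 100000

namespace Cfsg.Agent.J4Cent

theorem okQ (i : ℕ) : Ok (qT.getD i idMat) := ok_getD ok_all.2.2.1 i

theorem okG (i : ℕ) : Ok (genT.getD i idMat) := ok_getD ok_all.2.1 i

theorem okZ : Ok mZ := ok_of_okB ok_all.2.2.2.2

theorem qWordsF : ((List.range 12).all fun i =>
    (qWords.getD i []).all (fun k => Nat.blt k 14) && (wordMatF genT (qWords.getD i []) == qT.getD i idMat)) = true := by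
  decide +kernel

theorem qWordsOK : ((List.range 12).all fun i =>
    (qWords.getD i []).all (fun k => Nat.blt k 14) && (wordMat genT (qWords.getD i []) == qT.getD i idMat)) = true := by
  rw [← qWordsF]
  simp only [(wordMatF_eq genT okG _).1]

theorem qRelsF : ((List.range 12).all fun i => (List.range 12).all fun j =>
    Nat.blt j i ||
      (bif Nat.beq i j then fcomp (qT.getD i idMat) (qT.getD j idMat) == (bif qS.getD i false then mZ else idMat)
      else fcomp (qT.getD i idMat) (qT.getD j idMat) ==
        (bif (qB.getD i 0).testBit j then fcomp (fcomp (qT.getD j idMat) (qT.getD i idMat)) mZ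
          else fcomp (qT.getD j idMat) (qT.getD i idMat)))) = true := by
  decide +kernel

theorem qRelsOK : ((List.range 12).all fun i => (List.range 12).all fun j =>
    Nat.blt j i ||
      (bif Nat.beq i j then mcomp (qT.getD i idMat) (qT.getD j idMat) == (bif qS.getD i false then mZ else idMat)
      else mcomp (qT.getD i idMat) (qT.getD j idMat) ==
        (bif (qB.getD i 0).testBit j then mcomp (mcomp (qT.getD j idMat) (qT.getD i idMat)) mZ
          else mcomp (qT.getD j idMat) (qT.getD i idMat)))) = true := by
  rw [← qRelsF]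
  simp only [fcomp_eq (okQ _) (okQ _), fcomp_eq (ok_mcomp (okQ _) (okQ _)) okZ]

theorem qzF : ((qT ++ genT).all fun M => okB M && (fcomp M mZ == fcomp mZ M)) = true := by decide +kernel

theorem qzOK : ((qT ++ genT).all fun M => mcomp M mZ == mcomp mZ M) = true := by
  refine List.all_eq_true.2 fun M hM => ?_
  have h := List.all_eq_true.1 qzF M hM
  simp only [Bool.and_eq_true] at h
  have hM' := ok_of_okB h.1
  rw [← fcomp_eq hM' okZ, ← fcomp_eq okZ hM']
  exact h.2

theorem qB_symm : ((List.range 12).all fun i => (List.range 12).all fun j =>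
    (qB.getD i 0).testBit j == (qB.getD j 0).testBit i && !(Nat.beq i j && (qB.getD i 0).testBit j)) = true := by
  decide +kernel

/-- The products in the extraspecial subgroup. -/
def elMat : ℕ → ℕ → List ℕ
  | 0, _ => idMat
  | k + 1, m => bif m.testBit k then mcomp (elMat k m) (qT.getD k idMat) else elMat k m

/-- The products, fast. -/
def elMatF : ℕ → ℕ → List ℕ
  | 0, _ => idMat
  | k + 1, m => bif m.testBit k then fcomp (elMatF k m) (qT.getD k idMat) else elMatF k m

theorem elMatF_eq : ∀ k m, elMatF k m = elMat k m ∧ Ok (elMat k m)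
  | 0, _ => ⟨rfl, ok_idMat⟩
  | k + 1, m => by
    obtain ⟨e, h⟩ := elMatF_eq k m
    simp only [elMatF, elMat]
    cases m.testBit k
    · exact ⟨e, h⟩
    · exact ⟨by rw [cond_true, cond_true, e, fcomp_eq h (okQ k)], ok_mcomp h (okQ k)⟩

theorem conjF : ((List.range 14).all fun i => (List.range 12).all fun j =>
    let e := (conjT.getD i []).getD j (0, false)
    fcomp (genT.getD i idMat) (qT.getD j idMat) ==
      (bif e.2 then fcomp (fcomp (elMatF 12 e.1) mZ) (genT.getD i idMat)
        else fcomp (elMatF 12 e.1) (genT.getD i idMat))) = true := by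
  decide +kernel

theorem conjOK : ((List.range 14).all fun i => (List.range 12).all fun j =>
    let e := (conjT.getD i []).getD j (0, false)
    mcomp (genT.getD i idMat) (qT.getD j idMat) ==
      (bif e.2 then mcomp (mcomp (elMat 12 e.1) mZ) (genT.getD i idMat)
        else mcomp (elMat 12 e.1) (genT.getD i idMat))) = true := by
  rw [← conjF]
  simp only [(elMatF_eq _ _).1, fcomp_eq (okG _) (okQ _), fcomp_eq (elMatF_eq _ _).2 okZ,
    fcomp_eq (ok_mcomp (elMatF_eq _ _).2 okZ) (okG _), fcomp_eq (elMatF_eq _ _).2 (okG _)]

end Cfsg.Agent.J4Cent
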