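import Mathlib.Data.Nat.Bitwise
import Mathlib.Data.List.GetD
import Mathlib.Tactic

/-!
Maps of bit vectors given by the images of the units, tuned for evaluation in the kernel.
-/

set_option autoImplicit false
set_option linter.unusedSimpArgs false

namespace Cfsg.Agent.J4Cent

/-- The image of a bit vector. -/
def ap : List ℕ → ℕ → ℕ
  | [], _ => 0
  | c :: cs, n => bif Nat.beq n 0 then 0 else
      bif Nat.beq (n % 2) 1 then c ^^^ ap cs (n / 2) else ap cs (n / 2)

theorem ap_zero : ∀ C : List ℕ, ap C 0 = 0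
  | [] => rfl
  | _ :: _ => rfl

theorem ap_cons (c : ℕ) (cs : List ℕ) (n : ℕ) :
    ap (c :: cs) n = (if n.testBit 0 then c else 0) ^^^ ap cs (n / 2) := by
  rw [ap]
  by_cases h : n = 0
  · subst h; simp [ap_zero]
  · rw [show Nat.beq n 0 = false from Bool.eq_false_iff.2 fun e => h (Nat.eq_of_beq_eq_true e)]
    rcases Nat.mod_two_eq_zero_or_one n with h2 | h2 <;> simp [h2, Nat.testBit_zero] <;> rfl

theorem ap_xor : ∀ (C : List ℕ) (m n : ℕ), ap C (m ^^^ n) = ap C m ^^^ ap C n
  | [], _, _ => by simp [ap]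
  | c :: cs, m, n => by
    have hd : (m ^^^ n) / 2 = (m / 2) ^^^ (n / 2) := by
      rw [← Nat.shiftRight_one, ← Nat.shiftRight_one, ← Nat.shiftRight_one, Nat.shiftRight_xor_distrib]
    rw [ap_cons, ap_cons, ap_cons, hd, ap_xor cs, Nat.testBit_xor]
    cases m.testBit 0 <;> cases n.testBit 0 <;> simp <;>
      (apply Nat.eq_of_testBit_eq; intro i; simp only [Nat.testBit_xor]) <;>
        cases c.testBit i <;> cases (ap cs (m / 2)).testBit i <;> cases (ap cs (n / 2)).testBit i <;> rfl

theorem ap_unit : ∀ (C : List ℕ) (i : ℕ), ap C (2 ^ i) = C.getD i 0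
  | [], i => by simp [ap]
  | c :: cs, 0 => by simp [ap_cons, ap_zero, Nat.testBit_zero]
  | c :: cs, i + 1 => by
    rw [ap_cons, pow_succ, Nat.mul_div_cancel _ two_pos, ap_unit cs i]
    simp [Nat.testBit_zero, Nat.mul_mod_left]

/-- Composition: first the second map, then the first. -/
def mcomp (A B : List ℕ) : List ℕ := B.map (ap A)

theorem ap_mcomp (A : List ℕ) : ∀ (B : List ℕ) (n : ℕ), ap (mcomp A B) n = ap A (ap B n)
  | [], n => by simp [mcomp, ap, ap_zero]
  | b :: bs, n => by
    show ap (ap A b :: mcomp A bs) n = _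
    rw [ap_cons, ap_cons, ap_xor, ap_mcomp A bs]
    cases n.testBit 0 <;> simp [ap_zero]

/-- The identity map. -/
def idMat : List ℕ := (List.range 112).map (2 ^ ·)

/-- The value of a word of indices in a table of maps. -/
def wordMat (T : List (List ℕ)) : List ℕ → List ℕ
  | [] => idMat
  | i :: w => mcomp (T.getD i idMat) (wordMat T w)

/-- A word applied to a vector, the head last. -/
def wordAp (T : List (List ℕ)) : List ℕ → ℕ → ℕ
  | [], v => v
  | i :: w, v => ap (T.getD i idMat) (wordAp T w v)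

theorem ap_wordMat (T : List (List ℕ)) : ∀ (w : List ℕ) (v : ℕ), ap idMat v = v →
    ap (wordMat T w) v = wordAp T w v
  | [], _, h => h
  | i :: w, v, h => by rw [wordMat, ap_mcomp, ap_wordMat T w v h]; rfl

end Cfsg.Agent.J4Cent
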