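import Cfsg.Agent.Lib.J4Cent.Act
import Cfsg.Agent.Lib.J4Cent.Mat
import Cfsg.Agent.Lib.J4Cent.CentChecks
import Cfsg.Agent.Lib.J4Cent.CentChecksQ

/-!
The layers of the centraliser in any group represented by the matrices of the model.
-/

set_option autoImplicit false
set_option linter.unusedSectionVars false
set_option maxRecDepth 100000

namespace Cfsg.Agent.J4Cent

open Cfsg Cfsg.Agent.Golay Cfsg.Agent.PermCert Subgroup
open scoped Pointwise

/-- A group with a faithful representation by the matrices of the model. -/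
structure MatRep (G : Type*) [Group G] where
  /-- The matrix of an element. -/
  mat : G → List ℕ
  /-- The three generators and the translations. -/
  gen : ℕ → G
  mat_one : mat 1 = idMat
  mat_mul : ∀ g h, mat (g * h) = mcomp (mat g) (mat h)
  mat_inj : Function.Injective mat
  mat_gen : ∀ i < 14, mat (gen i) = baseT.getD i idMat

namespace MatRep

variable {G : Type*} [Group G] (R : MatRep G)

/-- The value of a word in a table of elements. -/
def wEl (f : ℕ → G) : List ℕ → G
  | [] => 1
  | i :: w => f i * wEl f w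

theorem mat_wEl (f : ℕ → G) (T : List (List ℕ)) : ∀ w : List ℕ, (∀ i ∈ w, R.mat (f i) = T.getD i idMat) →
    R.mat (wEl f w) = wordMat T w
  | [], _ => R.mat_one
  | i :: w, h => by
    rw [wEl, R.mat_mul, h i List.mem_cons_self, mat_wEl f T w fun j hj => h j (List.mem_cons_of_mem _ hj)]
    rfl

theorem wEl_mem {f : ℕ → G} {K : Subgroup G} : ∀ w : List ℕ, (∀ i ∈ w, f i ∈ K) → wEl f w ∈ K
  | [], _ => one_mem _
  | i :: w, h => mul_mem (h i List.mem_cons_self) (wEl_mem w fun j hj => h j (List.mem_cons_of_mem _ hj))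

/-- The central involution. -/
def zEl : G := wEl R.gen zWord

/-- The generators of the centraliser. -/
def cgen (i : ℕ) : G :=
  if i = 0 then wEl R.gen (gWords.getD 0 []) else if i = 1 then wEl R.gen (gWords.getD 1 []) else R.gen i

/-- The generators of the extraspecial subgroup. -/
def qEl (i : ℕ) : G := wEl R.cgen (qWords.getD i [])

theorem gWords_lt : ∀ i ∈ gWords.getD 0 [] ++ gWords.getD 1 [] ++ zWord, i < 14 := by decide +kernel

theorem mat_zEl : R.mat R.zEl = mZ := by
  rw [zEl, R.mat_wEl _ baseT _ fun i hi => R.mat_gen i (gWords_lt i (List.mem_append_right _ hi))]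
  exact wordZ

theorem mat_cgen {i : ℕ} (hi : i < 14) : R.mat (R.cgen i) = genT.getD i idMat := by
  unfold cgen
  split_ifs with h0 h1
  · subst h0
    rw [R.mat_wEl _ baseT _ fun j hj => R.mat_gen j (gWords_lt j (List.mem_append_left _ (List.mem_append_left _ hj))), wordG1]
    rfl
  · subst h1
    rw [R.mat_wEl _ baseT _ fun j hj => R.mat_gen j (gWords_lt j (List.mem_append_left _ (List.mem_append_right _ hj))), wordG2]
    rfl
  · rw [R.mat_gen i hi]
    interval_cases i <;> first | omega | rfl

theorem all_range {n : ℕ} {f : ℕ → Bool} (h : (List.range n).all f = true) {i : ℕ} (hi : i < n) : f i = true :=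
  List.all_eq_true.1 h i (List.mem_range.2 hi)

theorem mat_qEl {i : ℕ} (hi : i < 12) : R.mat (R.qEl i) = qT.getD i idMat := by
  have h := all_range qWordsOK hi
  simp only [Bool.and_eq_true, beq_iff_eq, List.all_eq_true, Nat.blt_eq] at h
  rw [qEl, R.mat_wEl _ genT _ fun j hj => R.mat_cgen (h.1 j hj), h.2]

theorem qT_mem {i : ℕ} (hi : i < 12) : qT.getD i idMat ∈ qT := by
  have : qT.length = 12 := rfl
  rw [List.getD_eq_getElem _ _ (by omega)]
  exact List.getElem_mem _

theorem genT_mem {i : ℕ} (hi : i < 14) : genT.getD i idMat ∈ genT := by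
  have : genT.length = 14 := rfl
  rw [List.getD_eq_getElem _ _ (by omega)]
  exact List.getElem_mem _

theorem comm_z {g : G} (h : R.mat g ∈ qT ++ genT) : g * R.zEl = R.zEl * g := by
  refine R.mat_inj ?_
  rw [R.mat_mul, R.mat_mul, R.mat_zEl]
  exact beq_iff_eq.1 (List.all_eq_true.1 qzOK _ h)

theorem z_sq : R.zEl * R.zEl = 1 := R.mat_inj (by rw [R.mat_mul, R.mat_zEl, R.mat_one]; exact beq_iff_eq.1 zz_ok.1)

theorem z_ne : R.zEl ≠ 1 := fun h => by
  have e := congrArg R.mat h
  rw [R.mat_zEl, R.mat_one] at e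
  have := zz_ok.2
  rw [e, beq_self_eq_true] at this
  exact Bool.noConfusion this

theorem orderOf_z : orderOf R.zEl = 2 := orderOf_eq_prime (by rw [pow_two, R.z_sq]) R.z_ne

theorem rules_sq {i : ℕ} (hi : i < 12) : R.qEl i * R.qEl i = if qS.getD i false then R.zEl else 1 := by
  refine R.mat_inj ?_
  have h := all_range (all_range qRelsOK hi) hi
  simp only [Nat.blt_eq, Bool.or_eq_true, lt_irrefl, false_or,
    show Nat.beq i i = true from Nat.beq_refl i, cond_true, beq_iff_eq] at h
  rw [R.mat_mul, R.mat_qEl hi, h]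
  cases qS.getD i false
  · simp [R.mat_one]
  · simp [R.mat_zEl]

theorem rules_cm {i : ℕ} (hi : i < 12) {j : ℕ} (hj : j < 12) :
    R.qEl i * R.qEl j = R.qEl j * R.qEl i * if (qB.getD i 0).testBit j then R.zEl else 1 := by
  have hle : ∀ a b : ℕ, a < b → (hb : b < 12) →
      R.qEl a * R.qEl b = R.qEl b * R.qEl a * if (qB.getD a 0).testBit b then R.zEl else 1 := by
    intro a b hab hb
    refine R.mat_inj ?_
    have h := all_range (all_range qRelsOK (i := a) (by omega)) hb
    simp only [Nat.blt_eq, Bool.or_eq_true, show ¬ b < a by omega, false_or,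
      show Nat.beq a b = false from Bool.eq_false_iff.2 fun e => by have := Nat.eq_of_beq_eq_true e; omega,
      cond_false, beq_iff_eq] at h
    rw [R.mat_mul, R.mat_qEl (by omega), R.mat_qEl hb, h]
    cases (qB.getD a 0).testBit b
    · simp [R.mat_mul, R.mat_qEl (show a < 12 by omega), R.mat_qEl hb]
    · simp [R.mat_mul, R.mat_qEl (show a < 12 by omega), R.mat_qEl hb, R.mat_zEl]
  have hsym := all_range (all_range qB_symm hi) hj
  simp only [Bool.and_eq_true, beq_iff_eq, Bool.not_eq_true', Bool.and_eq_false_imp] at hsym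
  rcases lt_trichotomy i j with h | h | h
  · exact hle i j h hj
  · subst h; rw [hsym.2 (Nat.beq_refl i)]; simp
  · rw [hle j i h hi, hsym.1]
    cases (qB.getD j 0).testBit i
    · simp
    · simp [mul_assoc, R.z_sq]

/-- The rules of the extraspecial subgroup. -/
def rules : XRules 12 R.qEl R.zEl where
  s i := qS.getD i false
  B i := qB.getD i 0
  zz := R.z_sq
  zne := R.z_ne
  cz i hi := R.comm_z (by rw [R.mat_qEl hi]; exact List.mem_append_left _ (qT_mem hi))
  sq i hi := R.rules_sq hi
  cm i hi j hj := R.rules_cm hi hj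

theorem chi_eq : ∀ k m, R.rules.chi k m = chiB k m
  | 0, _ => rfl
  | k + 1, m => by simp only [XRules.chi, chiB, chi_eq k m]; rfl

theorem mat_el : ∀ k ≤ 12, ∀ m, R.mat (R.rules.el k m) = elMat k m
  | 0, _, _ => R.mat_one
  | k + 1, hk, m => by
    simp only [XRules.el, elMat]
    cases m.testBit k
    · simpa using mat_el k (by omega) m
    · simp [R.mat_mul, mat_el k (by omega) m, R.mat_qEl (show k < 12 by omega)]

theorem conj_mem {i : ℕ} (hi : i < 14) {j : ℕ} (hj : j < 12) :
    R.cgen i * R.qEl j * (R.cgen i)⁻¹ ∈ R.rules.sub := by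
  have h2 := all_range (all_range conjOK hi) hj
  simp only [beq_iff_eq] at h2
  generalize (conjT.getD i []).getD j (0, false) = p at h2
  obtain ⟨m, e⟩ := p
  have heq : R.cgen i * R.qEl j = R.rules.el 12 m * R.rules.zb e * R.cgen i := by
    refine R.mat_inj ?_
    rw [R.mat_mul, R.mat_cgen hi, R.mat_qEl hj, h2]
    cases e <;> simp [XRules.zb, R.mat_mul, R.mat_el 12 le_rfl, R.mat_cgen hi, R.mat_zEl]
  rw [heq, mul_inv_cancel_right]
  exact mul_mem (R.rules.el_mem 12 le_rfl m) (R.rules.zb_mem e)

/-- The vectors fixed by the identity matrix. -/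
abbrev Vec : Type := {v : ℕ // ap idMat v = v}

/-- The action on vectors. -/
@[instance_reducible]
def vecAction : MulAction G Vec where
  smul g v := ⟨ap (R.mat g) v, (ap_mcomp idMat (R.mat g) v.1).symm.trans
    (congrArg (fun M => ap M v.1) (by rw [← R.mat_one, ← R.mat_mul, one_mul]))⟩
  one_smul v := Subtype.ext (show ap (R.mat 1) v = v by rw [R.mat_one]; exact v.2)
  mul_smul g h v := Subtype.ext (show ap (R.mat (g * h)) v = _ by rw [R.mat_mul, ap_mcomp]; rfl)

theorem pts_fixed : (pts.all fun v => Nat.beq (ap idMat v) v) = true := by decide +kernel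

/-- The moved vectors. -/
def pt77 (h : Fin 77) : Vec :=
  ⟨pts.getD h 0, by
    have hl : pts.length = 77 := pts_nodup.1
    rw [List.getD_eq_getElem _ _ (by omega)]
    exact Nat.eq_of_beq_eq_true (List.all_eq_true.1 pts_fixed _ (List.getElem_mem _))⟩

theorem wWord_lt : ∀ i ∈ wWord, i < 14 := by decide +kernel

/-- The structure of the centraliser, given the bound on its order. -/
theorem layers [Finite G] (hub : Nat.card ↥(centralizer ({R.zEl} : Set G)) ≤ 21799895040) :
    ∃ (Q N M : Subgroup (centralizer ({R.zEl} : Set G))), Q.Normal ∧ N.Normal ∧ Q ≤ N ∧ N ≤ M ∧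
      Nat.card Q = 2 ^ 13 ∧ Cfsg.IsExtraspecial 2 Q ∧ Nat.card N = 3 * 2 ^ 13 ∧ M.index = 2 ∧
      ∃ (_ : (N.subgroupOf M).Normal), Cfsg.IsM22 (M ⧸ N.subgroupOf M) := by
  letI := R.vecAction
  have hl : pts.length = 77 := pts_nodup.1
  have hinjv : Function.Injective pt77 := fun a b e => by
    have e' : pts.getD a 0 = pts.getD b 0 := congrArg Subtype.val e
    rw [List.getD_eq_getElem _ _ (by omega), List.getD_eq_getElem _ _ (by omega)] at e'
    exact Fin.ext ((pts_nodup.2.getElem_inj_iff).1 e')
  have hfix : ∀ g : G, R.mat g ∈ qT ++ [mW, mZ] → ∀ h, g • pt77 h = pt77 h := by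
    intro g hg h
    refine Subtype.ext ?_
    show ap (R.mat g) (pts.getD h 0) = pts.getD h 0
    rw [List.getD_eq_getElem _ _ (by omega)]
    exact Nat.eq_of_beq_eq_true (List.all_eq_true.1 (List.all_eq_true.1 fixOK _ hg) _ (List.getElem_mem _))
  set gK := closure (R.cgen '' Set.Iio 14) with hgK
  have hgm : ∀ i < 14, R.cgen i ∈ gK := fun i hi => subset_closure ⟨i, hi, rfl⟩
  set w := wEl R.cgen wWord with hw0
  have hwm : R.mat w = mW := by
    rw [hw0, R.mat_wEl _ genT _ fun i hi => R.mat_cgen (wWord_lt i hi)]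
    exact wordW
  have hw3 : orderOf w = 3 := by
    haveI : Fact (Nat.Prime 3) := ⟨Nat.prime_three⟩
    refine orderOf_eq_prime (R.mat_inj ?_) fun e => ?_
    · rw [pow_succ', pow_two, R.mat_mul, R.mat_mul, R.mat_one, hwm]
      exact beq_iff_eq.1 wCube.1
    · have := wCube.2
      rw [← hwm, e, R.mat_one, beq_self_eq_true] at this
      exact Bool.noConfusion this
  have hq : ∀ i < 12, R.qEl i ∈ gK ∧ ∀ h, R.qEl i • pt77 h = pt77 h := fun i hi => by
    refine ⟨wEl_mem _ fun j hj => hgm j ?_, hfix _ (by rw [R.mat_qEl hi]; exact List.mem_append_left _ (qT_mem hi))⟩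
    have h := all_range qWordsOK hi
    simp only [Bool.and_eq_true, List.all_eq_true, Nat.blt_eq] at h
    exact h.1 j hj
  have hzw : ∀ i ∈ zWord, R.cgen i = R.gen i ∧ i < 14 := by
    intro i hi
    have : 3 ≤ i ∧ i < 14 := by revert i; decide +kernel
    exact ⟨by simp [cgen, show i ≠ 0 by omega, show i ≠ 1 by omega], this.2⟩
  have hzK : R.zEl ∈ gK := wEl_mem _ fun i hi => by rw [← (hzw i hi).1]; exact hgm i (hzw i hi).2
  refine exists_layers_of_action (gens := R.cgen) hub (fun i hi => ?_) hinjv ?_ R.rules ?_ hq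
    ⟨hzK, hfix _ (by rw [R.mat_zEl]; simp)⟩ (fun i hi j hj => R.conj_mem hi hj) w hw3
    (wEl_mem _ fun i hi => hgm i (wWord_lt i hi)) (hfix _ (by rw [hwm]; simp))
  · exact mem_centralizer_singleton_iff.2 (R.comm_z (by
      rw [R.mat_cgen hi]; exact List.mem_append_right _ (genT_mem hi)))
  · intro i hi
    refine ⟨gperm_mem_hexGroup hi, fun h => ?_⟩
    have hh := all_range (all_range movOK_true hi) h.2
    simp only [Bool.and_eq_true, Nat.blt_eq, Nat.beq_eq] at hh
    refine ⟨⟨_, hh.1.1⟩, Subtype.ext ?_, ?_⟩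
    · show ap (R.mat (R.cgen i)) (pts.getD h 0) = _
      rw [R.mat_cgen hi]
      exact hh.1.2
    · have hv : validElt 5 24 (hexElts.getD i (one 5 24)) = true := by
        have he : hexElts.length = 14 := rfl
        rw [List.getD_eq_getElem _ _ (by omega)]
        have := List.all_eq_true.1 elts_ok _ (List.getElem_mem (l := hexElts) (n := i) (by omega))
        simp only [Bool.and_eq_true] at this
        exact this.1.1
      unfold gperm hex
      exact (maskSet_imgMask hv _).trans (congrArg maskSet hh.2)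
  · intro m hm m' hm' h
    have hlt : ∀ m < 2 ^ 12, R.rules.chi 12 m < 4096 ∧ ap qBinv (R.rules.chi 12 m) = m := fun m hm => by
      have := all_range chiOK (show m < 4096 by norm_num at hm; omega)
      simp only [Bool.and_eq_true, Nat.blt_eq, Nat.beq_eq] at this
      rw [R.chi_eq]
      exact this
    have e : R.rules.chi 12 m = R.rules.chi 12 m' := Nat.eq_of_testBit_eq fun j => by
      rcases Nat.lt_or_ge j 12 with hj | hj
      · exact h j hj
      · rw [Nat.testBit_lt_two_pow ((hlt m hm).1.trans_le (Nat.pow_le_pow_right two_pos hj)),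
          Nat.testBit_lt_two_pow ((hlt m' hm').1.trans_le (Nat.pow_le_pow_right two_pos hj))]
    rw [← (hlt m hm).2, e, (hlt m' hm').2]

end MatRep

end Cfsg.Agent.J4Cent
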