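import Mathlib.GroupTheory.GroupAction.Quotient
import Mathlib.GroupTheory.Subgroup.Centralizer
import Mathlib.Tactic

/-!
An upper bound for a centraliser from the cosets of a subgroup whose normal subgroup contains the element.
-/

set_option autoImplicit false
set_option linter.unusedSectionVars false

namespace Cfsg.Agent.J4Cent

open MulAction Subgroup
open scoped Classical

variable {G : Type*} [Group G] [Finite G]

/-- The conjugate of `V` attached to a coset contains `w`. -/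
def Meets (H V : Subgroup G) (w : G) (q : G ⧸ H) : Prop := ∃ g : G, (g : G ⧸ H) = q ∧ g⁻¹ * w * g ∈ V

variable {H V : Subgroup G}

theorem meets_mk (hnorm : ∀ h ∈ H, ∀ v ∈ V, h * v * h⁻¹ ∈ V) (w g : G) :
    Meets H V w (g : G ⧸ H) ↔ g⁻¹ * w * g ∈ V := by
  refine ⟨?_, fun h => ⟨g, rfl, h⟩⟩
  rintro ⟨g', hq, hv⟩
  have := hnorm _ (QuotientGroup.eq.1 hq.symm) _ hv
  rwa [show g⁻¹ * g' * (g'⁻¹ * w * g') * (g⁻¹ * g')⁻¹ = g⁻¹ * w * g by group] at this

theorem meets_smul (hnorm : ∀ h ∈ H, ∀ v ∈ V, h * v * h⁻¹ ∈ V) (k w : G) (q : G ⧸ H) :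
    Meets H V (k * w * k⁻¹) (k • q) ↔ Meets H V w q := by
  induction q using QuotientGroup.induction_on with
  | H g =>
    rw [show k • (g : G ⧸ H) = ((k * g : G) : G ⧸ H) from rfl, meets_mk hnorm, meets_mk hnorm,
      show (k * g)⁻¹ * (k * w * k⁻¹) * (k * g) = g⁻¹ * w * g by group]

/-- The bound on the centraliser. -/
theorem card_centralizer_mul_le (hnorm : ∀ h ∈ H, ∀ v ∈ V, h * v * h⁻¹ ∈ V) {z : G} (hzV : z ∈ V)
    (S : Finset G) (hS : ∀ w ∈ S, ∃ h ∈ H, h * z * h⁻¹ = w) (hinv : ∀ h ∈ H, ∀ w ∈ S, h * w * h⁻¹ ∈ S)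
    {K : Subgroup G} (hKH : K ≤ H)
    {ι : Type*} [Fintype ι] (r : ι → G) (hcover : ∀ g : G, ∃ i, ∃ h ∈ K, (g : G ⧸ H) = ((h * r i : G) : G ⧸ H))
    (size : ι → ℕ) (hsize : ∀ i, (orbit ↥K ((r i : G) : G ⧸ H)).ncard ≤ size i)
    (num : ι → ℕ) (hnum : ∀ i, (S.filter fun w => (r i)⁻¹ * w * r i ∈ V).card ≤ num i) :
    Nat.card ↥(centralizer ({z} : Set G)) * (S.card * S.card) ≤ Nat.card ↥H * ∑ i, size i * num i := by
  classical
  haveI : Fintype (G ⧸ H) := Fintype.ofFinite _
  set C := centralizer ({z} : Set G)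
  set q₀ : G ⧸ H := ((1 : G) : G ⧸ H)
  set Z : Finset (G ⧸ H) := Finset.univ.filter fun q => Meets H V z q
  have hzc : ∀ k : G, k ∈ C → k * z * k⁻¹ = z := fun k hk => by
    rw [(mem_centralizer_singleton_iff.1 hk), mul_inv_cancel_right]
  -- the orbit of the base coset
  have horb : (orbit ↥C q₀).ncard ≤ Z.card := by
    rw [← Set.ncard_coe_finset]
    refine Set.ncard_le_ncard ?_ (Finset.finite_toSet _)
    rintro q ⟨k, rfl⟩
    refine Finset.mem_coe.2 (Finset.mem_filter.2 ⟨Finset.mem_univ _, ?_⟩)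
    have h := (meets_smul hnorm (k : G) z q₀).2 ((meets_mk hnorm z 1).2 (by simpa using hzV))
    rwa [hzc _ k.2] at h
  -- every fibre is as big as the one of `z`
  have hfib : ∀ w ∈ S, Z.card ≤ (Finset.univ.filter fun q : G ⧸ H => Meets H V w q).card := by
    intro w hw
    obtain ⟨h, -, rfl⟩ := hS w hw
    refine Finset.card_le_card_of_injOn (fun q => h • q) (fun q hq => ?_) fun a _ b _ e => MulAction.injective h e
    simp only [Z, Finset.coe_filter, Finset.mem_univ, true_and, Set.mem_setOf_eq] at hq ⊢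
    exact (meets_smul hnorm h z q).2 hq
  -- the number of conjugates of `z` attached to a coset is constant on the orbits
  have hper : ∀ q : G ⧸ H, ∃ i, q ∈ orbit ↥K ((r i : G) : G ⧸ H) ∧
      (S.filter fun w => Meets H V w q).card ≤ num i := by
    intro q
    induction q using QuotientGroup.induction_on with
    | H g =>
      obtain ⟨i, h, hh, e⟩ := hcover g
      rw [e]
      refine ⟨i, ⟨⟨h, hh⟩, rfl⟩, le_trans ?_ (hnum i)⟩
      refine Finset.card_le_card_of_injOn (fun w => h⁻¹ * w * h) (fun w hw => ?_) fun a _ b _ e' => by simpa using e'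
      simp only [Finset.coe_filter, Set.mem_setOf_eq, meets_mk hnorm] at hw ⊢
      refine ⟨by simpa using hinv _ (inv_mem (hKH hh)) _ hw.1, ?_⟩
      rw [show (r i)⁻¹ * (h⁻¹ * w * h) * r i = (h * r i)⁻¹ * w * (h * r i) by group]
      exact hw.2
  choose idx hidx hle using hper
  have htot : S.card * Z.card ≤ ∑ i, size i * num i := by
    calc S.card * Z.card = ∑ _w ∈ S, Z.card := by rw [Finset.sum_const, smul_eq_mul]
      _ ≤ ∑ w ∈ S, (Finset.univ.filter fun q : G ⧸ H => Meets H V w q).card := Finset.sum_le_sum hfib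
      _ = ∑ q : G ⧸ H, (S.filter fun w => Meets H V w q).card := by
        simp only [Finset.card_filter]; rw [Finset.sum_comm]
      _ ≤ ∑ q : G ⧸ H, num (idx q) := Finset.sum_le_sum fun q _ => hle q
      _ = ∑ i, (Finset.univ.filter fun q : G ⧸ H => idx q = i).card * num i := by
        rw [← Finset.sum_fiberwise Finset.univ idx]
        refine Finset.sum_congr rfl fun i _ => ?_
        rw [Finset.sum_congr rfl fun q hq => by rw [(Finset.mem_filter.1 hq).2], Finset.sum_const, smul_eq_mul]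
      _ ≤ ∑ i, size i * num i := by
        refine Finset.sum_le_sum fun i _ => Nat.mul_le_mul_right _ (le_trans ?_ (hsize i))
        rw [← Set.ncard_coe_finset]
        refine Set.ncard_le_ncard (fun q hq => ?_) (Set.toFinite _)
        have := hidx q
        rwa [(Finset.mem_filter.1 (Finset.mem_coe.1 hq)).2] at this
  -- the stabiliser of `z` in `H`
  have hstab : Nat.card ↥(H ⊓ C) * S.card ≤ Nat.card ↥H := by
    have hidx2 : S.card ≤ (C.subgroupOf H).index := by
      let f : ↥H ⧸ C.subgroupOf H → G := Quotient.lift (fun h : ↥H => (h : G) * z * (h : G)⁻¹) (by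
        intro a b hab
        have hc : ((a : G)⁻¹ * b) * z * ((a : G)⁻¹ * b)⁻¹ = z :=
          hzc _ (by simpa [mem_subgroupOf] using QuotientGroup.leftRel_apply.1 hab)
        show (a : G) * z * (a : G)⁻¹ = (b : G) * z * (b : G)⁻¹
        calc (a : G) * z * (a : G)⁻¹ = (a : G) * ((a : G)⁻¹ * b * z * ((a : G)⁻¹ * b)⁻¹) * (a : G)⁻¹ := by rw [hc]
          _ = _ := by group)
      rw [← Set.ncard_coe_finset, Subgroup.index, ← Nat.card_univ (α := ↥H ⧸ C.subgroupOf H), ← Nat.card_coe_set_eq]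
      refine le_trans (Nat.card_mono (Set.toFinite (Set.range f)) ?_) ?_
      · intro w hw
        obtain ⟨h, hh, e⟩ := hS w (Finset.mem_coe.1 hw)
        exact ⟨QuotientGroup.mk (⟨h, hh⟩ : ↥H), e⟩
      · exact (Nat.card_congr (Equiv.Set.univ _)).symm ▸ Finite.card_range_le f
    calc Nat.card ↥(H ⊓ C) * S.card ≤ Nat.card ↥(C.subgroupOf H) * (C.subgroupOf H).index := by
          rw [Nat.card_congr (α := ↥(H ⊓ C)) (β := ↥(C.subgroupOf H))
            ⟨fun x => ⟨⟨x, x.2.1⟩, x.2.2⟩, fun x => ⟨x.1.1, x.1.2, x.2⟩, fun _ => rfl, fun _ => rfl⟩]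
          exact Nat.mul_le_mul_left _ hidx2
      _ = Nat.card ↥H := (C.subgroupOf H).card_mul_index
  have hC : Nat.card ↥C ≤ Z.card * Nat.card ↥(H ⊓ C) := by
    rw [← Nat.card_congr (orbitProdStabilizerEquivGroup ↥C q₀), Nat.card_prod, Nat.card_coe_set_eq]
    refine Nat.mul_le_mul horb (Nat.card_le_card_of_injective
      (fun k => (⟨((k : ↥C) : G), ?_, (k : ↥C).2⟩ : ↥(H ⊓ C))) fun a b e => ?_)
    · have h := mem_stabilizer_iff.1 k.2
      have h2 : QuotientGroup.mk (s := H) (((k : ↥C) : G) * 1) = QuotientGroup.mk 1 := h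
      simpa using QuotientGroup.eq.1 h2.symm
    · exact Subtype.ext (Subtype.ext (congrArg (fun u : ↥(H ⊓ C) => (u : G)) e))
  calc Nat.card ↥C * (S.card * S.card) ≤ Z.card * Nat.card ↥(H ⊓ C) * (S.card * S.card) :=
        Nat.mul_le_mul_right _ hC
    _ = (Nat.card ↥(H ⊓ C) * S.card) * (S.card * Z.card) := by ring
    _ ≤ _ := Nat.mul_le_mul hstab htot

end Cfsg.Agent.J4Cent
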