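import Cfsg.Agent.Lib.J4Cent.ModelCover
import Cfsg.Agent.Lib.M24Pres.J4
import Cfsg.Prelude.Def_Sporadic

/-!
The centraliser of an involution in a group of the order of the fourth Janko group,
given that the presented group is one.
-/

set_option autoImplicit false
set_option maxRecDepth 100000

namespace Cfsg.Agent.J4Cent

open Cfsg Cfsg.Agent.J4Bound

/-- A simple presented group is faithful in the model. -/
theorem equiv_modG (hs : IsSimpleGroup Spor.J4) : Nonempty (Spor.J4 ≃* ModG) := by
  have hne : toMod jx ≠ 1 := fun e => by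
    have h1 := congrArg modRep.mat (toMod_jx.symm.trans e)
    rw [modRep.mat_gen 0 (by norm_num), modRep.mat_one] at h1
    revert h1
    decide +kernel
  have hker : toMod.ker = ⊥ := (Subgroup.Normal.eq_bot_or_eq_top (MonoidHom.normal_ker toMod)).resolve_right
    fun e => hne (MonoidHom.mem_ker.1 (e ▸ Subgroup.mem_top jx))
  exact ⟨MulEquiv.ofBijective toMod ⟨(MonoidHom.ker_eq_bot_iff _).1 hker, J4Model.rho.rangeRestrict_surjective⟩⟩

theorem isJ4_of_equiv {A B : Type*} [Group A] [Group B] (e : A ≃* B) (h : IsJ4 A) : IsJ4 B := by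
  haveI := h.1
  exact ⟨e.symm.isSimpleGroup, (Nat.card_congr e.toEquiv).symm.trans h.2⟩

/-- If the presented group is of type J4, then so is its image in the model. -/
theorem isJ4_modG (h : IsJ4 Spor.J4) : IsJ4 ModG :=
  (equiv_modG h.1).elim fun e => isJ4_of_equiv e h

/-- The structure of the centraliser, given that the presented group is of type J4. -/
theorem exists_centraliser (h : IsJ4 Spor.J4) :
    ∃ (G : Type) (_ : Group G) (_ : Finite G), Cfsg.IsJ4 G ∧ ∃ z : G, orderOf z = 2 ∧
      ∃ (Q N M : Subgroup (Subgroup.centralizer ({z} : Set G))), Q.Normal ∧ N.Normal ∧ Q ≤ N ∧ N ≤ M ∧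
        Nat.card Q = 2 ^ 13 ∧ Cfsg.IsExtraspecial 2 Q ∧ Nat.card N = 3 * 2 ^ 13 ∧ M.index = 2 ∧
        ∃ (_ : (N.subgroupOf M).Normal), Cfsg.IsM22 (M ⧸ N.subgroupOf M) :=
  ⟨ModG, inferInstance, inferInstance, isJ4_modG h,
    model_centraliser M24Pres.psi M24Pres.psi_gx M24Pres.psi_gy⟩

end Cfsg.Agent.J4Cent
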