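import Cfsg.Agent.Lib.J4Cent.Mat

/-!
Composition of maps packed into single numbers, one machine operation for all the images at once.
-/

set_option autoImplicit false
set_option linter.unusedSimpArgs false
set_option exponentiation.threshold 300

namespace Cfsg.Agent.J4Cent

/-- The images side by side in blocks of 112 bits. -/
def pack : List ℕ → ℕ
  | [] => 0
  | c :: cs => c ^^^ (pack cs <<< 112)

/-- The blocks of a number. -/
def unpack : ℕ → ℕ → List ℕ
  | 0, _ => []
  | n + 1, X => X % 2 ^ 112 :: unpack n (X >>> 112)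

/-- The unit in each block. -/
def blockOnes : ℕ → ℕ
  | 0 => 0
  | n + 1 => 1 ^^^ (blockOnes n <<< 112)

/-- A map applied to all blocks. -/
def pcompAux (M : ℕ) : List ℕ → ℕ → ℕ
  | [], _ => 0
  | c :: cs, X => ((X &&& M) * c) ^^^ pcompAux M cs (X >>> 1)

/-- Fast composition. -/
def fcomp (A B : List ℕ) : List ℕ := unpack 112 (pcompAux (blockOnes 112) A (pack B))

theorem xor_block {a : ℕ} (ha : a < 2 ^ 112) (r : ℕ) : a ^^^ (r <<< 112) = 2 ^ 112 * r + a := by
  refine Nat.eq_of_testBit_eq fun i => ?_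
  rw [Nat.testBit_two_pow_mul_add r ha, Nat.testBit_xor, Nat.testBit_shiftLeft]
  split_ifs with h
  · simp [show ¬ 112 ≤ i by omega]
  · rw [Nat.testBit_lt_two_pow (ha.trans_le (Nat.pow_le_pow_right two_pos (by omega)))]
    simp [show 112 ≤ i by omega]

theorem shiftRight_block {a : ℕ} (ha : a < 2 ^ 112) (r : ℕ) : (a ^^^ (r <<< 112)) >>> 112 = r := by
  refine Nat.eq_of_testBit_eq fun i => ?_
  rw [Nat.testBit_shiftRight, Nat.testBit_xor, Nat.testBit_shiftLeft,
    Nat.testBit_lt_two_pow (ha.trans_le (Nat.pow_le_pow_right two_pos (by omega)))]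
  simp

theorem mod_block {a : ℕ} (ha : a < 2 ^ 112) (r : ℕ) : (a ^^^ (r <<< 112)) % 2 ^ 112 = a := by
  rw [xor_block ha, Nat.mul_add_mod, Nat.mod_eq_of_lt ha]

theorem unpack_pack : ∀ L : List ℕ, (∀ v ∈ L, v < 2 ^ 112) → unpack L.length (pack L) = L
  | [], _ => rfl
  | c :: cs, h => by
    have hc := h c List.mem_cons_self
    rw [List.length_cons, unpack, pack, mod_block hc, shiftRight_block hc,
      unpack_pack cs fun v hv => h v (List.mem_cons_of_mem _ hv)]

theorem mask_block (k : ℕ) (hk : k < 112) {v : ℕ} (hv : v < 2 ^ 112) (r n : ℕ) :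
    ((v ^^^ (r <<< 112)) >>> k) &&& (1 ^^^ (blockOnes n <<< 112)) =
      (if v.testBit k then 1 else 0) ^^^ (((r >>> k) &&& blockOnes n) <<< 112) := by
  refine Nat.eq_of_testBit_eq fun i => ?_
  simp only [Nat.testBit_and, Nat.testBit_shiftRight, Nat.testBit_xor, Nat.testBit_shiftLeft]
  rcases Nat.lt_or_ge i 112 with hi | hi
  · have h1 : ¬ i ≥ 112 := by omega
    rcases Nat.eq_zero_or_pos i with rfl | hp
    · cases hb : v.testBit k <;> simp [hb, show ¬ 112 ≤ k by omega]
    · have h2 : Nat.testBit 1 i = false := Nat.testBit_lt_two_pow (Nat.one_lt_two_pow hp.ne')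
      cases hb : v.testBit k <;> simp [hb, h1, h2]
  · have h2 : Nat.testBit 1 i = false := Nat.testBit_lt_two_pow (Nat.one_lt_two_pow (by omega))
    have h3 : v.testBit (k + i) = false :=
      Nat.testBit_lt_two_pow (hv.trans_le (Nat.pow_le_pow_right two_pos (by omega)))
    cases hb : v.testBit k <;> simp [hb, h2, h3, show 112 ≤ k + i by omega, show i ≥ 112 from hi,
      show k + i - 112 = k + (i - 112) by omega]

theorem mask_mul (k : ℕ) (hk : k < 112) {c : ℕ} (hc : c < 2 ^ 112) : ∀ L : List ℕ, (∀ v ∈ L, v < 2 ^ 112) →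
    ((pack L >>> k) &&& blockOnes L.length) * c = pack (L.map fun v => if v.testBit k then c else 0)
  | [], _ => by simp [pack, blockOnes]
  | v :: vs, h => by
    have hv := h v List.mem_cons_self
    rw [List.length_cons, pack, blockOnes, mask_block k hk hv, List.map_cons, pack,
      ← mask_mul k hk hc vs fun w hw => h w (List.mem_cons_of_mem _ hw)]
    have hb : (if v.testBit k then 1 else 0 : ℕ) < 2 ^ 112 := by split <;> norm_num
    have hbc : (if v.testBit k then c else 0 : ℕ) < 2 ^ 112 := by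
      split
      · exact hc
      · exact Nat.two_pow_pos _
    rw [xor_block hb, xor_block hbc]
    split <;> ring

theorem pack_xor (f g : ℕ → ℕ) : ∀ L : List ℕ,
    pack (L.map f) ^^^ pack (L.map g) = pack (L.map fun v => f v ^^^ g v)
  | [] => by simp [pack]
  | v :: vs => by
    simp only [List.map_cons, pack]
    rw [← pack_xor f g vs]
    refine Nat.eq_of_testBit_eq fun i => ?_
    simp only [Nat.testBit_xor, Nat.testBit_shiftLeft]
    cases decide (i ≥ 112) <;> cases (f v).testBit i <;> cases (g v).testBit i <;>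
      cases (pack (vs.map f)).testBit (i - 112) <;> cases (pack (vs.map g)).testBit (i - 112) <;> rfl

theorem pcompAux_eq (L : List ℕ) (hL : ∀ v ∈ L, v < 2 ^ 112) : ∀ (cs : List ℕ) (k : ℕ), k + cs.length ≤ 112 →
    (∀ c ∈ cs, c < 2 ^ 112) →
    pcompAux (blockOnes L.length) cs (pack L >>> k) = pack (L.map fun v => ap cs (v >>> k))
  | [], k, _, _ => by
    rw [pcompAux]
    clear hL
    induction L with
    | nil => rfl
    | cons v vs ih =>
      simp only [List.map_cons, pack, ap] at ih ⊢
      rw [← ih]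
      simp
  | c :: cs, k, hk, hcs => by
    simp only [List.length_cons] at hk
    rw [pcompAux, mask_mul k (by omega) (hcs c List.mem_cons_self) L hL, ← Nat.shiftRight_add,
      pcompAux_eq L hL cs (k + 1) (by omega) (fun d hd => hcs d (List.mem_cons_of_mem _ hd)), pack_xor]
    congr 1
    refine List.map_congr_left fun v _ => ?_
    rw [ap_cons, Nat.testBit_shiftRight, Nat.shiftRight_add, Nat.shiftRight_one]
    simp

/-- A list of 112 images below the bound. -/
def Ok (L : List ℕ) : Prop := L.length = 112 ∧ ∀ v ∈ L, v < 2 ^ 112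

theorem ap_lt {A : List ℕ} (hA : ∀ v ∈ A, v < 2 ^ 112) : ∀ n, ap A n < 2 ^ 112 := by
  induction A with
  | nil => intro n; exact Nat.two_pow_pos _
  | cons c cs ih =>
    intro n
    rw [ap_cons]
    refine Nat.xor_lt_two_pow ?_ (ih (fun v hv => hA v (List.mem_cons_of_mem _ hv)) _)
    split
    · exact hA c List.mem_cons_self
    · exact Nat.two_pow_pos _

theorem ok_mcomp {A B : List ℕ} (hA : Ok A) (hB : Ok B) : Ok (mcomp A B) :=
  ⟨by simp [mcomp, hB.1], fun v hv => by
    obtain ⟨w, -, rfl⟩ := List.mem_map.1 hv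
    exact ap_lt hA.2 w⟩

theorem fcomp_eq {A B : List ℕ} (hA : Ok A) (hB : Ok B) : fcomp A B = mcomp A B := by
  have h := pcompAux_eq B hB.2 A 0 (by rw [hA.1]) hA.2
  simp only [Nat.shiftRight_zero, hB.1] at h
  have h2 : (mcomp A B).length = 112 := (ok_mcomp hA hB).1
  rw [fcomp, h, show pack (B.map fun v => ap A v) = pack (mcomp A B) from rfl]
  conv_lhs => rw [← h2]
  exact unpack_pack _ (ok_mcomp hA hB).2

theorem ok_idMat : Ok idMat := by
  refine ⟨by simp [idMat], fun v hv => ?_⟩
  obtain ⟨i, hi, rfl⟩ := List.mem_map.1 hv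
  exact Nat.pow_lt_pow_right one_lt_two (List.mem_range.1 hi)

/-- The bound, decidably. -/
def okB (L : List ℕ) : Bool := Nat.beq L.length 112 && L.all fun v => Nat.blt v (2 ^ 112)

theorem ok_of_okB {L : List ℕ} (h : okB L = true) : Ok L := by
  simp only [okB, Bool.and_eq_true, Nat.beq_eq, List.all_eq_true, Nat.blt_eq] at h
  exact h

/-- The fast value of a word. -/
def wordMatF (T : List (List ℕ)) : List ℕ → List ℕ
  | [] => idMat
  | i :: w => fcomp (T.getD i idMat) (wordMatF T w)

theorem wordMatF_eq (T : List (List ℕ)) (hT : ∀ i, Ok (T.getD i idMat)) :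
    ∀ w : List ℕ, wordMatF T w = wordMat T w ∧ Ok (wordMat T w)
  | [] => ⟨rfl, ok_idMat⟩
  | i :: w => by
    obtain ⟨e, h⟩ := wordMatF_eq T hT w
    exact ⟨by rw [wordMatF, wordMat, e, fcomp_eq (hT i) h], ok_mcomp (hT i) h⟩

theorem ok_getD {T : List (List ℕ)} (h : T.all okB = true) (i : ℕ) : Ok (T.getD i idMat) := by
  rcases Nat.lt_or_ge i T.length with hi | hi
  · rw [List.getD_eq_getElem _ _ hi]
    exact ok_of_okB (List.all_eq_true.1 h _ (List.getElem_mem hi))
  · rw [List.getD_eq_default _ _ hi]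
    exact ok_idMat

end Cfsg.Agent.J4Cent
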