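import Cfsg.Agent.Lib.Golay.Mathieu
import Cfsg.Agent.Lib.J4Cent.HexData

/-!
The automorphism group of the Mathieu group on 22 points as the image group on the seventy-seven octads.
-/

set_option autoImplicit false
set_option linter.unusedSimpArgs false
set_option maxRecDepth 100000

namespace Cfsg.Agent.J4Cent

open Cfsg Cfsg.Agent.PermCert Cfsg.Agent.Golay Cfsg.Agent.Golay.Cert
open scoped Pointwise

/-- An octad through the two points. -/
def hex (i : Fin 77) : Finset GolayPt := maskSet (hexMasks.getD i 0)

/-- The image of a generator. -/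
def gperm (i : ℕ) : Equiv.Perm GolayPt := permOf (hexElts.getD i (one 5 24))

/-- The setwise stabiliser of the two points. -/
def duadStab : Subgroup (Equiv.Perm GolayPt) := stabIn [8388609]

/-- The image group. -/
def hexGroup : Subgroup (Equiv.Perm GolayPt) := Subgroup.closure (gperm '' Set.Iio 14)

/-- The group of index two. -/
def hexSimple : Subgroup (Equiv.Perm GolayPt) := stabIn m22Inv

/-- Signature of a point in the octads. -/
def sig (a : ℕ) : ℕ :=
  (List.range 77).foldl (fun acc i => if (hexMasks.getD i 0).testBit a then acc ||| (1 <<< i) else acc) 0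

theorem elts_ok : (hexElts.all fun e => validElt 5 24 e && isAutB e && Nat.beq (imgMask e 8388609) 8388609) = true := by
  decide +kernel

theorem gperm_mem (i : ℕ) : gperm i ∈ duadStab := by
  unfold gperm
  by_cases hi : i < hexElts.length
  · rw [List.getD_eq_getElem _ _ hi]
    have h := List.all_eq_true.1 elts_ok _ (List.getElem_mem hi)
    simp only [Bool.and_eq_true, Nat.beq_eq] at h
    refine mem_stabIn.2 ⟨permOf_mem_M24 h.1.1 h.1.2, fun o ho => ?_⟩
    rw [List.mem_singleton.1 ho, maskSet_imgMask h.1.1, h.2]
  · rw [List.getD_eq_default _ _ (by omega), show permOf (one 5 24) = 1 by decide +kernel]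
    exact one_mem _

theorem hexGroup_le : hexGroup ≤ duadStab :=
  (Subgroup.closure_le _).2 (by rintro _ ⟨i, -, rfl⟩; exact gperm_mem i)

theorem gperm_mem_hexGroup {i : ℕ} (hi : i < 14) : gperm i ∈ hexGroup := Subgroup.subset_closure ⟨i, hi, rfl⟩

theorem words_ok : (hexWords.getD 0 []).all (· < 14) = true ∧ (hexWords.getD 1 []).all (· < 14) = true ∧
    permOf (m22Gens.getD 0 (one 5 24)) = ((hexWords.getD 0 []).map gperm).prod ∧
    permOf (m22Gens.getD 1 (one 5 24)) = ((hexWords.getD 1 []).map gperm).prod := by
  decide +kernel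

theorem hexSimple_le : hexSimple ≤ hexGroup := by
  rw [hexSimple, ← closure_eq_stabIn m22_ok, Subgroup.closure_le]
  have hw : ∀ w : List ℕ, w.all (· < 14) = true → (w.map gperm).prod ∈ hexGroup := fun w hw =>
    list_prod_mem (by
      intro x hx
      obtain ⟨i, hi, rfl⟩ := List.mem_map.1 hx
      exact gperm_mem_hexGroup (by simpa using List.all_eq_true.1 hw i hi))
  obtain ⟨w0, w1, e0, e1⟩ := words_ok
  intro σ hσ
  have hσ' : σ ∈ m22Gens.map permOf := hσ
  rw [show m22Gens.map permOf = [permOf (m22Gens.getD 0 (one 5 24)), permOf (m22Gens.getD 1 (one 5 24))] from rfl,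
    List.mem_cons, List.mem_singleton] at hσ'
  rcases hσ' with rfl | rfl
  · exact e0 ▸ hw _ w0
  · exact e1 ▸ hw _ w1

theorem isSimpleGroup_hexSimple : IsSimpleGroup ↥hexSimple := by
  rw [hexSimple, stabIn_m22]; exact isSimpleGroup_M22

theorem card_hexSimple : Nat.card ↥hexSimple = 443520 := card_stabIn_m22

theorem card_duadStab_le : Nat.card ↥duadStab ≤ 887040 := by
  classical
  have hS : ∀ σ, σ ∈ duadStab → σ none = none → σ ∈ hexSimple := by
    intro σ hσ h0
    rw [hexSimple, stabIn_m22, mem_stabSets]
    obtain ⟨hM, hd⟩ := mem_stabIn.1 hσ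
    refine ⟨hM, ?_⟩
    have hset : σ • ({none, some 0} : Finset GolayPt) = {none, some 0} := by
      have h := hd 8388609 List.mem_cons_self
      rwa [show maskSet 8388609 = ({none, some 0} : Finset GolayPt) by decide +kernel] at h
    have h1 : σ (some 0) = some 0 := by
      have hmem : σ (some 0) ∈ ({none, some 0} : Finset GolayPt) :=
        hset ▸ Finset.smul_mem_smul_finset (a := σ) (by simp)
      rcases Finset.mem_insert.1 hmem with h | h
      · exact absurd (σ.injective (h.trans h0.symm)) (by simp)
      · simpa using h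
    intro s hs
    simp only [List.mem_cons, List.not_mem_nil, or_false] at hs
    rcases hs with rfl | rfl <;> simp [smul_singleton_eq_iff, h0, h1]
  have hidx : (hexSimple.subgroupOf duadStab).index ≤ 2 := by
    let f : ↥duadStab ⧸ hexSimple.subgroupOf duadStab → Bool :=
      Quotient.lift (fun σ => decide ((σ : Equiv.Perm GolayPt) none = none)) (by
        intro a b hab
        have h : (a⁻¹ * b : ↥duadStab) ∈ hexSimple.subgroupOf duadStab := QuotientGroup.leftRel_apply.1 hab
        rw [Subgroup.mem_subgroupOf, hexSimple, stabIn_m22, mem_stabSets] at h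
        have hn : ((a⁻¹ * b : ↥duadStab) : Equiv.Perm GolayPt) none = none :=
          (smul_singleton_eq_iff _ _).1 (h.2 _ List.mem_cons_self)
        have hb : (b : Equiv.Perm GolayPt) none = (a : Equiv.Perm GolayPt) none := by
          have := congrArg (a : Equiv.Perm GolayPt) hn
          simpa using this
        simp [hb])
    have hf : Function.Injective f := by
      intro x y e
      induction x using QuotientGroup.induction_on with | H a =>
      induction y using QuotientGroup.induction_on with | H b =>
      refine QuotientGroup.eq.2 (Subgroup.mem_subgroupOf.2 (hS _ (SetLike.coe_mem _) ?_))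
      have e' : ((a : Equiv.Perm GolayPt) none = none) ↔ ((b : Equiv.Perm GolayPt) none = none) :=
        decide_eq_decide.1 e
      have hcases : ∀ σ : ↥duadStab, (σ : Equiv.Perm GolayPt) none ≠ none →
          (σ : Equiv.Perm GolayPt) none = some 0 := by
        intro σ hne
        have h := (mem_stabIn.1 σ.2).2 8388609 List.mem_cons_self
        rw [show maskSet 8388609 = ({none, some 0} : Finset GolayPt) by decide +kernel] at h
        have hmem : (σ : Equiv.Perm GolayPt) none ∈ ({none, some 0} : Finset GolayPt) :=
          h ▸ Finset.smul_mem_smul_finset (a := (σ : Equiv.Perm GolayPt)) (by simp)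
        simpa [hne] using hmem
      have hab : (b : Equiv.Perm GolayPt) none = (a : Equiv.Perm GolayPt) none := by
        by_cases ha : (a : Equiv.Perm GolayPt) none = none
        · rw [ha, e'.1 ha]
        · rw [hcases a ha, hcases b (fun hb => ha (e'.2 hb))]
      simp [hab]
    exact le_trans (Nat.card_le_card_of_injective f hf) (by simp)
  have hle : hexSimple ≤ duadStab := hexSimple_le.trans hexGroup_le
  calc Nat.card ↥duadStab = Nat.card ↥(hexSimple.subgroupOf duadStab) * (hexSimple.subgroupOf duadStab).index :=
        (Subgroup.card_mul_index _).symm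
    _ ≤ 443520 * 2 := by
        rw [Nat.card_congr (Subgroup.subgroupOfEquivOfLe hle).toEquiv, card_hexSimple]
        exact Nat.mul_le_mul_left _ hidx
    _ = 887040 := by norm_num

theorem outer_witness : gperm 0 none ≠ none := by decide +kernel

theorem card_hexGroup : Nat.card ↥hexGroup = 887040 := by
  have h1 := (Subgroup.card_le_of_le hexGroup_le).trans card_duadStab_le
  have h2 := Subgroup.card_dvd_of_le hexSimple_le
  rw [card_hexSimple] at h2
  obtain ⟨k, hk⟩ := h2
  have hk1 : k ≠ 1 := by
    intro h
    have heq : hexSimple = hexGroup :=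
      Subgroup.eq_of_le_of_card_ge hexSimple_le (by rw [hk, h, card_hexSimple])
    have hm := gperm_mem_hexGroup (i := 0) (by norm_num)
    rw [← heq, hexSimple, stabIn_m22, mem_stabSets] at hm
    exact outer_witness ((smul_singleton_eq_iff _ _).1 (hm.2 _ List.mem_cons_self))
  have hk0 : k ≠ 0 := fun h => by
    rw [h, mul_zero] at hk
    exact Nat.card_pos.ne' hk
  rw [hk] at h1 ⊢
  omega

theorem sig_ok : ∀ a < 24, ∀ b < 24, sig a = sig b → a = b ∨ (a = 0 ∧ b = 23) ∨ (a = 23 ∧ b = 0) := by
  decide +kernel

theorem hexMasks_len : hexMasks.length = 77 := by decide +kernel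

theorem swap_ok : validElt 5 24 swapElt = true ∧ ∃ v ∈ gBasis, inCode (imgMask swapElt v.2) = false := by
  decide +kernel

/-- An element of the code's group fixing all the octads through the two points is trivial. -/
theorem eq_one_of_fix_hex {σ : Equiv.Perm GolayPt} (hσ : σ ∈ M24) (h : ∀ i, σ • hex i = hex i) : σ = 1 := by
  have hbit : ∀ p, ∀ i < 77, (hexMasks.getD i 0).testBit (idx (σ p)) = (hexMasks.getD i 0).testBit (idx p) := by
    intro p i hi
    have hh : (σ p ∈ hex ⟨i, hi⟩) ↔ (p ∈ hex ⟨i, hi⟩) := by
      conv_lhs => rw [← h ⟨i, hi⟩]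
      exact Finset.smul_mem_smul_finset_iff σ
    simp only [hex, mem_maskSet] at hh
    exact Bool.eq_iff_iff.2 hh
  have hsig : ∀ p, sig (idx (σ p)) = sig (idx p) := by
    intro p
    unfold sig
    have : ∀ (l : List ℕ) (acc : ℕ), (∀ i ∈ l, i < 77) →
        l.foldl (fun acc i => if (hexMasks.getD i 0).testBit (idx (σ p)) then acc ||| (1 <<< i) else acc) acc =
          l.foldl (fun acc i => if (hexMasks.getD i 0).testBit (idx p) then acc ||| (1 <<< i) else acc) acc := by
      intro l
      induction l with
      | nil => intros; rfl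
      | cons i l ih =>
        intro acc hl
        simp only [List.foldl_cons, hbit p i (hl i List.mem_cons_self)]
        exact ih _ fun j hj => hl j (List.mem_cons_of_mem _ hj)
    exact this _ _ fun i hi => List.mem_range.1 hi
  have hp : ∀ p, σ p = p ∨ (idx (σ p) = 0 ∧ idx p = 23) ∨ (idx (σ p) = 23 ∧ idx p = 0) := fun p => by
    rcases sig_ok _ (idx_lt _) _ (idx_lt _) (hsig p) with e | e | e
    · exact Or.inl (idx_injective e)
    · exact Or.inr (Or.inl e)
    · exact Or.inr (Or.inr e)
  by_cases h0 : σ (pt 0) = pt 0
  · refine Equiv.ext fun p => ?_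
    rcases hp p with e | ⟨e1, e2⟩ | ⟨e1, e2⟩
    · exact e
    · have : σ p = σ (pt 0) := idx_injective (by rw [h0, e1, idx_pt]; rfl)
      rw [σ.injective this, idx_pt] at e2
      simp at e2
    · rw [show p = pt 0 from idx_injective (by rw [e2, idx_pt]; rfl)]
      exact h0
  exfalso
  obtain ⟨hv, v, hv1, hv2⟩ := swap_ok
  have hswap : σ = permOf swapElt := by
    have h23 : σ (pt 0) = pt 23 := by
      rcases hp (pt 0) with e | ⟨-, e⟩ | ⟨e, -⟩
      · exact absurd e h0
      · rw [idx_pt] at e; simp at e
      · exact idx_injective (by rw [e, idx_pt]; rfl)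
    have h32 : σ (pt 23) = pt 0 := by
      rcases hp (pt 23) with e | ⟨e, -⟩ | ⟨-, e⟩
      · exact absurd (σ.injective (h23.trans e.symm)) (by decide)
      · exact idx_injective (by rw [e, idx_pt]; rfl)
      · rw [idx_pt] at e; simp at e
    refine eq_permOf hv fun p => ?_
    by_cases hp0 : p = pt 0
    · rw [hp0, h23]; decide +kernel
    by_cases hp1 : p = pt 23
    · rw [hp1, h32]; decide +kernel
    rcases hp p with e | ⟨-, e⟩ | ⟨-, e⟩
    · have : ∀ q : GolayPt, q ≠ pt 0 → q ≠ pt 23 → idx q = get 5 swapElt.1 (idx q) := by decide +kernel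
      rw [e]; exact this p hp0 hp1
    · exact absurd (idx_injective (by rw [e, idx_pt]; rfl)) hp1
    · exact absurd (idx_injective (by rw [e, idx_pt]; rfl)) hp0
  have hmem : maskSet v.2 ∈ supports (golayCode : Set (GolayPt → ZMod 2)) :=
    mem_supports.2 ⟨v.2, by
      have : ∀ w ∈ gBasis, w.2 ∈ codeList := fun w hw => inCode_iff.1 (by
        have hh : (gBasis.all fun w => inCode w.2) = true := by decide +kernel
        exact List.all_eq_true.1 hh w hw)
      exact this v hv1, rfl⟩
  have h2 := mem_M24_iff.1 hσ _ hmem
  rw [hswap, maskSet_imgMask hv] at h2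
  obtain ⟨m, hm, e⟩ := mem_supports.1 h2
  have : m = imgMask swapElt v.2 :=
    maskSet_inj (lt_of_mem_codeList hm) (by rw [imgMask]; exact mkMask_lt _ _) e
  rw [this, ← inCode_iff, hv2] at hm
  exact Bool.noConfusion hm

end Cfsg.Agent.J4Cent
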