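import Cfsg.Agent.Lib.J4Cent.HubChecks

/-!
Kernel checks on the nodes 5 to 9.
-/

set_option autoImplicit false
set_option maxRecDepth 100000

namespace Cfsg.Agent.J4Cent

theorem nodesB : ((repData.take 10).drop 5).all nodeOK = true := by decide +kernel

end Cfsg.Agent.J4Cent
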