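import Cfsg.Agent.Lib.J4Cent.Bridge
import Cfsg.Agent.Lib.J4Cent.Count
import Cfsg.Agent.Lib.J4Cent.HubNodesA
import Cfsg.Agent.Lib.J4Cent.HubNodesB
import Cfsg.Agent.Lib.J4Cent.HubNodesC
import Cfsg.Agent.Lib.J4Cent.HubNodesD

/-!
The bound on the centraliser of the translation from the seven suborbits.
-/

set_option autoImplicit false
set_option linter.unusedSectionVars false
set_option maxRecDepth 100000

namespace Cfsg.Agent.J4Cent

open Subgroup MulAction

theorem zMat_eq : trMatF 11 203 = mZ ∧ (sextMask.testBit 203) = true := by decide +kernel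

theorem trMatF_eq : ∀ k m, trMatF k m = trMat k m ∧ Ok (trMat k m)
  | 0, _ => ⟨rfl, ok_idMat⟩
  | k + 1, m => by
    obtain ⟨e, h⟩ := trMatF_eq k m
    simp only [trMatF, trMat]
    cases m.testBit k
    · exact ⟨e, h⟩
    · exact ⟨by rw [cond_true, cond_true, e, fcomp_eq (ok_trI k) h], ok_mcomp (ok_trI k) h⟩

theorem countP_range (n : ℕ) (p : ℕ → Bool) :
    ((List.range n).map p).countP id = ((Finset.range n).filter fun m => p m = true).card := by
  rw [List.countP_map]
  induction n with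
  | zero => rfl
  | succ n ih =>
    rw [List.range_succ, List.countP_append, ih, Finset.range_add_one, Finset.filter_insert]
    cases h : p n <;> simp [h]

theorem rep_checks : repData.all nodeOK = true := by
  have e : repData = (repData.take 5).drop 0 ++ (repData.take 10).drop 5 ++ (repData.take 15).drop 10 ++
      (repData.take 20).drop 15 := rfl
  rw [e]
  simp only [List.all_append, nodesA, nodesB, nodesC, nodesD, Bool.and_self]

namespace MatRep

variable {G : Type*} [Group G] (R : MatRep G)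

/-- The stabiliser of the fixed vector, by generators. -/
def sH : Subgroup G := closure (R.gen '' {i | i < 14 ∧ i ≠ 2})

/-- The translations. -/
def sV : Subgroup G := closure (R.gen '' Set.Ico 3 14)

/-- A translation by bit number. -/
def trEl : ℕ → ℕ → G
  | 0, _ => 1
  | k + 1, m => if m.testBit k then R.gen (3 + k) * trEl k m else trEl k m

/-- The node representatives. -/
def repEl (i : Fin 20) : G := wEl R.gen (repData.getD i.1 ([], [], [], 0)).1

theorem mat_trEl : ∀ k ≤ 11, ∀ m, R.mat (R.trEl k m) = trMat k m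
  | 0, _, _ => R.mat_one
  | k + 1, hk, m => by
    simp only [trEl, trMat]
    cases m.testBit k
    · simpa using mat_trEl k (by omega) m
    · simp only [if_true, cond_true, R.mat_mul, mat_trEl k (by omega) m, R.mat_gen (3 + k) (by omega), trI]

theorem gen_tr {k : ℕ} (hk : k < 11) : R.mat (R.gen (3 + k)) = trI k := R.mat_gen _ (by omega)

theorem tr_sq {k : ℕ} (hk : k < 11) : R.gen (3 + k) * R.gen (3 + k) = 1 := by
  refine R.mat_inj ?_
  have h := all_range tr_checks hk
  simp only [Bool.and_eq_true, beq_iff_eq] at h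
  rw [R.mat_mul, R.gen_tr hk, R.mat_one, ← fcomp_eq (ok_trI k) (ok_trI k), h.1]

theorem tr_comm {i j : ℕ} (hi : i < 11) (hj : j < 11) : Commute (R.gen (3 + i)) (R.gen (3 + j)) := by
  refine R.mat_inj ?_
  have h := all_range tr_checks hi
  simp only [Bool.and_eq_true, beq_iff_eq] at h
  have h2 : fcomp (trI i) (trI j) = fcomp (trI j) (trI i) := beq_iff_eq.1 (all_range h.2 hj)
  rw [R.mat_mul, R.mat_mul, R.gen_tr hi, R.gen_tr hj, ← fcomp_eq (ok_trI i) (ok_trI j),
    ← fcomp_eq (ok_trI j) (ok_trI i), h2]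

theorem tr_comm_el {i : ℕ} (hi : i < 11) : ∀ k ≤ 11, ∀ m, Commute (R.gen (3 + i)) (R.trEl k m)
  | 0, _, _ => Commute.one_right _
  | k + 1, hk, m => by
    simp only [trEl]
    split
    · exact (R.tr_comm hi (by omega)).mul_right (tr_comm_el hi k (by omega) m)
    · exact tr_comm_el hi k (by omega) m

theorem trEl_xor : ∀ k ≤ 11, ∀ a b, R.trEl k (a ^^^ b) = R.trEl k a * R.trEl k b
  | 0, _, _, _ => by simp [trEl]
  | k + 1, hk, a, b => by
    have ih := trEl_xor k (by omega) a b
    have hc := R.tr_comm_el (i := k) (by omega) k (by omega) a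
    have hs := R.tr_sq (k := k) (by omega)
    simp only [trEl, Nat.testBit_xor, ih]
    cases a.testBit k <;> cases b.testBit k <;> simp
    · rw [← mul_assoc, hc.eq, mul_assoc]
    · simp only [mul_assoc]
    · rw [mul_assoc (R.gen (3 + k)), ← mul_assoc (R.trEl k a), ← hc.eq, ← mul_assoc (R.gen (3 + k)),
        ← mul_assoc (R.gen (3 + k)), hs, one_mul]

theorem trEl_zero : ∀ k, R.trEl k 0 = 1
  | 0 => rfl
  | k + 1 => by simp [trEl, trEl_zero k]

theorem trEl_congr : ∀ k, ∀ a b : ℕ, (∀ i < k, a.testBit i = b.testBit i) → R.trEl k a = R.trEl k b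
  | 0, _, _, _ => rfl
  | k + 1, a, b, h => by simp only [trEl, h k (by omega), trEl_congr k a b fun i hi => h i (by omega)]

theorem trEl_mem : ∀ k ≤ 11, ∀ m, R.trEl k m ∈ R.sV
  | 0, _, _ => one_mem _
  | k + 1, hk, m => by
    simp only [trEl]
    split
    · exact mul_mem (subset_closure ⟨3 + k, ⟨by omega, by omega⟩, rfl⟩) (trEl_mem k (by omega) m)
    · exact trEl_mem k (by omega) m

theorem zEl_eq : R.zEl = R.trEl 11 203 :=
  R.mat_inj (by rw [R.mat_zEl, R.mat_trEl 11 le_rfl, ← (trMatF_eq 11 203).1, zMat_eq.1])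

theorem sV_comm {u : G} (hu : u ∈ R.sV) {k : ℕ} (hk : k < 11) : Commute u (R.gen (3 + k)) := by
  induction hu using closure_induction with
  | mem x hx =>
    obtain ⟨i, hi, rfl⟩ := hx
    obtain ⟨j, rfl⟩ : ∃ j, i = 3 + j := ⟨i - 3, by have := hi.1; omega⟩
    exact R.tr_comm (by have := hi.2; omega) hk
  | one => exact Commute.one_left _
  | mul a b _ _ ha hb => exact ha.mul_left hb
  | inv a _ ha => exact ha.inv_left

theorem conj_trEl (g : G) (C : List ℕ) (hC : C.length ≤ 11) (hg : ∀ k < 11, g * R.gen (3 + k) = R.trEl 11 (C.getD k 0) * g) :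
    ∀ k ≤ 11, ∀ m, g * R.trEl k m = R.trEl 11 (ap C (m % 2 ^ k)) * g
  | 0, _, m => by simp [trEl, R.trEl_zero, Nat.mod_one, ap_zero]
  | k + 1, hk, m => by
    have ih := conj_trEl g C hC hg k (by omega) m
    have hmod : m % 2 ^ (k + 1) = (m % 2 ^ k) ^^^ (if m.testBit k then 2 ^ k else 0) := by
      refine Nat.eq_of_testBit_eq fun i => ?_
      simp only [Nat.testBit_xor, Nat.testBit_mod_two_pow]
      rcases lt_trichotomy i k with h | rfl | h
      · cases m.testBit k <;> simp [h, show i < k + 1 by omega, Nat.testBit_two_pow, show k ≠ i by omega]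
      · cases hb : m.testBit i <;> simp [hb, Nat.testBit_two_pow]
      · cases m.testBit k <;>
          simp [show ¬ i < k by omega, show ¬ i < k + 1 by omega, Nat.testBit_two_pow, show k ≠ i by omega]
    rw [hmod, show R.trEl (k + 1) m = if m.testBit k then R.gen (3 + k) * R.trEl k m else R.trEl k m from rfl]
    cases m.testBit k
    · simpa using ih
    · simp only [if_true]
      rw [ap_xor, ap_unit, R.trEl_xor 11 le_rfl, ← mul_assoc, hg k (by omega), mul_assoc, ih, ← mul_assoc,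
        ← R.trEl_xor 11 le_rfl, ← R.trEl_xor 11 le_rfl, Nat.xor_comm]

theorem dblL_eq {b : ℕ} (hb : b < 2 ^ 112) (hid : ap idMat b = b) : ∀ k ≤ 11,
    dblL k b = (List.range (2 ^ k)).map (fun m => ap (R.mat (R.trEl k m)) b) ∧ ∀ v ∈ dblL k b, v < 2 ^ 112
  | 0, _ => by
    refine ⟨?_, fun v hv => by rw [List.mem_singleton.1 hv]; exact hb⟩
    show [b] = _
    simp [trEl, R.mat_one, hid]
  | k + 1, hk => by
    obtain ⟨e, hlt⟩ := dblL_eq hb hid k (by omega)
    refine ⟨?_, fun v hv => ?_⟩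
    · rw [dblL, fapC_eq (ok_trI k) 16 hlt, e, pow_succ, Nat.mul_two, List.range_add, List.map_append, List.map_map,
        List.map_map]
      congr 1
      · refine List.map_congr_left fun m hm => ?_
        have : m.testBit k = false := Nat.testBit_lt_two_pow (List.mem_range.1 hm)
        simp [trEl, this]
      · refine List.map_congr_left fun m hm => ?_
        have hm' := List.mem_range.1 hm
        have h1 : (2 ^ k + m).testBit k = true := by simp [Nat.testBit_two_pow_add_eq, Nat.testBit_lt_two_pow hm']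
        have h2 : R.trEl k (2 ^ k + m) = R.trEl k m :=
          R.trEl_congr k _ _ fun i hi => Nat.testBit_two_pow_add_gt hi m
        simp only [Function.comp_apply, trEl, h1, if_true, R.mat_mul, ap_mcomp, h2, R.gen_tr (show k < 11 by omega)]
    · rw [dblL, List.mem_append] at hv
      rcases hv with hv | hv
      · exact hlt v hv
      · rw [fapC_eq (ok_trI k) 16 hlt] at hv
        obtain ⟨u, -, rfl⟩ := List.mem_map.1 hv
        exact ap_lt (ok_trI k).2 _

theorem ok_mat {r : List ℕ} (hr : ∀ i ∈ r, i < 14) :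
    R.mat (wEl R.gen r) = wordMatF baseT r ∧ Ok (wordMatF baseT r) := by
  obtain ⟨e, h⟩ := wordMatF_eq baseT (ok_getD okBase.1) r
  rw [e]
  exact ⟨R.mat_wEl _ baseT _ fun j hj => R.mat_gen j (hr j hj), h⟩

theorem ap_id_mat (g : G) (v : ℕ) : ap idMat (ap (R.mat g) v) = ap (R.mat g) v :=
  (ap_mcomp idMat (R.mat g) v).symm.trans (congrArg (fun M => ap M v) (by rw [← R.mat_one, ← R.mat_mul, one_mul]))

theorem ap_id_lt {n : ℕ} (h : ap idMat n = n) : n < 2 ^ 112 := h ▸ ap_lt ok_idMat.2 n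

theorem ap_id_two_pow {i : ℕ} (hi : i < 112) : ap idMat (2 ^ i) = 2 ^ i := by
  rw [ap_unit]
  simp [idMat, List.getD, hi]

theorem agree_mem {r ri : List ℕ} (hr : ∀ i ∈ r, i < 14) (hri : ∀ i ∈ ri, i < 14)
    (hinv : (wEl R.gen r)⁻¹ = wEl R.gen ri) {t : ℕ × ℕ} (ht1 : t.1 < 11) (ht2 : t.2 < 112) :
    ∃ f : ℕ → Bool, agreeL (wordMatF baseT r) (wordMatF baseT ri) t = (List.range 2048).map f ∧
      ∀ m, (wEl R.gen r)⁻¹ * R.trEl 11 m * wEl R.gen r ∈ R.sV → f m = true := by
  have he := ap_id_two_pow ht2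
  set g := wEl R.gen r with hg
  refine ⟨fun m => Nat.beq (ap (R.mat (g⁻¹ * R.trEl 11 m * g * R.gen (3 + t.1))) (2 ^ t.2))
    (ap (R.mat (R.gen (3 + t.1) * (g⁻¹ * R.trEl 11 m * g))) (2 ^ t.2)), ?_, fun m hm => ?_⟩
  · have hid1 : ap idMat (ap (trI t.1) (2 ^ t.2)) = ap (trI t.1) (2 ^ t.2) := by
      rw [← R.gen_tr ht1]; exact R.ap_id_mat _ _
    obtain ⟨er, -⟩ := R.ok_mat hr
    obtain ⟨ei, hi⟩ := R.ok_mat hri
    have hA : ∀ b, ap idMat b = b → fapC 16 (wordMatF baseT ri) (dblL 11 (ap (wordMatF baseT r) b)) =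
        (List.range 2048).map fun m => ap (R.mat (g⁻¹ * R.trEl 11 m * g)) b := by
      intro b hb
      have hb2 : ap idMat (ap (wordMatF baseT r) b) = ap (wordMatF baseT r) b := by
        rw [← er]; exact R.ap_id_mat _ _
      obtain ⟨e, hlt⟩ := R.dblL_eq (ap_id_lt hb2) hb2 11 le_rfl
      rw [fapC_eq hi 16 hlt, e, List.map_map]
      refine List.map_congr_left fun m _ => ?_
      rw [Function.comp_apply, hinv, R.mat_mul, R.mat_mul, ap_mcomp, ap_mcomp, ← ei, ← er]
    rw [agreeL, hA _ hid1, hA _ he, fapC_eq (ok_trI t.1) 16 (fun v hv => ?_), List.map_map, List.zipWith_map,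
      List.zipWith_self]
    · refine List.map_congr_left fun m _ => ?_
      simp only [Function.comp_apply, ← R.gen_tr ht1, R.mat_mul, ap_mcomp]
    · obtain ⟨m, -, rfl⟩ := List.mem_map.1 hv
      exact ap_id_lt (R.ap_id_mat _ _)
  · show Nat.beq _ _ = true
    rw [(R.sV_comm hm ht1).eq]
    exact Nat.beq_refl _

theorem agreeAll_mem {r ri : List ℕ} (hr : ∀ i ∈ r, i < 14) (hri : ∀ i ∈ ri, i < 14)
    (hinv : (wEl R.gen r)⁻¹ = wEl R.gen ri) : ∀ ts : List (ℕ × ℕ), (∀ t ∈ ts, t.1 < 11 ∧ t.2 < 112) →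
    ∃ f : ℕ → Bool, agreeAll (wordMatF baseT r) (wordMatF baseT ri) ts = (List.range 2048).map f ∧ ∀ m, sextMask.testBit m = true →
      (wEl R.gen r)⁻¹ * R.trEl 11 m * wEl R.gen r ∈ R.sV → f m = true
  | [], _ => ⟨fun m => sextMask.testBit m, rfl, fun _ h _ => h⟩
  | t :: ts, h => by
    obtain ⟨f, ef, hf⟩ := R.agree_mem hr hri hinv (h t List.mem_cons_self).1 (h t List.mem_cons_self).2
    obtain ⟨f', ef', hf'⟩ := agreeAll_mem hr hri hinv ts fun u hu => h u (List.mem_cons_of_mem _ hu)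
    refine ⟨fun m => f m && f' m, ?_, fun m hm hmem => by simp [hf m hmem, hf' m hm hmem]⟩
    rw [agreeAll, ef, ef', List.zipWith_map, List.zipWith_self]

theorem trEl_inj : ∀ a < 2048, ∀ b < 2048, R.trEl 11 a = R.trEl 11 b → a = b := by
  intro a ha b hb e
  by_contra hne
  have hx : a ^^^ b ≠ 0 := fun h => hne (by
    have := congrArg (· ^^^ b) h
    simpa [Nat.xor_assoc] using this)
  have hlt : a ^^^ b < 2 ^ 11 := Nat.xor_lt_two_pow (by simpa using ha) (by simpa using hb)
  have h1 : R.trEl 11 (a ^^^ b) = 1 := by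
    rw [R.trEl_xor 11 le_rfl, e, ← R.trEl_xor 11 le_rfl, Nat.xor_self, R.trEl_zero]
  have hp : probe < 112 := by decide
  obtain ⟨ed, -⟩ := R.dblL_eq (Nat.pow_lt_pow_right one_lt_two hp) (ap_id_two_pow hp) 11 le_rfl
  have hc := probe_checks
  rw [ed] at hc
  obtain ⟨n, hn⟩ : ∃ n, (a ^^^ b) = n + 1 := ⟨(a ^^^ b) - 1, by omega⟩
  have hmem : 2 ^ probe ∈ (List.map (fun m => ap (R.mat (R.trEl 11 m)) (2 ^ probe)) (List.range (2 ^ 11))).tail := by
    rw [← List.map_tail, List.tail_range]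
    refine List.mem_map.2 ⟨a ^^^ b, ?_, ?_⟩
    · rw [List.mem_range']
      refine ⟨(a ^^^ b) - 1, ?_, ?_⟩ <;> norm_num at hlt ⊢ <;> omega
    · rw [h1, R.mat_one, ap_id_two_pow hp]
  have hc2 := List.all_eq_true.1 hc _ hmem
  simp at hc2

theorem conjX_rule : ∀ k < 11, R.gen 0 * R.gen (3 + k) = R.trEl 11 (conjX.getD k 0) * R.gen 0 ∧
    R.gen 1 * R.gen (3 + k) = R.trEl 11 (conjY.getD k 0) * R.gen 1 := by
  intro k hk
  have h := all_range conj_checks hk
  simp only [Bool.and_eq_true, beq_iff_eq] at h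
  constructor <;> refine R.mat_inj ?_
  · rw [R.mat_mul, R.mat_mul, R.gen_tr hk, R.mat_trEl 11 le_rfl, R.mat_gen 0 (by norm_num),
      ← fcomp_eq (ok_getD okBase.1 0) (ok_trI k), ← fcomp_eq (trMatF_eq 11 _).2 (ok_getD okBase.1 0),
      ← (trMatF_eq 11 _).1]
    exact h.1
  · rw [R.mat_mul, R.mat_mul, R.gen_tr hk, R.mat_trEl 11 le_rfl, R.mat_gen 1 (by norm_num),
      ← fcomp_eq (ok_getD okBase.1 1) (ok_trI k), ← fcomp_eq (trMatF_eq 11 _).2 (ok_getD okBase.1 1),
      ← (trMatF_eq 11 _).1]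
    exact h.2

variable [Finite G]

theorem sH_normal : ∀ h ∈ R.sH, ∀ v ∈ R.sV, h * v * h⁻¹ ∈ R.sV := by
  refine closure_le_normalizer ?_
  rintro _ ⟨i, ⟨hi, hi2⟩, rfl⟩ v hv
  induction hv using closure_induction with
  | mem x hx =>
    obtain ⟨j, hj, rfl⟩ := hx
    obtain ⟨j, rfl⟩ : ∃ j', j = 3 + j' := ⟨j - 3, by have := hj.1; omega⟩
    have hj' : j < 11 := by have := hj.2; omega
    rcases (by omega : i = 0 ∨ i = 1 ∨ 3 ≤ i) with rfl | rfl | h3
    · rw [(R.conjX_rule j hj').1, mul_inv_cancel_right]; exact R.trEl_mem 11 le_rfl _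
    · rw [(R.conjX_rule j hj').2, mul_inv_cancel_right]; exact R.trEl_mem 11 le_rfl _
    · obtain ⟨i, rfl⟩ : ∃ i', i = 3 + i' := ⟨i - 3, by omega⟩
      rw [(R.tr_comm (by omega) hj').eq, mul_inv_cancel_right]
      exact subset_closure ⟨_, hj, rfl⟩
  | one => simp
  | mul a b _ _ ha hb =>
    rw [show R.gen i * (a * b) * (R.gen i)⁻¹ = R.gen i * a * (R.gen i)⁻¹ * (R.gen i * b * (R.gen i)⁻¹) by group]
    exact mul_mem ha hb
  | inv a _ ha =>
    rw [show R.gen i * a⁻¹ * (R.gen i)⁻¹ = (R.gen i * a * (R.gen i)⁻¹)⁻¹ by group]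
    exact inv_mem ha

/-- The bound, given the nodes. -/
theorem card_cent_le (hH : Nat.card ↥R.sH ≤ 501397585920) {K : Subgroup G} (hK : K ≤ R.sH)
    (hcov : ∀ g : G, ∃ i, ∃ h ∈ K, (g : G ⧸ R.sH) = ((h * R.repEl i : G) : G ⧸ R.sH))
    (hsize : ∀ i : Fin 20, (orbit ↥K ((R.repEl i : G) : G ⧸ R.sH)).ncard ≤ 244823040 / nodeSizes.getD i.1 0) :
    Nat.card ↥(centralizer ({R.zEl} : Set G)) ≤ 21799895040 := by
  classical
  set S : Finset G := ((Finset.range 2048).filter fun m => sextMask.testBit m = true).image (R.trEl 11)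
  have hScard : S.card = 1771 := by
    rw [Finset.card_image_of_injOn fun a ha b hb e => R.trEl_inj a (by simpa using (Finset.mem_filter.1 ha).1)
      b (by simpa using (Finset.mem_filter.1 hb).1) e]
    rw [← countP_range, List.countP_map]
    exact mask_count.1
  have hconj : ∀ {C : List ℕ} {g : G}, C.length ≤ 11 → (∀ k < 11, g * R.gen (3 + k) = R.trEl 11 (C.getD k 0) * g) →
      ∀ m < 2048, g * R.trEl 11 m * g⁻¹ = R.trEl 11 (ap C m) := fun {C g} hC hg m hm => by
    rw [R.conj_trEl g C hC hg 11 le_rfl m, mul_inv_cancel_right, Nat.mod_eq_of_lt (by simpa using hm)]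
  have hX := hconj (C := conjX) (g := R.gen 0) (by decide) fun k hk => (R.conjX_rule k hk).1
  have hY := hconj (C := conjY) (g := R.gen 1) (by decide) fun k hk => (R.conjX_rule k hk).2
  have hmH : ∀ i, i < 14 → i ≠ 2 → R.gen i ∈ R.sH := fun i a b => subset_closure ⟨i, ⟨a, b⟩, rfl⟩
  -- the tree
  have htree : ∀ (L : List (ℕ × ℕ)) (s t : ℕ), growS L s = some t →
      (∀ m, s.testBit m = true → m < 2048 ∧ ∃ h ∈ R.sH, h * R.zEl * h⁻¹ = R.trEl 11 m) →
      ∀ m, t.testBit m = true → m < 2048 ∧ ∃ h ∈ R.sH, h * R.zEl * h⁻¹ = R.trEl 11 m := by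
    intro L
    induction L with
    | nil =>
      intro s t h hs
      obtain rfl : s = t := Option.some.inj h
      exact hs
    | cons d L ih =>
      obtain ⟨p, g⟩ := d
      intro s t h hs
      rw [growS] at h
      split at h
      · rename_i hp
        refine ih _ t h fun m hm => ?_
        simp only [Nat.testBit_or, Nat.one_shiftLeft, Nat.testBit_two_pow, Bool.or_eq_true, decide_eq_true_eq] at hm
        rcases hm with hm | rfl
        · exact hs m hm
        · obtain ⟨hp2, k, hk, ek⟩ := hs p hp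
          have hbd := all_range mask_checks hp2
          simp only [Bool.and_eq_true, Nat.blt_eq] at hbd
          by_cases hg : g = 0
          · refine ⟨by simpa [hg] using hbd.1.1, R.gen 0 * k, mul_mem (hmH 0 (by norm_num) (by norm_num)) hk, ?_⟩
            rw [if_pos hg, ← hX p hp2, ← ek]; group
          · refine ⟨by simpa [hg] using hbd.1.2, R.gen 1 * k, mul_mem (hmH 1 (by norm_num) (by norm_num)) hk, ?_⟩
            rw [if_neg hg, ← hY p hp2, ← ek]; group
      · exact absurd h (by simp)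
  have hS : ∀ w ∈ S, ∃ h ∈ R.sH, h * R.zEl * h⁻¹ = w := by
    intro w hw
    obtain ⟨m, hm, rfl⟩ := Finset.mem_image.1 hw
    refine (htree sextTree _ _ tree_checks (fun n hn => ?_) m (Finset.mem_filter.1 hm).2).2
    simp only [Nat.one_shiftLeft, Nat.testBit_two_pow, decide_eq_true_eq] at hn
    subst hn
    exact ⟨by norm_num, 1, one_mem _, by rw [R.zEl_eq]; group⟩
  have hinv : ∀ h ∈ R.sH, ∀ w ∈ S, h * w * h⁻¹ ∈ S := by
    intro h hh
    change h ∈ (closure (R.gen '' {i | i < 14 ∧ i ≠ 2})).toSubmonoid at hh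
    rw [closure_toSubmonoid_of_finite] at hh
    induction hh using Submonoid.closure_induction with
    | mem x hx =>
      obtain ⟨i, ⟨hi, hi2⟩, rfl⟩ := hx
      intro w hw
      obtain ⟨m, hm, rfl⟩ := Finset.mem_image.1 hw
      obtain ⟨hm1, hm2⟩ := Finset.mem_filter.1 hm
      have hbd := all_range mask_checks (Finset.mem_range.1 hm1)
      simp only [Bool.and_eq_true, Nat.blt_eq, hm2, Bool.not_true, Bool.false_or] at hbd
      have hin : ∀ n, n < 2048 → sextMask.testBit n = true → R.trEl 11 n ∈ S := fun n a b =>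
        Finset.mem_image_of_mem _ (Finset.mem_filter.2 ⟨Finset.mem_range.2 a, b⟩)
      rcases (by omega : i = 0 ∨ i = 1 ∨ 3 ≤ i) with rfl | rfl | h3
      · rw [hX m (Finset.mem_range.1 hm1)]; exact hin _ hbd.1.1 hbd.2.1
      · rw [hY m (Finset.mem_range.1 hm1)]; exact hin _ hbd.1.2 hbd.2.2
      · obtain ⟨i, rfl⟩ : ∃ i', i = 3 + i' := ⟨i - 3, by omega⟩
        rw [(R.tr_comm_el (by omega) 11 le_rfl m).eq, mul_inv_cancel_right]
        exact hw
    | one => intro w hw; simpa using hw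
    | mul a b _ _ ha hb =>
      intro w hw
      rw [show a * b * w * (a * b)⁻¹ = a * (b * w * b⁻¹) * a⁻¹ by group]
      exact ha _ (hb w hw)
  have hnum : ∀ i : Fin 20, (S.filter fun w => (R.repEl i)⁻¹ * w * R.repEl i ∈ R.sV).card ≤
      (repData.getD i.1 ([], [], [], 0)).2.2.2 := by
    intro i
    have hlen : repData.length = 20 := rfl
    have hd := List.all_eq_true.1 rep_checks _ (List.getElem_mem (l := repData) (n := i.1) (by omega))
    unfold repEl
    rw [List.getD_eq_getElem _ _ (by omega)]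
    generalize repData[i.1]'(by omega) = d at hd ⊢
    obtain ⟨r, ri, ts, n⟩ := d
    simp only [nodeOK, Bool.and_eq_true, beq_iff_eq, Nat.ble_eq, List.all_eq_true, Nat.blt_eq] at hd
    obtain ⟨⟨⟨hts, hw⟩, hid⟩, hcount⟩ := hd
    have hwm : ∀ j ∈ ri ++ r, j < 14 := fun j hj => hw j (by
      rw [List.mem_append] at hj ⊢; exact hj.symm)
    have hprod : ∀ a b : List ℕ, wEl R.gen (a ++ b) = wEl R.gen a * wEl R.gen b := by
      intro a b
      induction a with
      | nil => simp [wEl]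
      | cons x a ih => simp [wEl, ih, mul_assoc]
    have hinv' : (wEl R.gen r)⁻¹ = wEl R.gen ri := by
      refine inv_eq_of_mul_eq_one_left ?_
      refine R.mat_inj ?_
      obtain ⟨e1, o1⟩ := R.ok_mat (fun j hj => hwm j (List.mem_append_left _ hj) : ∀ j ∈ ri, j < 14)
      obtain ⟨e2, o2⟩ := R.ok_mat (fun j hj => hwm j (List.mem_append_right _ hj) : ∀ j ∈ r, j < 14)
      rw [R.mat_mul, e1, e2, R.mat_one, ← fcomp_eq o1 o2, hid]
    obtain ⟨f, ef, hf⟩ := R.agreeAll_mem (fun j hj => hw j (List.mem_append_left _ hj))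
      (fun j hj => hw j (List.mem_append_right _ hj)) hinv' ts hts
    rw [ef, countP_range] at hcount
    refine le_trans ?_ hcount
    rw [Finset.filter_image]
    refine le_trans Finset.card_image_le (Finset.card_le_card fun m hm => ?_)
    simp only [Finset.mem_filter] at hm ⊢
    exact ⟨hm.1.1, hf m hm.1.2 hm.2⟩
  have h := card_centralizer_mul_le R.sH_normal (by rw [R.zEl_eq]; exact R.trEl_mem 11 le_rfl _) S hS hinv
    hK R.repEl hcov _ hsize _ hnum
  rw [hScard] at h
  have hsum : ∑ i : Fin 20, 244823040 / nodeSizes.getD i.1 0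
      * (repData.getD i.1 ([], [], [], 0)).2.2.2 = 136367 := by
    decide +kernel
  rw [hsum] at h
  nlinarith

end MatRep

end Cfsg.Agent.J4Cent
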