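import Cfsg.Agent.Lib.J4Cent.FastMat
import Cfsg.Agent.Lib.J4Cent.ModelData
import Cfsg.Agent.Lib.J4Cent.HubData

/-!
Kernel checks for the conjugates of the translation and the cosets whose translations contain them.
-/

set_option autoImplicit false
set_option maxRecDepth 100000

namespace Cfsg.Agent.J4Cent

/-- A map applied to a list. -/
def fapL (M L : List ℕ) : List ℕ := unpack L.length (pcompAux (blockOnes L.length) M (pack L))

theorem fapL_eq {M L : List ℕ} (hM : Ok M) (hL : ∀ v ∈ L, v < 2 ^ 112) : fapL M L = L.map (ap M) := by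
  have h := pcompAux_eq L hL M 0 (by rw [hM.1]) hM.2
  simp only [Nat.shiftRight_zero] at h
  rw [fapL, h]
  have hb : ∀ v ∈ L.map (ap M), v < 2 ^ 112 := fun v hv => by
    obtain ⟨w, -, rfl⟩ := List.mem_map.1 hv
    exact ap_lt hM.2 w
  conv_lhs => rw [← List.length_map (f := ap M) (as := L)]
  exact unpack_pack _ hb

/-- The same in chunks of 128. -/
def fapC : ℕ → List ℕ → List ℕ → List ℕ
  | 0, M, L => fapL M L
  | n + 1, M, L => fapL M (L.take 128) ++ fapC n M (L.drop 128)

theorem fapC_eq {M : List ℕ} (hM : Ok M) : ∀ (n : ℕ) {L : List ℕ}, (∀ v ∈ L, v < 2 ^ 112) → fapC n M L = L.map (ap M)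
  | 0, _, hL => fapL_eq hM hL
  | n + 1, L, hL => by
    rw [fapC, fapL_eq hM fun v hv => hL v (List.mem_of_mem_take hv),
      fapC_eq hM n fun v hv => hL v (List.mem_of_mem_drop hv), ← List.map_append, List.take_append_drop]

/-- A translation. -/
def trI (k : ℕ) : List ℕ := baseT.getD (3 + k) idMat

/-- The images of a vector under the translations with bit numbers below a power of two. -/
def dblL : ℕ → ℕ → List ℕ
  | 0, b => [b]
  | k + 1, b => dblL k b ++ fapC 16 (trI k) (dblL k b)

/-- The translation with the given bit number. -/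
def trMat : ℕ → ℕ → List ℕ
  | 0, _ => idMat
  | k + 1, m => bif m.testBit k then mcomp (trI k) (trMat k m) else trMat k m

/-- The translation, fast. -/
def trMatF : ℕ → ℕ → List ℕ
  | 0, _ => idMat
  | k + 1, m => bif m.testBit k then fcomp (trI k) (trMatF k m) else trMatF k m

/-- The agreement of one test on all translations, given a matrix and its inverse. -/
def agreeL (Rm Ri : List ℕ) (t : ℕ × ℕ) : List Bool :=
  List.zipWith (fun a b => Nat.beq a b)
    (fapC 16 Ri (dblL 11 (ap Rm (ap (trI t.1) (2 ^ t.2)))))
    (fapC 16 (trI t.1) (fapC 16 Ri (dblL 11 (ap Rm (2 ^ t.2)))))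

/-- The agreement of all tests. -/
def agreeAll (Rm Ri : List ℕ) : List (ℕ × ℕ) → List Bool
  | [] => (List.range 2048).map fun m => sextMask.testBit m
  | t :: ts => List.zipWith (fun a b => a && b) (agreeL Rm Ri t) (agreeAll Rm Ri ts)

/-- The check on one node. -/
def nodeOK (d : List ℕ × List ℕ × List (ℕ × ℕ) × ℕ) : Bool :=
  (d.2.2.1.all fun t => Nat.blt t.1 11 && Nat.blt t.2 112) && (d.1 ++ d.2.1).all (fun i => Nat.blt i 14) &&
    (fcomp (wordMatF baseT d.2.1) (wordMatF baseT d.1) == idMat) &&
    Nat.ble ((agreeAll (wordMatF baseT d.1) (wordMatF baseT d.2.1) d.2.2.1).countP id) d.2.2.2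

/-- The spanning tree reaches the stored set. -/
def growS : List (ℕ × ℕ) → ℕ → Option ℕ
  | [], s => some s
  | (p, g) :: rest, s =>
    if s.testBit p then growS rest (s ||| (1 <<< ap (if g = 0 then conjX else conjY) p)) else none

theorem okBase : baseT.all okB = true ∧ baseT.length = 14 := by decide +kernel

theorem ok_trI (k : ℕ) : Ok (trI k) := ok_getD okBase.1 _

theorem tr_checks : ((List.range 11).all fun i => (fcomp (trI i) (trI i) == idMat) &&
    (List.range 11).all fun j => fcomp (trI i) (trI j) == fcomp (trI j) (trI i)) = true := by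
  decide +kernel

theorem conj_checks : ((List.range 11).all fun k =>
    (fcomp (baseT.getD 0 idMat) (trI k) == fcomp (trMatF 11 (conjX.getD k 0)) (baseT.getD 0 idMat)) &&
    (fcomp (baseT.getD 1 idMat) (trI k) == fcomp (trMatF 11 (conjY.getD k 0)) (baseT.getD 1 idMat))) = true := by
  decide +kernel

theorem mask_checks : ((List.range 2048).all fun m =>
    Nat.blt (ap conjX m) 2048 && Nat.blt (ap conjY m) 2048 &&
      (!sextMask.testBit m || (sextMask.testBit (ap conjX m) && sextMask.testBit (ap conjY m)))) = true := by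
  decide +kernel

theorem tree_checks : growS sextTree (1 <<< 203) = some sextMask := by decide +kernel

theorem mask_count : ((List.range 2048).countP fun m => sextMask.testBit m) = 1771 ∧ sextMask < 2 ^ 2048 := by
  decide +kernel

theorem probe_checks : ((dblL 11 (2 ^ probe)).tail.all fun v => !Nat.beq v (2 ^ probe)) = true := by decide +kernel

/-- The orders of the stabilisers of the nodes in the Mathieu group. -/
def nodeSizes : List ℕ :=
  [244823040, 64512, 768, 192, 253, 128, 512, 21504, 9216, 96, 138240, 4608, 1152, 96, 48, 32, 20, 16, 6, 3]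

theorem num_total : repData.length = 20 ∧ List.sum (List.zipWith (fun s n => 244823040 / s * n)
    nodeSizes (repData.map fun d => d.2.2.2)) = 136367 := by decide +kernel

end Cfsg.Agent.J4Cent
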