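import Cfsg.Agent.Lib.J4Cent.NodeWords
import Cfsg.Agent.Lib.J4Cent.HubChecks
import Cfsg.Agent.Lib.J4Cent.ModelWords
import Cfsg.Agent.Lib.J4Pres.Bound.CertData
import Cfsg.Agent.Lib.J4Pres.Bound.Data.Levels

/-!
Kernel checks relating the node representatives to the words in the model.
-/

set_option autoImplicit false
set_option maxRecDepth 100000

namespace Cfsg.Agent.J4Cent

open Cfsg.Agent.PermCert Cfsg.Agent.J4Bound

/-- The letters in the generators. -/
def letterWord (k : ℕ) : List ℕ := if k = 0 then [0] else if k = 1 then [1, 1] else [1]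

/-- A word in the generators. -/
def defGen (a : List ℕ) : List ℕ := a.flatMap letterWord

/-- The inverse of a word. -/
def invLetters (a : List ℕ) : List ℕ := (a.map fun k => if k = 1 then 2 else if k = 2 then 1 else k).reverse

/-- The code of a word. -/
def codeWord : List ℕ → Elt
  | [] => cone
  | k :: w => cmul (if k = 0 then J4Pres.eltX else if k = 1 then J4Pres.eltY else cinv J4Pres.eltY) (codeWord w)

theorem def_words_ok : ((List.range 19).all fun i =>
    let d := Data.defs.getD i (0, cone)
    let a := defWords.getD i []
    eeq (codeWord a) d.2 && Nat.blt d.1 (i + 1) && a.all (fun k => Nat.blt k 3) &&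
      (wordMatF baseT (repData.getD (i + 1) ([], [], [], 0)).1 ==
        fcomp (wordMatF baseT (defGen a ++ 2 :: defGen (invLetters a)))
          (wordMatF baseT (repData.getD d.1 ([], [], [], 0)).1))) = true := by
  decide +kernel

theorem rep_zero : (repData.getD 0 ([], [], [], 0)).1 = [] ∧ Data.defs.length = 19 ∧ nodeSizes = Data.sizes := by
  decide +kernel

/-- The conjugator of the translation in the generators. -/
def transConj : List ℕ := [1, 1, 0, 1, 1, 0, 1, 1, 0, 1, 1, 0, 1, 0]

/-- The inverse of the conjugator. -/
def transConjInv : List ℕ := [0, 1, 1, 0, 1, 0, 1, 0, 1, 0, 1]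

theorem v_word_ok : (fcomp (wordMatF baseT transConjInv) (wordMatF baseT transConj) == idMat) = true ∧
    wordMatF baseT ([1, 1] ++ transConjInv ++ 2 :: transConj ++ ([1, 1] ++ transConjInv ++ 2 :: transConj) ++
      ([1, 1] ++ transConjInv ++ 2 :: transConj)) = trMatF 11 vBits := by
  decide +kernel

end Cfsg.Agent.J4Cent
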