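import Cfsg.Agent.Lib.J4Cent.Hub

/-!
The centraliser structure in a group of the order with a model and its suborbits.
-/

set_option autoImplicit false

namespace Cfsg.Agent.J4Cent

open Subgroup MulAction

/-- The conclusion from a model. -/
theorem centraliser_structure {G : Type*} [Group G] [Finite G] (R : MatRep G)
    (hH : Nat.card ↥R.sH ≤ 501397585920) {K : Subgroup G} (hK : K ≤ R.sH)
    (hcov : ∀ g : G, ∃ i, ∃ h ∈ K, (g : G ⧸ R.sH) = ((h * R.repEl i : G) : G ⧸ R.sH))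
    (hsize : ∀ i : Fin 20, (orbit ↥K ((R.repEl i : G) : G ⧸ R.sH)).ncard ≤ 244823040 / nodeSizes.getD i.1 0) :
    ∃ z : G, orderOf z = 2 ∧ ∃ (Q N M : Subgroup (Subgroup.centralizer ({z} : Set G))), Q.Normal ∧ N.Normal ∧
      Q ≤ N ∧ N ≤ M ∧ Nat.card Q = 2 ^ 13 ∧ Cfsg.IsExtraspecial 2 Q ∧ Nat.card N = 3 * 2 ^ 13 ∧ M.index = 2 ∧
      ∃ (_ : (N.subgroupOf M).Normal), Cfsg.IsM22 (M ⧸ N.subgroupOf M) :=
  ⟨R.zEl, R.orderOf_z, R.layers (R.card_cent_le hH hK hcov hsize)⟩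

end Cfsg.Agent.J4Cent
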