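import Cfsg.Agent.Lib.J4Cent.ModelRep
import Cfsg.Agent.Lib.J4Cent.Statement
import Cfsg.Agent.Lib.J4Cent.NodeChecks
import Cfsg.Agent.Lib.J4Pres.Bound.Index
import Cfsg.Agent.Lib.J4Pres.Bound.Instance
import Cfsg.Prelude.Def_Spor_J4

/-!
The cosets of the stabiliser in the model, from the nodes of the enumeration.
-/

set_option autoImplicit false
set_option linter.unusedSectionVars false
set_option maxRecDepth 100000

namespace Cfsg.Agent.J4Cent

open Cfsg Cfsg.Agent.J4Bound Cfsg.Agent.J4Pres Cfsg.Agent.Golay MulAction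
open scoped Pointwise

theorem wEl_append {G : Type*} [Group G] (f : ℕ → G) : ∀ a b : List ℕ,
    MatRep.wEl f (a ++ b) = MatRep.wEl f a * MatRep.wEl f b
  | [], b => by simp [MatRep.wEl]
  | x :: a, b => by simp [MatRep.wEl, wEl_append f a b, mul_assoc]

/-- The letter of a number. -/
def m24Letter (k : ℕ) : M24 := if k = 0 then gx else if k = 1 then gy else gy⁻¹

theorem cd_codeWord : ∀ (a : List ℕ), (∀ k ∈ a, k < 3) → Cd (codeWord a) ((a.map m24Letter).prod)
  | [], _ => cd_one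
  | k :: a, h => by
    rw [codeWord, List.map_cons, List.prod_cons]
    refine Cd.mul ?_ (cd_codeWord a fun j hj => h j (List.mem_cons_of_mem _ hj))
    unfold m24Letter
    split_ifs
    · exact cd_gx
    · exact cd_gy
    · exact cd_gy.inv

theorem prod_invLetters : ∀ a : List ℕ, (∀ k ∈ a, k < 3) →
    ((invLetters a).map m24Letter).prod = ((a.map m24Letter).prod)⁻¹
  | [], _ => by simp [invLetters]
  | k :: a, h => by
    have hk := h k List.mem_cons_self
    rw [show invLetters (k :: a) = invLetters a ++ [if k = 1 then 2 else if k = 2 then 1 else k] by simp [invLetters],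
      List.map_append, List.prod_append, prod_invLetters a fun j hj => h j (List.mem_cons_of_mem _ hj),
      List.map_cons (a := k), List.prod_cons, mul_inv_rev, List.map_singleton, List.prod_singleton]
    congr 1
    have hgx : gx⁻¹ = gx := inv_eq_of_mul_eq_one_right (by rw [← pow_two, rel_sq])
    interval_cases k <;> simp [m24Letter, hgx]

theorem repData_lt {j : ℕ} (hj : j < 20) : ∀ i ∈ (repData.getD j ([], [], [], 0)).1, i < 14 := by
  intro i hi
  have hl : j < repData.length := by rw [num_total.1]; exact hj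
  rw [List.getD_eq_getElem _ _ hl] at hi
  have h := List.all_eq_true.1 rep_checks _ (List.getElem_mem hl)
  simp only [nodeOK, Bool.and_eq_true, List.all_eq_true, Nat.blt_eq] at h
  exact h.1.1.2 i (List.mem_append_left _ hi)

theorem defGen_lt (b : List ℕ) : ∀ x ∈ defGen b, x < 14 := by
  intro x hx
  obtain ⟨c, -, hc⟩ := List.mem_flatMap.1 hx
  unfold letterWord at hc
  split_ifs at hc <;> simp at hc <;> omega

section

variable {G : Type*} [Group G] (R : MatRep G) (S : Rels G) (hx : S.ψ gx = R.gen 0) (hy : S.ψ gy = (R.gen 1)⁻¹)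
  (ht : S.t = R.gen 2)
include hx hy ht

theorem gen_one_sq : R.gen 1 * R.gen 1 = (R.gen 1)⁻¹ := by
  have h : (S.ψ gy) ^ 3 = 1 := by rw [← map_pow, rel_cube, map_one]
  rw [hy, inv_pow, inv_eq_one, pow_succ, pow_two] at h
  exact eq_inv_of_mul_eq_one_left h

theorem wEl_defGen : ∀ a : List ℕ, MatRep.wEl R.gen (defGen a) = S.ψ ((a.map m24Letter).prod)
  | [] => by simp [defGen, MatRep.wEl]
  | k :: a => by
    rw [show defGen (k :: a) = letterWord k ++ defGen a from rfl, wEl_append, wEl_defGen a, List.map_cons,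
      List.prod_cons, map_mul]
    congr 1
    unfold letterWord m24Letter
    split_ifs
    · simp [MatRep.wEl, hx]
    · simp [MatRep.wEl, hy, gen_one_sq R S hx hy ht]
    · simp [MatRep.wEl, map_inv, hy]

theorem node_inv : ∀ j (hj : j < 20), (S.setup.X j)⁻¹ = R.repEl ⟨j, hj⟩ := by
  intro j
  induction j using Nat.strong_induction_on with
  | _ j ih =>
    intro hj
    rcases Nat.eq_zero_or_pos j with rfl | hpos
    · rw [Setup.X_zero, inv_one]
      show 1 = MatRep.wEl R.gen (repData.getD 0 ([], [], [], 0)).1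
      rw [rep_zero.1]
      rfl
    obtain ⟨i, rfl⟩ : ∃ i, j = i + 1 := ⟨j - 1, by omega⟩
    have h := MatRep.all_range def_words_ok (i := i) (by omega)
    simp only [Bool.and_eq_true, beq_iff_eq, List.all_eq_true, Nat.blt_eq] at h
    obtain ⟨⟨⟨he, hk⟩, ha⟩, hmat⟩ := h
    have hlen : i < Data.defs.length := by rw [rep_zero.2.1]; omega
    generalize hd : Data.defs.getD i (0, cone) = d at he hk hmat
    obtain ⟨k, a⟩ := d
    rw [List.getD_eq_getElem _ _ hlen] at hd
    have hget : cert.defs[(i + 1) - 1]? = some (k, a) := by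
      show Data.defs[i + 1 - 1]? = _
      rw [Nat.add_sub_cancel, List.getElem?_eq_getElem hlen, hd]
    have hcd : Cd a (((defWords.getD i []).map m24Letter).prod) := by
      have e' : codeWord (defWords.getD i []) = a := eeq_spec he
      rw [← e']
      exact cd_codeWord _ ha
    rw [S.setup.X_def hget hk hcd, mul_inv_rev, mul_inv_rev, mul_inv_rev, inv_inv, Setup.tinv, ih k hk (by omega)]
    show S.ψ _ * (S.t * ((S.ψ _)⁻¹ * R.repEl _)) = _
    rw [← map_inv, ← prod_invLetters _ ha, ← wEl_defGen R S hx hy ht, ← wEl_defGen R S hx hy ht, ht]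
    refine R.mat_inj ?_
    obtain ⟨e1, o1⟩ := R.ok_mat
      (r := defGen (defWords.getD i []) ++ 2 :: defGen (invLetters (defWords.getD i []))) (by
        intro x hx'
        simp only [List.mem_append, List.mem_cons] at hx'
        rcases hx' with hx' | rfl | hx'
        · exact defGen_lt _ x hx'
        · norm_num
        · exact defGen_lt _ x hx')
    obtain ⟨e2, o2⟩ := R.ok_mat (repData_lt (j := k) (by omega))
    obtain ⟨e3, -⟩ := R.ok_mat (repData_lt hj)
    unfold MatRep.repEl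
    rw [e3, hmat, fcomp_eq o1 o2, ← e1, ← e2, wEl_append]
    simp only [MatRep.wEl, ← R.mat_mul, mul_assoc]

theorem psi_mem_sH (g : M24) : S.ψ g ∈ R.sH := by
  have hg : g ∈ Subgroup.closure {gx, gy} := by rw [closure_gx_gy]; trivial
  induction hg using Subgroup.closure_induction with
  | mem a ha =>
    rcases ha with rfl | rfl
    · rw [hx]; exact Subgroup.subset_closure ⟨0, ⟨by norm_num, by norm_num⟩, rfl⟩
    · rw [hy]; exact inv_mem (Subgroup.subset_closure ⟨1, ⟨by norm_num, by norm_num⟩, rfl⟩)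
  | one => rw [map_one]; exact one_mem _
  | mul a b _ _ ha hb => rw [map_mul]; exact mul_mem ha hb
  | inv a _ ha => rw [map_inv]; exact inv_mem ha

theorem sV_le_sH : R.sV ≤ R.sH :=
  (Subgroup.closure_le _).2 (by
    rintro _ ⟨i, hi, rfl⟩
    exact Subgroup.subset_closure ⟨i, ⟨hi.2, by have := hi.1; omega⟩, rfl⟩)

theorem v_eq : S.v = R.trEl 11 vBits := by
  have h1 : MatRep.wEl R.gen transConj = S.ψ gTrans := by
    have h := wEl_defGen R S hx hy ht [1, 0, 1, 0, 1, 0, 1, 0, 2, 0]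
    rw [show defGen [1, 0, 1, 0, 1, 0, 1, 0, 2, 0] = transConj from rfl] at h
    rw [h]
    refine congrArg (fun a => S.ψ a) ?_
    simp [gTrans, m24Letter, pow_succ, mul_assoc]
  have h2 : MatRep.wEl R.gen transConjInv = (S.ψ gTrans)⁻¹ := by
    refine eq_inv_of_mul_eq_one_left ?_
    rw [← h1]
    refine R.mat_inj ?_
    obtain ⟨e1, o1⟩ := R.ok_mat (r := transConjInv) (by decide)
    obtain ⟨e2, o2⟩ := R.ok_mat (r := transConj) (by decide)
    rw [R.mat_mul, e1, e2, R.mat_one, ← fcomp_eq o1 o2]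
    exact beq_iff_eq.1 v_word_ok.1
  have h3 : MatRep.wEl R.gen ([1, 1] : List ℕ) = S.ψ gy := by
    simp [MatRep.wEl, hy, gen_one_sq R S hx hy ht]
  set blk : List ℕ := [1, 1] ++ transConjInv ++ 2 :: transConj with hblk
  have hc : MatRep.wEl R.gen blk = S.ψ gy * (S.ψ gTrans)⁻¹ * S.t * S.ψ gTrans := by
    rw [hblk, wEl_append, wEl_append, h3, h2, ht, ← h1]
    simp [MatRep.wEl, mul_assoc]
  refine R.mat_inj ?_
  obtain ⟨e, -⟩ := R.ok_mat (r := blk ++ blk ++ blk) (by rw [hblk]; decide)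
  rw [R.mat_trEl 11 le_rfl, ← (trMatF_eq 11 _).1, ← v_word_ok.2, ← e]
  congr 1
  rw [wEl_append, wEl_append, hc]
  show _ ^ 3 = _
  rw [pow_succ, pow_two]

theorem H_le_sH : S.H ≤ R.sH := by
  refine (Subgroup.closure_le _).2 ?_
  rintro a (⟨g, rfl⟩ | rfl)
  · exact psi_mem_sH R S hx hy ht g
  rw [v_eq R S hx hy ht]
  exact sV_le_sH R S hx hy ht (R.trEl_mem 11 le_rfl _)

theorem card_sH [Finite G] : Nat.card ↥R.sH ≤ 501397585920 := by
  classical
  have hV : ∀ x ∈ R.sV, ∃ m < 2048, x = R.trEl 11 m := by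
    have hgen : ∀ k < 11, R.gen (3 + k) = R.trEl 11 (2 ^ k) := fun k hk => by
      refine R.mat_inj ?_
      rw [R.gen_tr hk, R.mat_trEl 11 le_rfl, ← (trMatF_eq 11 _).1]
      have h : ((List.range 11).all fun k => trMatF 11 (2 ^ k) == trI k) = true := by decide +kernel
      exact (beq_iff_eq.1 (MatRep.all_range h hk)).symm
    intro x hx'
    change x ∈ (Subgroup.closure (R.gen '' Set.Ico 3 14)).toSubmonoid at hx'
    rw [Subgroup.closure_toSubmonoid_of_finite] at hx'
    induction hx' using Submonoid.closure_induction with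
    | mem y hy' =>
      obtain ⟨j, hj, rfl⟩ := hy'
      obtain ⟨k, rfl⟩ : ∃ k, j = 3 + k := ⟨j - 3, by have := hj.1; omega⟩
      have hk : k < 11 := by have := hj.2; omega
      exact ⟨2 ^ k, lt_of_lt_of_le (Nat.pow_lt_pow_right one_lt_two hk) (by norm_num), hgen k hk⟩
    | one => exact ⟨0, by norm_num, (R.trEl_zero 11).symm⟩
    | mul a b _ _ ha hb =>
      obtain ⟨m, hm, rfl⟩ := ha
      obtain ⟨n, hn, rfl⟩ := hb
      exact ⟨m ^^^ n, Nat.xor_lt_two_pow (n := 11) hm hn, (R.trEl_xor 11 le_rfl m n).symm⟩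
  have hprod : ∀ h ∈ R.sH, ∃ u ∈ R.sV, ∃ g : M24, h = u * S.ψ g := by
    intro h hh
    change h ∈ (Subgroup.closure (R.gen '' {i | i < 14 ∧ i ≠ 2})).toSubmonoid at hh
    rw [Subgroup.closure_toSubmonoid_of_finite] at hh
    induction hh using Submonoid.closure_induction with
    | mem y hy' =>
      obtain ⟨i, ⟨hi, hi2⟩, rfl⟩ := hy'
      rcases (by omega : i = 0 ∨ i = 1 ∨ 3 ≤ i) with rfl | rfl | h3
      · exact ⟨1, one_mem _, gx, by rw [hx, one_mul]⟩
      · exact ⟨1, one_mem _, gy⁻¹, by rw [map_inv, hy, inv_inv, one_mul]⟩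
      · exact ⟨_, Subgroup.subset_closure ⟨i, ⟨h3, hi⟩, rfl⟩, 1, by rw [map_one, mul_one]⟩
    | one => exact ⟨1, one_mem _, 1, by rw [map_one, one_mul]⟩
    | mul a b _ _ ha hb =>
      obtain ⟨u, hu, g, rfl⟩ := ha
      obtain ⟨w, hw, k, rfl⟩ := hb
      refine ⟨_, mul_mem hu (R.sH_normal _ (psi_mem_sH R S hx hy ht g) w hw), g * k, ?_⟩
      rw [map_mul]
      group
  let f : Fin 2048 × M24 → ↥R.sH := fun p =>
    ⟨R.trEl 11 p.1 * S.ψ p.2,
      mul_mem (sV_le_sH R S hx hy ht (R.trEl_mem 11 le_rfl _)) (psi_mem_sH R S hx hy ht p.2)⟩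
  have hf : Function.Surjective f := fun h => by
    obtain ⟨u, hu, g, e⟩ := hprod h h.2
    obtain ⟨m, hm, rfl⟩ := hV u hu
    exact ⟨(⟨m, hm⟩, g), Subtype.ext e.symm⟩
  refine le_trans (Nat.card_le_card_of_surjective f hf) (le_of_eq ?_)
  rw [Nat.card_prod, Nat.card_fin, card_M24]

/-- Every element lies in a node's double coset. -/
theorem node_cover (hgen : Subgroup.closure (Set.range S.ψ ∪ {S.t}) = ⊤) (u : G) :
    ∃ j : Fin 20, ∃ g : M24, u * (S.setup.X j * S.ψ g)⁻¹ ∈ S.H := by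
  have hψ : ∀ u (g : M24), (∃ j : Fin 20, ∃ h : M24, u * (S.setup.X j * S.ψ h)⁻¹ ∈ S.H) →
      ∃ j : Fin 20, ∃ h : M24, u * S.ψ g * (S.setup.X j * S.ψ h)⁻¹ ∈ S.H := by
    rintro u g ⟨j, h, hu⟩
    refine ⟨j, h * g, ?_⟩
    convert hu using 1
    rw [map_mul]; group
  have htt : ∀ u, (∃ j : Fin 20, ∃ h : M24, u * (S.setup.X j * S.ψ h)⁻¹ ∈ S.H) →
      ∃ j : Fin 20, ∃ h : M24, u * S.t * (S.setup.X j * S.ψ h)⁻¹ ∈ S.H := by
    rintro u ⟨k, h, hu⟩
    obtain ⟨σ, a, j, b, hσ, hE, hτ, hj⟩ :=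
      S.setup.cover_spec Rels.table_ok S.good (Rels.covers k k.2) h
    have hfix : (((σ * a)⁻¹ * h : M24) : Equiv.Perm GolayPt) • trioW = trioW := by
      rw [Subgroup.coe_mul, mul_smul, ← hτ, Subgroup.coe_inv, inv_smul_smul]
    set c := (σ * a)⁻¹ * h with hc
    have hcm := S.comm c hfix
    refine ⟨⟨j, hj⟩, b * c, ?_⟩
    have key : u * (S.setup.X k * S.ψ h)⁻¹ * (S.setup.X k * S.ψ σ * (S.setup.X k)⁻¹) *
        (S.setup.X k * S.ψ a * S.t * (S.setup.X j * S.ψ b)⁻¹) ∈ S.H := mul_mem (mul_mem hu hσ) hE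
    convert key using 1
    have hgp : S.ψ h = S.ψ σ * S.ψ a * S.ψ c := by rw [← map_mul, ← map_mul, hc]; group
    have hct : S.t * (S.ψ c)⁻¹ = (S.ψ c)⁻¹ * S.t := by
      rw [eq_inv_mul_iff_mul_eq, ← mul_assoc, hcm, mul_assoc, mul_inv_cancel, mul_one]
    rw [map_mul, hgp]
    calc u * S.t * (S.setup.X j * (S.ψ b * S.ψ c))⁻¹
        = u * (S.t * (S.ψ c)⁻¹) * (S.ψ b)⁻¹ * (S.setup.X j)⁻¹ := by group
      _ = u * ((S.ψ c)⁻¹ * S.t) * (S.ψ b)⁻¹ * (S.setup.X j)⁻¹ := by rw [hct]
      _ = _ := by group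
  have hu : u ∈ Subgroup.closure (Set.range S.ψ ∪ {S.t}) := by rw [hgen]; trivial
  induction hu using Subgroup.closure_induction_right with
  | one => exact ⟨0, 1, by simp [Setup.X_zero]⟩
  | mul_right a _ b hb ih =>
    rcases hb with ⟨g, rfl⟩ | rfl
    exacts [hψ a g ih, htt a ih]
  | mul_inv_cancel a _ b hb ih =>
    rcases hb with ⟨g, rfl⟩ | rfl
    · rw [← map_inv]; exact hψ a g⁻¹ ih
    · rw [S.tinv]; exact htt a ih

/-- The orbits of the Mathieu group on the nodes cover all the cosets. -/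
theorem cover_K (hgen : Subgroup.closure (Set.range S.ψ ∪ {S.t}) = ⊤) (a : G) :
    ∃ i, ∃ h ∈ S.ψ.range, (a : G ⧸ R.sH) = ((h * R.repEl i : G) : G ⧸ R.sH) := by
  obtain ⟨j, g, hg⟩ := node_cover R S hx hy ht hgen a⁻¹
  refine ⟨j, S.ψ g⁻¹, ⟨g⁻¹, rfl⟩, QuotientGroup.eq.2 ?_⟩
  rw [← node_inv R S hx hy ht j j.2]
  refine H_le_sH R S hx hy ht ?_
  convert hg using 1
  rw [map_inv]
  group

/-- The orbit of the Mathieu group on a node is no larger than its index. -/
theorem orbit_le [Finite G] (i : Fin 20) :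
    (orbit ↥S.ψ.range ((R.repEl i : G) : G ⧸ R.sH)).ncard ≤ 244823040 / nodeSizes.getD i.1 0 := by
  classical
  have hK : Data.sizes.getD i.1 0 ≤ Nat.card ↥(S.setup.K i.1) := S.sizes_le i.1 i.2
  have hpos : ∀ k < 20, 0 < Data.sizes.getD k 0 := by decide +kernel
  rw [rep_zero.2.2, Nat.le_div_iff_mul_le (hpos _ i.2)]
  refine le_trans (Nat.mul_le_mul le_rfl hK) ?_
  have hidx : (orbit ↥S.ψ.range ((R.repEl i : G) : G ⧸ R.sH)).ncard ≤ (S.setup.K i.1).index := by
    let f : M24 ⧸ S.setup.K i.1 → G ⧸ R.sH := Quotient.lift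
      (fun g => ((S.ψ g * R.repEl i : G) : G ⧸ R.sH)) (by
        intro a b hab
        have h : S.setup.X i.1 * S.ψ (a⁻¹ * b) * (S.setup.X i.1)⁻¹ ∈ S.H := QuotientGroup.leftRel_apply.1 hab
        refine QuotientGroup.eq.2 ?_
        rw [← node_inv R S hx hy ht i.1 i.2]
        refine H_le_sH R S hx hy ht ?_
        convert h using 1
        rw [map_mul, map_inv]
        group)
    rw [Subgroup.index, ← Nat.card_coe_set_eq]
    refine le_trans (Nat.card_mono (Set.toFinite (Set.range f)) ?_) (Finite.card_range_le f)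
    rintro q ⟨⟨_, g, rfl⟩, rfl⟩
    exact ⟨QuotientGroup.mk g, rfl⟩
  refine le_trans (Nat.mul_le_mul hidx le_rfl) (le_of_eq ?_)
  rw [Subgroup.index_mul_card, card_M24]

/-- The structure of the centraliser. -/
theorem centraliser_of_rels [Finite G] (hgen : Subgroup.closure (Set.range S.ψ ∪ {S.t}) = ⊤) :
    ∃ z : G, orderOf z = 2 ∧ ∃ (Q N M : Subgroup (Subgroup.centralizer ({z} : Set G))), Q.Normal ∧ N.Normal ∧
      Q ≤ N ∧ N ≤ M ∧ Nat.card Q = 2 ^ 13 ∧ Cfsg.IsExtraspecial 2 Q ∧ Nat.card N = 3 * 2 ^ 13 ∧ M.index = 2 ∧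
      ∃ (_ : (N.subgroupOf M).Normal), Cfsg.IsM22 (M ⧸ N.subgroupOf M) :=
  centraliser_structure R (card_sH R S hx hy ht) (K := S.ψ.range)
    (by rintro _ ⟨g, rfl⟩; exact psi_mem_sH R S hx hy ht g) (cover_K R S hx hy ht hgen)
    (orbit_le R S hx hy ht)

end

/-- The image in the model. -/
def toMod : Spor.J4 →* ModG := J4Model.rho.rangeRestrict

theorem toMod_jx : toMod jx = modRep.gen 0 := Subtype.ext (PresentedGroup.toGroup.of _)

theorem toMod_jy : toMod jy = (modRep.gen 1)⁻¹ :=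
  Subtype.ext ((PresentedGroup.toGroup.of _).trans (inv_inv _).symm)

theorem toMod_jt : toMod jt = modRep.gen 2 := Subtype.ext (PresentedGroup.toGroup.of _)

/-- The relations pushed along a homomorphism. -/
def pushRels {A B : Type*} [Group A] [Group B] (R : Rels A) (f : A →* B) : Rels B where
  ψ := f.comp R.ψ
  t := f R.t
  tt := by rw [← map_mul, R.tt, map_one]
  comm g hg := by simp only [MonoidHom.comp_apply, ← map_mul, R.comm g hg]
  line := by simpa [map_inv] using congrArg f R.line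
  last := by simpa [map_inv] using congrArg f R.last

theorem pushRels_gen {A B : Type*} [Group A] [Group B] (R : Rels A) (f : A →* B) (hf : Function.Surjective f)
    (h : Subgroup.closure (Set.range R.ψ ∪ {R.t}) = ⊤) :
    Subgroup.closure (Set.range (pushRels R f).ψ ∪ {(pushRels R f).t}) = ⊤ := by
  have h' := congrArg (Subgroup.map f) h
  rwa [MonoidHom.map_closure, Set.image_union, Set.image_singleton, ← Set.range_comp,
    Subgroup.map_top_of_surjective _ hf] at h'

/-- The structure of the centraliser in the model. -/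
theorem model_centraliser [Finite ModG] (φ : M24 →* Spor.J4) (hx : φ gx = jx) (hy : φ gy = jy) :
    ∃ z : ModG, orderOf z = 2 ∧ ∃ (Q N M : Subgroup (Subgroup.centralizer ({z} : Set ModG))), Q.Normal ∧ N.Normal ∧
      Q ≤ N ∧ N ≤ M ∧ Nat.card Q = 2 ^ 13 ∧ Cfsg.IsExtraspecial 2 Q ∧ Nat.card N = 3 * 2 ^ 13 ∧ M.index = 2 ∧
      ∃ (_ : (N.subgroupOf M).Normal), Cfsg.IsM22 (M ⧸ N.subgroupOf M) :=
  centraliser_of_rels modRep (pushRels (j4Rels φ hx hy) toMod)
    ((congrArg toMod hx).trans toMod_jx) ((congrArg toMod hy).trans toMod_jy) toMod_jt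
    (pushRels_gen _ _ J4Model.rho.rangeRestrict_surjective (j4Rels_gen φ hx hy))

end Cfsg.Agent.J4Cent
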