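import Cfsg.Agent.Lib.J4Cent.HubChecks

/-!
Certificate joining the twenty nodes into seven suborbits, with the kernel checks.
-/

set_option autoImplicit false
set_option maxRecDepth 100000

namespace Cfsg.Agent.J4Cent

/-- Two nodes and two words in the stabiliser carrying their vectors to one vector. -/
def joinData : List (ℕ × ℕ × List ℕ × List ℕ) := [
  (1, 7, [4], [1, 0, 1, 0, 1, 1, 0, 1, 0, 1, 1, 0, 1, 1, 0, 1, 1, 0, 1, 1, 0, 1]),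
  (8, 10, [3, 7, 9, 10, 11], [1, 1, 0, 1, 1, 0, 1, 1, 0, 1, 0, 1, 0, 1, 0, 1, 1, 0, 1, 1, 0, 1, 0, 1, 0, 1, 0]),
  (2, 6, [7], [1, 1, 0, 1, 0, 1, 1, 0, 1, 0, 1, 0, 1, 1, 0, 1, 0, 1, 0, 1, 0, 1, 0, 1, 1, 0, 1, 1, 0, 1, 0]),
  (2, 13, [1, 0, 1, 1, 0, 1, 0, 1, 1, 4], [0, 1, 0, 1, 1, 0, 1, 1, 0, 1, 0, 1, 0, 1, 1, 0, 1, 1, 0, 1, 1, 0, 1, 1, 0, 1, 1, 0, 1, 0, 1, 1, 0, 1, 0, 1, 0]),
  (11, 2, [0, 1, 0, 1, 0, 1, 0, 1, 0, 4, 8, 9, 10, 11, 12], [1, 1, 0, 1, 0, 1, 0, 1, 0, 1, 0, 1, 1, 0, 1, 1, 0, 1, 1, 0, 1, 0, 1, 0, 1, 1, 0, 1, 1, 0, 1, 0, 1, 1, 0, 1, 1]),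
  (14, 16, [1, 0, 1, 1, 0, 1, 0, 1, 1, 0, 1, 1, 0, 1, 1, 0, 1, 1, 0, 1, 0, 1, 7], [0, 1, 1, 0, 1, 0, 1, 1, 0, 1, 1, 0, 1, 1, 0, 1, 1, 0, 1, 1, 0, 1, 1, 0, 1, 1, 0, 1, 0, 1, 0, 1, 1, 0, 1, 0]),
  (14, 17, [1, 0, 1, 0, 1, 1, 0, 1, 1, 0, 1, 0, 1, 1, 0, 1, 0, 1, 0, 1, 0, 6], [0, 1, 0, 1, 0, 1, 1, 0, 1, 0, 1, 1, 0, 1, 0, 1, 1, 0, 1, 0, 1, 1, 0, 1, 0, 1, 0, 1, 0, 1, 0, 1, 0, 1, 0, 1, 0]),
  (3, 5, [1, 1, 0, 1, 0, 1, 0, 1, 1, 0, 1, 0, 3], [0, 1, 0, 1, 0, 1, 1, 0, 1, 1, 0, 1, 0, 1, 0, 1, 1, 0, 1, 0, 1, 0, 1, 0, 1, 0, 1, 0, 1, 1, 0, 1, 0, 1, 1, 0]),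
  (3, 9, [3, 6, 7, 9, 10, 11], [1, 0, 1, 0, 1, 0, 1, 0, 1, 1, 0, 1, 1, 0, 1, 0, 1, 0, 1, 0, 1, 0, 1, 0, 1, 0, 1, 0, 1, 0, 1, 0, 1, 1]),
  (3, 15, [1, 0, 1, 0, 1, 0, 1, 1, 0, 1, 0, 1, 1, 0, 1, 0, 1, 0, 1, 0, 5], [0, 1, 1, 0, 1, 1, 0, 1, 1, 0, 1, 0, 1, 1, 0, 1, 0, 1, 0, 1, 0, 1, 1, 0, 1, 0, 1, 0, 1, 0, 1, 0, 1, 0, 1]),
  (3, 18, [1, 1, 0, 1, 0, 1, 1, 0, 1, 0, 1, 0, 1, 1, 0, 1, 1, 0, 1, 0, 1, 0, 1, 0, 1, 1, 0, 1, 4], [0, 1, 1, 0, 1, 1, 0, 1, 1, 0, 1, 0, 1, 1, 0, 1, 0, 1, 0, 1, 1, 0, 1, 1, 0, 1, 0, 1, 0, 1, 0, 1, 0, 1, 1, 0]),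
  (12, 5, [1, 0, 1, 0, 1, 0, 1, 5], [0, 1, 1, 0, 1, 0, 1, 0, 1, 0, 1, 0, 1, 1, 0, 1, 0, 1, 0, 1, 0, 1, 0, 1, 1, 0, 1, 0, 1, 0, 1, 0, 1, 0, 1, 0]),
  (4, 19, [0, 1, 1, 0, 1, 1, 0, 1, 0, 1, 0, 1, 0, 1, 1, 0, 1, 0, 1, 0, 1, 0, 1, 0, 1, 1, 0, 1, 3], [1, 1, 0, 1, 0, 1, 1, 0, 1, 1, 0, 1, 1, 0, 1, 0, 1, 1, 0, 1, 0, 1, 1, 0, 1, 1, 0, 1, 0, 1, 0, 1, 1, 0, 1, 1])]

/-- The word of a node. -/
def repWord (k : ℕ) : List ℕ := (repData.getD k ([], [], [], 0)).1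

/-- The suborbit of a node. -/
def classOf : List ℕ := [0, 1, 3, 5, 6, 5, 3, 1, 2, 5, 2, 3, 5, 3, 4, 5, 4, 4, 5, 6]

/-- The first node of a suborbit. -/
def classRep : List ℕ := [0, 1, 8, 2, 14, 3, 4]

/-- The sizes of the suborbits. -/
def classSize : List ℕ := [1, 15180, 28336, 3400320, 32643072, 54405120, 82575360]

theorem rep_words_lt : ((List.range 20).all fun k => (repWord k).all fun i => Nat.blt i 14) = true := by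
  decide +kernel

theorem join_checks : (joinData.all fun d => Nat.blt d.1 20 && Nat.blt d.2.1 20 &&
    (d.2.2.1 ++ d.2.2.2).all (fun i => Nat.blt i 14 && !Nat.beq i 2) &&
    Nat.beq (wordAp baseT (d.2.2.1 ++ repWord d.1) cVec) (wordAp baseT (d.2.2.2 ++ repWord d.2.1) cVec)) = true := by
  decide +kernel

theorem node_moves : ((List.range 20).all fun k =>
    Nat.beq k 0 || !Nat.beq (wordAp baseT (repWord k) cVec) cVec) = true := by decide +kernel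

theorem stab_checks : ((List.range 14).all fun i => Nat.beq i 2 || Nat.beq (ap (baseT.getD i idMat) cVec) cVec) = true ∧
    Nat.beq (ap idMat cVec) cVec = true := by decide +kernel

theorem pair_checks :
    Nat.beq (ap (trMatF 11 1770) (wordAp baseT (repWord 14) cVec)) (wordAp baseT (repWord 14) cVec) = true ∧
    ((dblL 11 (wordAp baseT (repWord 3) cVec)).tail.all fun v => !Nat.beq v (wordAp baseT (repWord 3) cVec)) = true := by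
  decide +kernel

/-- The classes cover the nodes and joining connects every node to the first one of its class. -/
theorem class_checks : classOf.length = 20 ∧ classRep.map (fun k => classOf.getD k 7) = List.range 7 ∧
    (List.range 7).map (fun i => (List.sum ((List.range 20).map fun k =>
      if classOf.getD k 7 = i then 244823040 / nodeSizes.getD k 1 else 0))) = classSize := by
  decide +kernel

end Cfsg.Agent.J4Cent
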