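import Cfsg.Agent.Lib.J4Cent.Hub
import Cfsg.Agent.Lib.J4Cent.OrbitChecks
import Cfsg.Prelude.Def_Transfer

/-!
The seven suborbits of the stabiliser of the fixed vector from the twenty nodes, in any group with the matrices
of the model.
-/

set_option autoImplicit false
set_option linter.unusedSectionVars false
set_option linter.style.haveILetI false
set_option maxRecDepth 100000

namespace Cfsg.Agent.J4Cent

open Subgroup MulAction

/-- Only one union of two or more classes has a size dividing the order of the stabiliser. -/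
theorem union_checks : ∀ F : Finset (Fin 7), (∑ l ∈ F, classSize.getD l.1 0) ∣ 501397585920 →
    F.card ≤ 1 ∨ F = {4, 5} := by
  decide +kernel

theorem classOf_lt : ∀ k < 20, classOf.getD k 7 < 7 := by decide +kernel

theorem class_sum : ∀ i : Fin 7, (∑ k ∈ Finset.univ.filter fun k : Fin 20 => classOf.getD k.1 7 = i.1,
    244823040 / nodeSizes.getD k.1 0) = classSize.getD i.1 0 := by
  decide +kernel

namespace MatRep

variable {G : Type*} [Group G] (R : MatRep G)

/-- The vector of a group element. -/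
def pvec (g : G) : ℕ := ap (R.mat g) cVec

theorem wEl_append (f : ℕ → G) : ∀ a b : List ℕ, wEl f (a ++ b) = wEl f a * wEl f b
  | [], b => by simp [wEl]
  | i :: a, b => by simp [wEl, wEl_append f a b, mul_assoc]

theorem pvec_word {w : List ℕ} (hw : ∀ i ∈ w, i < 14) : R.pvec (wEl R.gen w) = wordAp baseT w cVec := by
  rw [pvec, R.mat_wEl _ baseT _ fun i hi => R.mat_gen i (hw i hi)]
  exact ap_wordMat _ _ _ (Nat.eq_of_beq_eq_true stab_checks.2)

theorem pvec_mul (g h : G) : R.pvec (g * h) = ap (R.mat g) (R.pvec h) := by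
  rw [pvec, R.mat_mul, ap_mcomp]; rfl

theorem ap_inv_cancel (g : G) {v : ℕ} (hv : ap idMat v = v) : ap (R.mat g⁻¹) (ap (R.mat g) v) = v := by
  rw [← ap_mcomp, ← R.mat_mul, inv_mul_cancel, R.mat_one, hv]

/-- The node representative by number. -/
def repN (k : ℕ) : G := wEl R.gen (repWord k)

theorem pvec_repN {k : ℕ} (hk : k < 20) : R.pvec (R.repN k) = wordAp baseT (repWord k) cVec :=
  R.pvec_word fun i hi => Nat.le_of_ble_eq_true (List.all_eq_true.1 (all_range rep_words_lt hk) i hi)

variable [Finite G]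

theorem pvec_sH {h : G} (hh : h ∈ R.sH) : R.pvec h = cVec := by
  change h ∈ (closure (R.gen '' {i | i < 14 ∧ i ≠ 2})).toSubmonoid at hh
  rw [closure_toSubmonoid_of_finite] at hh
  induction hh using Submonoid.closure_induction with
  | mem x hx =>
    obtain ⟨i, ⟨hi, hi2⟩, rfl⟩ := hx
    rw [pvec, R.mat_gen i hi]
    have h := all_range stab_checks.1 hi
    simp only [Bool.or_eq_true] at h
    rcases h with h | h
    · exact absurd (Nat.eq_of_beq_eq_true h) hi2
    · exact Nat.eq_of_beq_eq_true h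
  | one => rw [pvec, R.mat_one]; exact Nat.eq_of_beq_eq_true stab_checks.2
  | mul a b _ _ ha hb => rw [R.pvec_mul, hb]; exact ha

theorem card_sV : Nat.card ↥R.sV = 2048 := by
  have hmem : ∀ v, v ∈ R.sV ↔ ∃ m < 2048, R.trEl 11 m = v := by
    intro v
    refine ⟨fun hv => ?_, fun ⟨m, _, e⟩ => e ▸ R.trEl_mem 11 le_rfl m⟩
    change v ∈ (closure (R.gen '' Set.Ico 3 14)).toSubmonoid at hv
    rw [closure_toSubmonoid_of_finite] at hv
    induction hv using Submonoid.closure_induction with
    | mem x hx =>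
      obtain ⟨i, ⟨h3, h14⟩, rfl⟩ := hx
      obtain ⟨i, rfl⟩ : ∃ j, i = 3 + j := ⟨i - 3, by omega⟩
      have : ∀ k, i < k → R.trEl k (2 ^ i) = R.gen (3 + i) := by
        intro k
        induction k with
        | zero => intro h; omega
        | succ k ih =>
          intro h
          rcases Nat.lt_succ_iff_lt_or_eq.1 h with h' | rfl
          · simp [trEl, Nat.testBit_two_pow, show i ≠ k by omega, ih h']
          · simp only [trEl, Nat.testBit_two_pow_self, if_true]
            rw [R.trEl_congr i (2 ^ i) 0 fun j hj => by simp [Nat.testBit_two_pow, show i ≠ j by omega], R.trEl_zero,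
              mul_one]
      exact ⟨2 ^ i, (Nat.pow_lt_pow_right one_lt_two (show i < 11 by omega)).trans_le (by norm_num), this 11 (by omega)⟩
    | one => exact ⟨0, by norm_num, R.trEl_zero 11⟩
    | mul a b _ _ ha hb =>
      obtain ⟨m, hm, rfl⟩ := ha
      obtain ⟨n, hn, rfl⟩ := hb
      exact ⟨m ^^^ n, Nat.xor_lt_two_pow (n := 11) hm hn, R.trEl_xor 11 le_rfl m n⟩
  let f : Fin 2048 → ↥R.sV := fun m => ⟨R.trEl 11 m, R.trEl_mem 11 le_rfl m⟩
  have hf : Function.Bijective f :=
    ⟨fun a b e => Fin.ext (R.trEl_inj a a.2 b b.2 (congrArg Subtype.val e)), fun v => by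
      obtain ⟨m, hm, e⟩ := (hmem v).1 v.2
      exact ⟨⟨m, hm⟩, Subtype.ext e⟩⟩
  rw [← Nat.card_congr (Equiv.ofBijective f hf), Nat.card_fin]

theorem sV_elementary : Cfsg.IsElementaryAbelian 2 R.sV := by
  have h1 : ∀ a ∈ R.sV, ∀ k < 11, Commute a (R.gen (3 + k)) := fun a ha k hk => R.sV_comm ha hk
  have hc : ∀ a ∈ R.sV, ∀ b ∈ R.sV, a * b = b * a := by
    intro a ha b hb
    induction hb using closure_induction with
    | mem x hx =>
      obtain ⟨i, ⟨h3, h14⟩, rfl⟩ := hx
      obtain ⟨i, rfl⟩ : ∃ j, i = 3 + j := ⟨i - 3, by omega⟩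
      exact h1 a ha i (by omega)
    | one => simp
    | mul u v _ _ hu hv => exact (Commute.mul_right hu hv).eq
    | inv u _ hu => exact (Commute.inv_right hu).eq
  refine ⟨⟨⟨fun a b => Subtype.ext (hc a a.2 b b.2)⟩⟩, fun a ha => ?_⟩
  rw [pow_two]
  induction ha using closure_induction with
  | mem x hx =>
    obtain ⟨i, ⟨h3, h14⟩, rfl⟩ := hx
    obtain ⟨i, rfl⟩ : ∃ j, i = 3 + j := ⟨i - 3, by omega⟩
    exact R.tr_sq (by omega)
  | one => simp
  | mul u v hu hv ihu ihv =>
    rw [mul_assoc, ← mul_assoc v u v, hc v hv u hu, mul_assoc u v v, ihv, mul_one, ihu]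
  | inv u _ ih => rw [← mul_inv_rev, ih, inv_one]

theorem sH_le_normalizer : R.sH ≤ normalizer (R.sV : Set G) := fun h hh => by
  refine mem_normalizer_iff.2 fun v => ⟨R.sH_normal h hh v, fun hv => ?_⟩
  have := R.sH_normal h⁻¹ (inv_mem hh) _ hv
  simpa [mul_assoc] using this

section

variable {K : Subgroup G} (hK : K ≤ R.sH) (hH : Nat.card ↥R.sH = 501397585920) (hidx : R.sH.index = 173067389)
  (hcov : ∀ g : G, ∃ i, ∃ h ∈ K, (g : G ⧸ R.sH) = ((h * R.repEl i : G) : G ⧸ R.sH))
  (hsize : ∀ i : Fin 20, (orbit ↥K ((R.repEl i : G) : G ⧸ R.sH)).ncard ≤ 244823040 / nodeSizes.getD i.1 0)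

theorem repEl_eq (i : Fin 20) : R.repEl i = R.repN i := rfl

include hK hcov in
/-- The stabiliser of the fixed vector is the subgroup of the generators. -/
theorem mem_sH_of_pvec {g : G} (hg : R.pvec g = cVec) : g ∈ R.sH := by
  obtain ⟨i, h, hh, e⟩ := hcov g
  have hc := Nat.eq_of_beq_eq_true stab_checks.2
  have hd : g⁻¹ * (h * R.repEl i) ∈ R.sH := QuotientGroup.eq.1 e
  have h1 : R.pvec (h * R.repEl i) = cVec := by
    rw [show h * R.repEl i = g * (g⁻¹ * (h * R.repEl i)) by group, R.pvec_mul, R.pvec_sH hd]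
    exact hg
  have h2 : R.pvec (R.repEl i) = cVec := by
    have h3 := congrArg (ap (R.mat h⁻¹)) h1
    rw [R.pvec_mul, R.ap_inv_cancel h (by rw [pvec]; exact R.ap_id_mat _ _)] at h3
    rw [h3]
    have := R.pvec_sH (inv_mem (hK hh))
    exact this
  have hi : i.1 = 0 := by
    by_contra hne
    have hm := all_range node_moves i.2
    rw [R.repEl_eq, R.pvec_repN i.2] at h2
    simp only [Bool.or_eq_true, Bool.not_eq_true', h2] at hm
    rcases hm with hm | hm
    · exact hne (Nat.eq_of_beq_eq_true hm)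
    · simp at hm
  have hr : R.repEl i = 1 := by rw [R.repEl_eq, hi]; rfl
  rw [hr, mul_one] at hd
  have := mul_mem (hK hh) (inv_mem hd)
  rwa [mul_inv_rev, inv_inv, mul_inv_cancel_left] at this

include hK hcov in
theorem coset_eq_of_pvec {a b : G} (h : R.pvec a = R.pvec b) : (a : G ⧸ R.sH) = b := by
  refine QuotientGroup.eq.2 (R.mem_sH_of_pvec hK hcov ?_)
  rw [R.pvec_mul, ← h, pvec, R.ap_inv_cancel a (Nat.eq_of_beq_eq_true stab_checks.2)]

/-- The node. -/
def node (k : ℕ) : G ⧸ R.sH := (R.repN k : G ⧸ R.sH)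

/-- The suborbit of a node. -/
def sub20 (k : ℕ) : Set (G ⧸ R.sH) := orbit ↥R.sH (R.node k)

include hK hcov in
theorem sub20_join : ∀ d ∈ joinData, R.sub20 d.1 = R.sub20 d.2.1 := by
  intro d hd
  have h := List.all_eq_true.1 join_checks d hd
  obtain ⟨k, j, A, B⟩ := d
  simp only [Bool.and_eq_true, List.all_eq_true, Nat.blt_eq, Bool.not_eq_true'] at h
  obtain ⟨⟨⟨hk, hj⟩, hw⟩, he⟩ := h
  have hin : ∀ w : List ℕ, (∀ i ∈ w, i < 14 ∧ Nat.beq i 2 = false) → wEl R.gen w ∈ R.sH := fun w hw =>
    wEl_mem _ fun i hi => subset_closure ⟨i, ⟨(hw i hi).1, fun e => by have h2 := (hw i hi).2; rw [e] at h2; simp at h2⟩, rfl⟩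
  have hA := hin A fun i hi => hw i (List.mem_append_left _ hi)
  have hB := hin B fun i hi => hw i (List.mem_append_right _ hi)
  have hlt : ∀ (w : List ℕ) (n : ℕ), n < 20 → (∀ i ∈ w, i < 14) → ∀ i ∈ w ++ repWord n, i < 14 := by
    intro w n hn hw' i hi
    rcases List.mem_append.1 hi with h | h
    · exact hw' i h
    · exact Nat.le_of_ble_eq_true (List.all_eq_true.1 (all_range rep_words_lt hn) i h)
  have e : ((wEl R.gen A * R.repN k : G) : G ⧸ R.sH) = ((wEl R.gen B * R.repN j : G) : G ⧸ R.sH) := by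
    refine R.coset_eq_of_pvec hK hcov ?_
    rw [repN, repN, ← wEl_append, ← wEl_append,
      R.pvec_word (hlt A k hk fun i hi => (hw i (List.mem_append_left _ hi)).1),
      R.pvec_word (hlt B j hj fun i hi => (hw i (List.mem_append_right _ hi)).1)]
    exact Nat.eq_of_beq_eq_true he
  have e1 : (⟨_, hA⟩ : ↥R.sH) • R.node k = (⟨_, hB⟩ : ↥R.sH) • R.node j := e
  show orbit ↥R.sH (R.node k) = orbit ↥R.sH (R.node j)
  rw [← orbit_smul (⟨_, hA⟩ : ↥R.sH) (R.node k), e1, orbit_smul]

include hK hcov in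
theorem sub20_class {k : ℕ} (hk : k < 20) : R.sub20 k = R.sub20 (classRep.getD (classOf.getD k 7) 0) := by
  have L := R.sub20_join hK hcov
  simp only [joinData, List.mem_cons, List.not_mem_nil, or_false, forall_eq_or_imp, forall_eq] at L
  obtain ⟨l17, l8, l26, l213, l112, l1416, l1417, l35, l39, l315, l318, l125, l419⟩ := L
  interval_cases k
  exacts [rfl, rfl, rfl, rfl, rfl, l35.symm, l26.symm, l17.symm, rfl, l39.symm, l8.symm, l112,
    l125.trans l35.symm, l213.symm, rfl, l315.symm, l1416.symm, l1417.symm, l318.symm, l419.symm]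

include hK hH hidx hcov hsize in
/-- **The seven suborbits.** -/
theorem seven_suborbits : ∃ c : Fin 7 → G ⧸ R.sH,
    (∀ i j : Fin 7, i ≠ j → orbit ↥R.sH (c i) ≠ orbit ↥R.sH (c j)) ∧
    (∀ q : G ⧸ R.sH, ∃ i : Fin 7, q ∈ orbit ↥R.sH (c i)) ∧
    (List.ofFn fun i => (orbit ↥R.sH (c i)).ncard) =
      [1, 15180, 28336, 3400320, 32643072, 54405120, 82575360] := by
  classical
  haveI : Fintype (G ⧸ R.sH) := Fintype.ofFinite _
  -- every coset lies in one node
  have hidx' : ∀ q : G ⧸ R.sH, ∃ i : Fin 20, q ∈ orbit ↥K ((R.repEl i : G) : G ⧸ R.sH) := by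
    intro q
    induction q using QuotientGroup.induction_on with
    | H g =>
      obtain ⟨i, h, hh, e⟩ := hcov g
      exact ⟨i, e ▸ ⟨⟨h, hh⟩, rfl⟩⟩
  choose idx hidxm using hidx'
  let fib : Fin 20 → Finset (G ⧸ R.sH) := fun i => Finset.univ.filter fun q => idx q = i
  have hfle : ∀ i, (fib i).card ≤ 244823040 / nodeSizes.getD i.1 0 := fun i => by
    rw [← Set.ncard_coe_finset]
    refine (Set.ncard_le_ncard (fun q hq => ?_) (Set.toFinite _)).trans (hsize i)
    have := hidxm q
    rwa [(Finset.mem_filter.1 (Finset.mem_coe.1 hq)).2] at this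
  have hsum : ∑ i, (fib i).card = 173067389 := by
    rw [← hidx, Subgroup.index, Nat.card_eq_fintype_card, ← Finset.card_univ,
      Finset.card_eq_sum_card_fiberwise (f := idx) (t := Finset.univ) fun _ _ => Finset.mem_univ _]
  have hfeq : ∀ i, (fib i).card = 244823040 / nodeSizes.getD i.1 0 := by
    intro i
    refine le_antisymm (hfle i) ?_
    by_contra hlt
    push Not at hlt
    have : ∑ j, (fib j).card < ∑ j : Fin 20, 244823040 / nodeSizes.getD j.1 0 :=
      Finset.sum_lt_sum (fun j _ => hfle j) ⟨i, Finset.mem_univ i, hlt⟩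
    rw [hsum, show ∑ j : Fin 20, 244823040 / nodeSizes.getD j.1 0 = 173067389 by decide +kernel] at this
    exact lt_irrefl _ this
  have hnode : ∀ q, orbit ↥R.sH q = R.sub20 (idx q).1 := by
    intro q
    obtain ⟨k, hk⟩ := hidxm q
    refine (orbit_eq_iff.2 ⟨⟨k, hK k.2⟩, ?_⟩)
    exact hk
  let O : Fin 7 → Set (G ⧸ R.sH) := fun i => R.sub20 (classRep.getD i.1 0)
  obtain ⟨cls, hcls⟩ : ∃ f : G ⧸ R.sH → Fin 7, ∀ q, (f q).1 = classOf.getD (idx q).1 7 :=
    ⟨fun q => ⟨classOf.getD (idx q).1 7, classOf_lt _ (idx q).2⟩, fun _ => rfl⟩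
  have hO : ∀ q, orbit ↥R.sH q = O (cls q) := fun q => by
    show _ = R.sub20 (classRep.getD (cls q).1 0)
    rw [hcls, hnode q, R.sub20_class hK hcov (idx q).2]
  let blk : Fin 7 → Finset (G ⧸ R.sH) := fun i => Finset.univ.filter fun q => cls q = i
  have hblk : ∀ i, (blk i).card = classSize.getD i.1 0 := by
    intro i
    rw [Finset.card_eq_sum_card_fiberwise (f := idx) (t := Finset.univ.filter fun k : Fin 20 => classOf.getD k.1 7 = i.1)
      fun q hq => Finset.mem_filter.2 ⟨Finset.mem_univ _, (hcls q).symm.trans (congrArg Fin.val (Finset.mem_filter.1 hq).2)⟩]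
    refine Eq.trans (Finset.sum_congr rfl fun k hk => ?_) (class_sum i)
    refine Eq.trans (congrArg Finset.card ?_) (hfeq k)
    ext q
    simp only [fib, Finset.mem_filter, Finset.mem_univ, true_and]
    refine ⟨fun h => h.2, fun h => ⟨Fin.ext ?_, h⟩⟩
    rw [hcls q, h]; exact (Finset.mem_filter.1 hk).2
  -- an orbit is the union of the classes with that orbit
  have hOsize : ∀ i, (O i).ncard = ∑ j ∈ Finset.univ.filter (fun j => O j = O i), classSize.getD j.1 0 := by
    intro i
    have hset : (O i) = ↑(Finset.univ.filter fun q => O (cls q) = O i) := by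
      ext q
      simp only [Finset.coe_filter, Finset.mem_univ, true_and, Set.mem_ofPred_eq]
      rw [← hO q]
      exact orbit_eq_iff.symm
    conv_lhs => rw [hset, Set.ncard_coe_finset]
    rw [Finset.card_eq_sum_card_fiberwise (f := cls)
      (t := Finset.univ.filter fun j => O j = O i) fun q hq => by simpa using hq]
    refine Finset.sum_congr rfl fun j hj => ?_
    refine Eq.trans (congrArg Finset.card ?_) (hblk j)
    ext q
    simp only [blk, Finset.mem_filter, Finset.mem_univ, true_and, and_iff_right_iff_imp]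
    rintro rfl
    exact (Finset.mem_filter.1 hj).2
  have hdvd : ∀ i, (O i).ncard ∣ 501397585920 := fun i => by
    rw [← hH, ← Nat.card_coe_set_eq]
    exact ⟨_, by rw [← Nat.card_prod]; exact Nat.card_congr (orbitProdStabilizerEquivGroup ↥R.sH _).symm⟩
  -- the exceptional pair
  have hpair : O 4 ≠ O 5 := by
    intro e
    have hm : R.node 3 ∈ orbit ↥R.sH (R.node 14) := by
      show R.node 3 ∈ O 4
      rw [e]; exact mem_orbit_self _
    obtain ⟨⟨h, hh⟩, e3⟩ := hm
    have e3' : ((h * R.repN 14 : G) : G ⧸ R.sH) = (R.repN 3 : G ⧸ R.sH) := e3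
    set a := h * R.repN 14 with ha
    have hp : R.pvec a = R.pvec (R.repN 3) := by
      have hd := QuotientGroup.eq.1 e3'
      conv_rhs => rw [show R.repN 3 = a * (a⁻¹ * R.repN 3) by group, R.pvec_mul, R.pvec_sH hd]
      rfl
    have hu : ap (R.mat (R.trEl 11 1770)) (R.pvec (R.repN 14)) = R.pvec (R.repN 14) := by
      rw [R.mat_trEl 11 le_rfl, ← (trMatF_eq 11 1770).1, R.pvec_repN (by norm_num)]
      exact Nat.eq_of_beq_eq_true pair_checks.1
    obtain ⟨m, hm, em⟩ : ∃ m < 2048, R.trEl 11 m = h * R.trEl 11 1770 * h⁻¹ := by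
      have hv := R.sH_normal h hh _ (R.trEl_mem 11 le_rfl 1770)
      let f : Fin 2048 → ↥R.sV := fun m => ⟨R.trEl 11 m, R.trEl_mem 11 le_rfl m⟩
      have hfi : Function.Injective f := fun a b e => Fin.ext (R.trEl_inj a a.2 b b.2 (congrArg Subtype.val e))
      have hf : Function.Surjective f := (hfi.bijective_of_nat_card_le (by rw [R.card_sV, Nat.card_fin])).2
      obtain ⟨m, e'⟩ := hf ⟨_, hv⟩
      exact ⟨m, m.2, congrArg Subtype.val e'⟩
    have hfix : ap (R.mat (R.trEl 11 m)) (R.pvec (R.repN 3)) = R.pvec (R.repN 3) := by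
      rw [em, ← hp, ha, ← R.pvec_mul, show h * R.trEl 11 1770 * h⁻¹ * (h * R.repN 14) =
        h * (R.trEl 11 1770 * R.repN 14) by group, R.pvec_mul h, R.pvec_mul (R.trEl 11 1770), hu, ← R.pvec_mul]
    have hm0 : m ≠ 0 := by
      intro h0
      rw [h0, R.trEl_zero] at em
      have h1 : R.trEl 11 1770 = 1 := by
        rw [show R.trEl 11 1770 = h⁻¹ * (h * R.trEl 11 1770 * h⁻¹) * h by group, ← em]; group
      exact absurd (R.trEl_inj 1770 (by norm_num) 0 (by norm_num) (h1.trans (R.trEl_zero 11).symm)) (by norm_num)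
    have hid : ap idMat (R.pvec (R.repN 3)) = R.pvec (R.repN 3) := R.ap_id_mat _ _
    obtain ⟨ed, -⟩ := R.dblL_eq (ap_id_lt hid) hid 11 le_rfl
    have hc := pair_checks.2
    rw [← R.pvec_repN (k := 3) (by norm_num), ed, ← List.map_tail, List.tail_range] at hc
    have := List.all_eq_true.1 hc _ (List.mem_map.2 ⟨m, List.mem_range'.2 ⟨m - 1, by norm_num; omega, by omega⟩, rfl⟩)
    rw [hfix] at this
    simp at this
  have hdist : ∀ i j, O i = O j → i = j := by
    intro i j e
    by_contra hne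
    have hd := hdvd i
    rw [hOsize i] at hd
    rcases union_checks _ hd with h1 | h1
    · exact hne (Finset.card_le_one.1 h1 i (by simp) j (by simp [e]))
    · have h4 : O 4 = O i := by
        have : (4 : Fin 7) ∈ Finset.univ.filter (fun l => O l = O i) := by rw [h1]; decide
        exact (Finset.mem_filter.1 this).2
      have h5 : O 5 = O i := by
        have : (5 : Fin 7) ∈ Finset.univ.filter (fun l => O l = O i) := by rw [h1]; decide
        exact (Finset.mem_filter.1 this).2
      exact hpair (h4.trans h5.symm)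
  refine ⟨fun i => R.node (classRep.getD i.1 0), fun i j hij e => hij (hdist i j e), fun q => ⟨cls q, ?_⟩, ?_⟩
  · show q ∈ O (cls q)
    rw [← hO q]; exact mem_orbit_self q
  · have hs : ∀ i, (O i).ncard = classSize.getD i.1 0 := by
      intro i
      rw [hOsize i]
      exact Finset.sum_eq_single i (fun l hl hne => absurd (hdist l i (Finset.mem_filter.1 hl).2) hne)
        (fun h => absurd (Finset.mem_filter.2 ⟨Finset.mem_univ i, rfl⟩ : i ∈ Finset.univ.filter fun l => O l = O i) h)
    show List.ofFn (fun i => (O i).ncard) = _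
    simp only [hs]
    decide +kernel

end

end MatRep

end Cfsg.Agent.J4Cent
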