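import Cfsg.Agent.Lib.J4Cent.CentChecksQ

/-!
Kernel checks for the type of the model: two elements of order three whose commutator covers the kernel element.
-/

set_option autoImplicit false
set_option maxRecDepth 100000

namespace Cfsg.Agent.J4Cent

/-- The first word. -/
def xWord : List ℕ := [13, 4, 0, 2, 12, 2, 12, 0, 0, 0, 4, 13]

/-- The second word. -/
def yWord : List ℕ := [2, 12, 2, 12]

theorem xyWord_lt : ∀ i ∈ xWord ++ yWord, i < 14 := by decide +kernel

theorem typeF :
    (fcomp (wordMatF genT xWord) (fcomp (wordMatF genT xWord) (wordMatF genT xWord)) == idMat) = true ∧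
    (fcomp (wordMatF genT yWord) (fcomp (wordMatF genT yWord) (wordMatF genT yWord)) == idMat) = true ∧
    (fcomp (wordMatF genT xWord) (wordMatF genT yWord) ==
      fcomp (fcomp (fcomp (elMatF 12 2592) mZ) mW) (fcomp (wordMatF genT yWord) (wordMatF genT xWord))) = true ∧
    (fcomp mW (qT.getD 0 idMat) == fcomp (qT.getD 0 idMat) mW) = false ∧
    (fcomp mW (qT.getD 0 idMat) == fcomp (fcomp (qT.getD 0 idMat) mZ) mW) = false := by
  decide +kernel

theorem typeOK :
    (mcomp (wordMat genT xWord) (mcomp (wordMat genT xWord) (wordMat genT xWord)) == idMat) = true ∧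
    (mcomp (wordMat genT yWord) (mcomp (wordMat genT yWord) (wordMat genT yWord)) == idMat) = true ∧
    (mcomp (wordMat genT xWord) (wordMat genT yWord) ==
      mcomp (mcomp (mcomp (elMat 12 2592) mZ) mW) (mcomp (wordMat genT yWord) (wordMat genT xWord))) = true ∧
    (mcomp mW (qT.getD 0 idMat) == mcomp (qT.getD 0 idMat) mW) = false ∧
    (mcomp mW (qT.getD 0 idMat) == mcomp (mcomp (qT.getD 0 idMat) mZ) mW) = false := by
  obtain ⟨ex, hx⟩ := wordMatF_eq genT okG xWord
  obtain ⟨ey, hy⟩ := wordMatF_eq genT okG yWord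
  obtain ⟨ee, he⟩ := elMatF_eq 12 2592
  have hW := ok_of_okB ok_all.2.2.2.1
  have h := typeF
  rw [ex, ey, ee, fcomp_eq hx hx, fcomp_eq hx (ok_mcomp hx hx), fcomp_eq hy hy, fcomp_eq hy (ok_mcomp hy hy),
    fcomp_eq hx hy, fcomp_eq he okZ, fcomp_eq (ok_mcomp he okZ) hW, fcomp_eq hy hx,
    fcomp_eq (ok_mcomp (ok_mcomp he okZ) hW) (ok_mcomp hy hx), fcomp_eq hW (okQ 0), fcomp_eq (okQ 0) hW,
    fcomp_eq (okQ 0) okZ, fcomp_eq (ok_mcomp (okQ 0) okZ) hW] at h
  exact h

end Cfsg.Agent.J4Cent
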