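import Cfsg.Agent.Lib.J4Cent.Bridge
import Cfsg.Agent.Lib.J4Cent.TypeChecks
import Cfsg.Agent.Lib.JankoFour.DuadAut
import Cfsg.Agent.Lib.JankoFour.Reduce.Entry

/-!
The model of the fourth Janko group is of Janko-four type at the translation, given the bound on its centraliser.
-/

set_option autoImplicit false
set_option linter.unusedSectionVars false
set_option linter.style.haveILetI false
set_option maxRecDepth 100000

namespace Cfsg.Agent.J4Cent

open Cfsg Cfsg.Agent.Golay Cfsg.Agent.PermCert Subgroup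
open scoped Pointwise commutatorElement

theorem hexSimple_eq : hexSimple = Spor.M22 := by
  ext σ
  rw [hexSimple, stabIn_m22, mem_stabSets, JankoFour.TwoCent.mem_M22_iff]
  simp

theorem duad_image {σ : Equiv.Perm GolayPt} (hσ : σ ∈ hexGroup) :
    JankoFour.TwoCent.duad0.image ⇑σ = JankoFour.TwoCent.duad0 := by
  have h := (mem_stabIn.1 (hexGroup_le hσ)).2 8388609 List.mem_cons_self
  rwa [show maskSet 8388609 = JankoFour.TwoCent.duad0 by decide +kernel] at h

theorem eq_one_of_comm_hexSimple {σ : Equiv.Perm GolayPt} (hσ : σ ∈ hexGroup)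
    (h : ∀ s ∈ hexSimple, σ * s = s * σ) : σ = 1 :=
  JankoFour.TwoCent.eq_one_of_comm (mem_stabIn.1 (hexGroup_le hσ)).1 (duad_image hσ)
    (hexSimple_eq ▸ h)

/-- A subgroup that is perfect modulo `Q` acts trivially on a quotient of order three. -/
theorem commutator_le_of_perf {C : Type*} [Group C] [Finite C] {Q N M : Subgroup C} [hQ : Q.Normal]
    [hn : N.Normal] (hQN : Q ≤ N) (hN3 : Nat.card ↥N = 3 * Nat.card ↥Q) (hperf : M ≤ ⁅M, M⁆ ⊔ Q) :
    ⁅M, N⁆ ≤ Q := by
  set φ : C →* C ⧸ Q := QuotientGroup.mk' Q with hφ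
  have hker : ∀ {x}, x ∈ Q ↔ φ x = 1 := fun {x} => (QuotientGroup.eq_one_iff x).symm
  set Nb := N.map φ with hNb
  have hNb3 : Nat.card ↥Nb = 3 := by
    have h := card_mul_index (Q.subgroupOf N)
    rw [Nat.card_congr (subgroupOfEquivOfLe hQN).toEquiv, hN3, mul_comm 3] at h
    have h' : Q.relIndex N = 3 := Nat.eq_of_mul_eq_mul_left Nat.card_pos h
    rw [hNb, ← relIndex_ker N φ, hφ]
    simpa only [QuotientGroup.ker_mk'] using h'
  haveI : Fact (Nat.Prime 3) := ⟨Nat.prime_three⟩
  haveI : IsCyclic ↥Nb := isCyclic_of_prime_card hNb3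
  haveI : Nb.Normal := hn.map φ (QuotientGroup.mk'_surjective Q)
  let α : C →* MulAut ↥Nb := (MulAut.conjNormal : _ →* MulAut ↥Nb).comp φ
  have hαcomm : ∀ a b, α a * α b = α b * α a := fun a b => by
    refine MulEquiv.ext fun n => ?_
    obtain ⟨ga, hga⟩ := MonoidHom.map_cyclic (α a).toMonoidHom
    obtain ⟨gb, hgb⟩ := MonoidHom.map_cyclic (α b).toMonoidHom
    have ea : ∀ x, α a x = x ^ ga := hga
    have eb : ∀ x, α b x = x ^ gb := hgb
    show α a (α b n) = α b (α a n)
    rw [ea, eb, ea, eb, ← zpow_mul, ← zpow_mul, mul_comm]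
  rw [commutator_le]
  intro m hm n hn'
  have hle : ⁅M, M⁆ ⊔ Q ≤ α.ker := by
    refine sup_le ?_ fun q hq => ?_
    · rw [commutator_le]
      intro a _ b _
      rw [MonoidHom.mem_ker, map_commutatorElement, commutatorElement_eq_one_iff_mul_comm]
      exact hαcomm a b
    · rw [MonoidHom.mem_ker]
      show MulAut.conjNormal (φ q) = 1
      rw [hker.1 hq, map_one]
  have hαm : α m = 1 := MonoidHom.mem_ker.1 (hle (hperf hm))
  have h1 := congrArg Subtype.val (DFunLike.congr_fun hαm (⟨φ n, mem_map_of_mem φ hn'⟩ : ↥Nb))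
  simp only [α, MonoidHom.comp_apply, MulAut.conjNormal_apply, MulAut.one_apply] at h1
  rw [hker, commutatorElement_def, map_mul, map_mul, map_mul, map_inv, map_inv, h1, mul_inv_cancel]

namespace MatRep

variable {G : Type*} [Group G] [Finite G] (R : MatRep G)

/-- The kernel element of order three. -/
def wC : G := wEl R.cgen wWord

theorem mat_wC : R.mat R.wC = mW := by
  rw [wC, R.mat_wEl _ genT _ fun i hi => R.mat_cgen (wWord_lt i hi)]
  exact wordW

theorem orderOf_wC : orderOf R.wC = 3 := by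
  haveI : Fact (Nat.Prime 3) := ⟨Nat.prime_three⟩
  refine orderOf_eq_prime (R.mat_inj ?_) fun e => ?_
  · rw [pow_succ', pow_two, R.mat_mul, R.mat_mul, R.mat_one, R.mat_wC]
    exact beq_iff_eq.1 wCube.1
  · have := wCube.2
    rw [← R.mat_wC, e, R.mat_one, beq_self_eq_true] at this
    exact Bool.noConfusion this

theorem cgen_mem_cent {i : ℕ} (hi : i < 14) : R.cgen i ∈ centralizer ({R.zEl} : Set G) :=
  mem_centralizer_singleton_iff.2 (R.comm_z (by
    rw [R.mat_cgen hi]; exact List.mem_append_right _ (genT_mem hi)))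

theorem qEl_mem_closure {i : ℕ} (hi : i < 12) : R.qEl i ∈ closure (R.cgen '' Set.Iio 14) := by
  refine wEl_mem _ fun j hj => subset_closure ⟨j, ?_, rfl⟩
  have h := all_range qWordsOK hi
  simp only [Bool.and_eq_true, List.all_eq_true, Nat.blt_eq] at h
  exact h.1 j hj

theorem zEl_mem_closure : R.zEl ∈ closure (R.cgen '' Set.Iio 14) := by
  refine wEl_mem _ fun i hi => ?_
  have : 3 ≤ i ∧ i < 14 := by revert i; decide +kernel
  rw [show R.gen i = R.cgen i by simp [cgen, show i ≠ 0 by omega, show i ≠ 1 by omega]]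
  exact subset_closure ⟨i, this.2, rfl⟩

theorem rules_inj : ∀ m < 2 ^ 12, ∀ m' < 2 ^ 12,
    (∀ j < 12, (R.rules.chi 12 m).testBit j = (R.rules.chi 12 m').testBit j) → m = m' := by
  intro m hm m' hm' h
  have hlt : ∀ m < 2 ^ 12, R.rules.chi 12 m < 4096 ∧ ap qBinv (R.rules.chi 12 m) = m := fun m hm => by
    have := all_range chiOK (show m < 4096 by norm_num at hm; omega)
    simp only [Bool.and_eq_true, Nat.blt_eq, Nat.beq_eq] at this
    rw [R.chi_eq]
    exact this
  have e : R.rules.chi 12 m = R.rules.chi 12 m' := Nat.eq_of_testBit_eq fun j => by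
    rcases Nat.lt_or_ge j 12 with hj | hj
    · exact h j hj
    · rw [Nat.testBit_lt_two_pow ((hlt m hm).1.trans_le (Nat.pow_le_pow_right two_pos hj)),
        Nat.testBit_lt_two_pow ((hlt m' hm').1.trans_le (Nat.pow_le_pow_right two_pos hj))]
  rw [← (hlt m hm).2, e, (hlt m' hm').2]

theorem sub_le_closure : R.rules.sub ≤ closure (R.cgen '' Set.Iio 14) :=
  (closure_le _).2 (by rintro x (rfl | ⟨i, hi, rfl⟩); exacts [R.zEl_mem_closure, R.qEl_mem_closure hi])

theorem conj_sub : ∀ g ∈ R.cgen '' Set.Iio 14, ∀ x ∈ R.rules.sub, g * x * g⁻¹ ∈ R.rules.sub := by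
  rintro _ ⟨i, hi, rfl⟩ x hx
  induction hx using closure_induction with
  | mem g hg =>
    rcases hg with rfl | ⟨j, hj, rfl⟩
    · rw [mem_centralizer_singleton_iff.1 (R.cgen_mem_cent hi), mul_inv_cancel_right]; exact R.rules.z_mem
    · exact R.conj_mem hi hj
  | one => simp
  | mul a b _ _ ha hb =>
    rw [show R.cgen i * (a * b) * (R.cgen i)⁻¹ = R.cgen i * a * (R.cgen i)⁻¹ * (R.cgen i * b * (R.cgen i)⁻¹) by group]
    exact mul_mem ha hb
  | inv a _ ha =>
    rw [show R.cgen i * a⁻¹ * (R.cgen i)⁻¹ = (R.cgen i * a * (R.cgen i)⁻¹)⁻¹ by group]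
    exact inv_mem ha

/-- The centraliser maps onto the duad stabiliser with kernel of order `3 * 2^13`. -/
theorem exists_cent_hom (hub : Nat.card ↥(centralizer ({R.zEl} : Set G)) ≤ 21799895040) :
    closure (R.cgen '' Set.Iio 14) = centralizer ({R.zEl} : Set G) ∧
    ∃ σ : ↥(centralizer ({R.zEl} : Set G)) →* Equiv.Perm GolayPt, σ.range = hexGroup ∧
      Nat.card ↥σ.ker = 24576 ∧ R.rules.sub.subgroupOf (centralizer ({R.zEl} : Set G)) ≤ σ.ker ∧
      ∀ c : ↥(centralizer ({R.zEl} : Set G)), (c : G) = R.wC → σ c = 1 := by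
  classical
  letI := R.vecAction
  have hl : pts.length = 77 := pts_nodup.1
  have hv : Function.Injective pt77 := fun a b e => by
    have e' : pts.getD a 0 = pts.getD b 0 := congrArg Subtype.val e
    rw [List.getD_eq_getElem _ _ (by omega), List.getD_eq_getElem _ _ (by omega)] at e'
    exact Fin.ext ((pts_nodup.2.getElem_inj_iff).1 e')
  have hfix : ∀ g : G, R.mat g ∈ qT ++ [mW, mZ] → ∀ h, g • pt77 h = pt77 h := by
    intro g hg h
    refine Subtype.ext ?_
    show ap (R.mat g) (pts.getD h 0) = pts.getD h 0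
    rw [List.getD_eq_getElem _ _ (by omega)]
    exact Nat.eq_of_beq_eq_true (List.all_eq_true.1 (List.all_eq_true.1 fixOK _ hg) _ (List.getElem_mem _))
  have hstep : ∀ i < 14, Alike pt77 (R.cgen i) (gperm i) := by
    intro i hi
    refine ⟨gperm_mem_hexGroup hi, fun h => ?_⟩
    have hh := all_range (all_range movOK_true hi) h.2
    simp only [Bool.and_eq_true, Nat.blt_eq, Nat.beq_eq] at hh
    refine ⟨⟨_, hh.1.1⟩, Subtype.ext ?_, ?_⟩
    · show ap (R.mat (R.cgen i)) (pts.getD h 0) = _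
      rw [R.mat_cgen hi]
      exact hh.1.2
    · have hv : validElt 5 24 (hexElts.getD i (one 5 24)) = true := by
        have he : hexElts.length = 14 := rfl
        rw [List.getD_eq_getElem _ _ (by omega)]
        have := List.all_eq_true.1 elts_ok _ (List.getElem_mem (l := hexElts) (n := i) (by omega))
        simp only [Bool.and_eq_true] at this
        exact this.1.1
      unfold gperm hex
      exact (maskSet_imgMask hv _).trans (congrArg maskSet hh.2)
  set K := closure (R.cgen '' Set.Iio 14) with hK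
  choose f hf using fun k : ↥K => exists_alike hstep k.2
  let ρ : ↥K →* Equiv.Perm GolayPt := MonoidHom.mk' f fun a b =>
    alike_unique hv (hf (a * b)) (alike_mul (hf a) (hf b))
  have hρ1 : ∀ k : ↥K, R.mat k ∈ qT ++ [mW, mZ] → ρ k = 1 := fun k hk =>
    alike_unique hv (hf k) ⟨one_mem _, fun i => ⟨i, hfix _ hk i, one_smul _ _⟩⟩
  have hrange : ρ.range = hexGroup := by
    refine le_antisymm ?_ ((closure_le _).2 ?_)
    · rintro _ ⟨k, rfl⟩; exact (hf k).1
    · rintro _ ⟨i, hi, rfl⟩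
      exact ⟨⟨R.cgen i, subset_closure ⟨i, hi, rfl⟩⟩, alike_unique hv (hf _) (hstep i hi)⟩
  have hQker : R.rules.sub.subgroupOf K ≤ ρ.ker := by
    have : R.rules.sub ≤ ρ.ker.map K.subtype := (closure_le _).2 (by
      rintro x (rfl | ⟨i, hi, rfl⟩)
      · exact ⟨⟨_, R.zEl_mem_closure⟩, hρ1 _ (by show R.mat R.zEl ∈ _; rw [R.mat_zEl]; simp), rfl⟩
      · exact ⟨⟨_, R.qEl_mem_closure hi⟩,
          hρ1 _ (by show R.mat (R.qEl i) ∈ _; rw [R.mat_qEl hi]; exact List.mem_append_left _ (qT_mem hi)), rfl⟩)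
    intro k hk
    obtain ⟨k', h1, h2⟩ := this (mem_subgroupOf.1 hk)
    rwa [Subtype.ext h2] at h1
  have hwK : R.wC ∈ K := wEl_mem _ fun i hi => subset_closure ⟨i, wWord_lt i hi, rfl⟩
  have hwker : (⟨R.wC, hwK⟩ : ↥K) ∈ ρ.ker := hρ1 _ (by show R.mat R.wC ∈ _; rw [R.mat_wC]; simp)
  have hKC : K ≤ centralizer ({R.zEl} : Set G) :=
    (closure_le _).2 (by rintro _ ⟨i, hi, rfl⟩; exact R.cgen_mem_cent hi)
  have h1 : 2 ^ 13 ∣ Nat.card ↥ρ.ker := by
    rw [← (R.rules.card_sub R.rules_inj).1, ← Nat.card_congr (subgroupOfEquivOfLe R.sub_le_closure).toEquiv]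
    exact card_dvd_of_le hQker
  have h3 : 3 ∣ Nat.card ↥ρ.ker := by
    have h := orderOf_dvd_natCard (⟨_, hwker⟩ : ↥ρ.ker)
    rwa [← orderOf_coe, ← orderOf_coe, R.orderOf_wC] at h
  have hk : 24576 ∣ Nat.card ↥ρ.ker :=
    (Nat.Coprime.mul_dvd_of_dvd_of_dvd (by norm_num) h3 h1 : 3 * 2 ^ 13 ∣ _)
  have hcK : Nat.card ↥ρ.ker * 887040 = Nat.card ↥K := by
    rw [← card_hexGroup, ← hrange, ← index_ker, card_mul_index]
  have hle : Nat.card ↥K ≤ Nat.card ↥(centralizer ({R.zEl} : Set G)) := card_le_of_le hKC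
  have hker : Nat.card ↥ρ.ker = 24576 := by
    have := Nat.le_of_dvd Nat.card_pos hk
    omega
  have hKeq : K = centralizer ({R.zEl} : Set G) := eq_of_le_of_card_ge hKC (by omega)
  let j := MulEquiv.subgroupCongr hKeq.symm
  refine ⟨hKeq, ρ.comp j.toMonoidHom, ?_, ?_, fun c hc => hQker ?_, fun c hc => ?_⟩
  · rw [MonoidHom.range_comp, MonoidHom.range_eq_top.2 j.surjective, ← MonoidHom.range_eq_map, hrange]
  · rw [← hker]
    exact Nat.card_congr (Equiv.subtypeEquiv j.toEquiv fun _ => Iff.rfl)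
  · exact mem_subgroupOf.2 (mem_subgroupOf.1 hc)
  · have e : j c = ⟨R.wC, hwK⟩ := Subtype.ext hc
    show ρ (j c) = 1
    rw [e]
    exact hwker

/-- **The model is of Janko-four type at the translation.** -/
theorem isOfJankoFourTypeAt (hub : Nat.card ↥(centralizer ({R.zEl} : Set G)) ≤ 21799895040) :
    Cfsg.IsOfJankoFourTypeAt R.zEl := by
  classical
  set C := centralizer ({R.zEl} : Set G) with hC
  obtain ⟨hKeq, σ, hσr, hσk, hQker, hσw⟩ := R.exists_cent_hom hub
  have hQC : R.rules.sub ≤ C := R.sub_le_closure.trans hKeq.le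
  set Q := R.rules.sub.subgroupOf C with hQdef
  set N := σ.ker with hNdef
  set M := hexSimple.comap σ with hMdef
  have eQ : ↥Q ≃* ↥R.rules.sub := subgroupOfEquivOfLe hQC
  haveI hQn : Q.Normal := ⟨fun q hq c => mem_subgroupOf.2
    (closure_le_normalizer R.conj_sub (c : G) (hKeq.ge c.2) _ (mem_subgroupOf.1 hq))⟩
  have hcard : Nat.card ↥Q = 2 ^ 13 := by rw [Nat.card_congr eQ.toEquiv, (R.rules.card_sub R.rules_inj).1]
  have hQx : Cfsg.IsExtraspecial 2 ↥Q :=
    Cfsg.Agent.Qd.isExtraspecial_congr eQ (R.rules.extraspecial (by norm_num) R.rules_inj)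
  have hN : Nat.card ↥N = 3 * Nat.card ↥Q := by rw [hσk, hcard]; norm_num
  have hNM : N ≤ M := fun c hc => by
    show σ c ∈ hexSimple
    rw [MonoidHom.mem_ker.1 hc]; exact one_mem _
  have hSr : hexSimple ≤ σ.range := hσr ▸ hexSimple_le
  have hM : M.index = 2 := by
    rw [hMdef, index_comap, hσr]
    have h := relIndex_mul_relIndex ⊥ hexSimple hexGroup bot_le hexSimple_le
    rw [relIndex_bot_left, relIndex_bot_left, card_hexSimple, card_hexGroup] at h
    omega
  haveI hMn : M.Normal := normal_of_index_eq_two hM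
  -- the inner part
  let f : ↥M →* ↥hexSimple := (σ.comp M.subtype).codRestrict hexSimple fun m => m.2
  have hfs : Function.Surjective f := fun s => by
    obtain ⟨c, hc⟩ := hSr s.2
    exact ⟨⟨c, show σ c ∈ hexSimple by rw [hc]; exact s.2⟩, Subtype.ext hc⟩
  have hfk : f.ker = N.subgroupOf M := by
    ext m
    exact ⟨fun h => congrArg Subtype.val (h : f m = 1), fun h => Subtype.ext h⟩
  let eM : ↥M ⧸ N.subgroupOf M ≃* ↥hexSimple :=
    (QuotientGroup.quotientMulEquivOfEq hfk.symm).trans (QuotientGroup.quotientKerEquivOfSurjective f hfs)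
  have hM22 : Cfsg.Spor.IsoM22 (↥M ⧸ N.subgroupOf M) := ⟨eM.trans (MulEquiv.subgroupCongr hexSimple_eq)⟩
  haveI := isSimpleGroup_hexSimple
  have hout : ∀ c : ↥C, (∀ m ∈ M, c * m * c⁻¹ * m⁻¹ ∈ N) → c ∈ M := by
    intro c hc
    refine hNM (MonoidHom.mem_ker.2 (eq_one_of_comm_hexSimple (hσr ▸ ⟨c, rfl⟩) fun s hs => ?_))
    obtain ⟨m, rfl⟩ := hSr hs
    have h := MonoidHom.mem_ker.1 (hc m hs)
    rwa [map_mul, map_mul, map_mul, map_inv, map_inv, mul_inv_eq_one, mul_inv_eq_iff_eq_mul] at h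
  -- the two witnesses
  have hwordC : ∀ w : List ℕ, (∀ i ∈ w, i < 14) → wEl R.cgen w ∈ C := fun w hw =>
    wEl_mem _ fun i hi => R.cgen_mem_cent (hw i hi)
  let x : ↥C := ⟨wEl R.cgen xWord, hwordC _ fun i hi => xyWord_lt i (List.mem_append_left _ hi)⟩
  let y : ↥C := ⟨wEl R.cgen yWord, hwordC _ fun i hi => xyWord_lt i (List.mem_append_right _ hi)⟩
  have hmx : R.mat x = wordMat genT xWord :=
    R.mat_wEl _ genT _ fun i hi => R.mat_cgen (xyWord_lt i (List.mem_append_left _ hi))
  have hmy : R.mat y = wordMat genT yWord :=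
    R.mat_wEl _ genT _ fun i hi => R.mat_cgen (xyWord_lt i (List.mem_append_right _ hi))
  obtain ⟨hx3, hy3, hxy, hw1, hw2⟩ := typeOK
  have hcube : ∀ c : ↥C, (mcomp (R.mat c) (mcomp (R.mat c) (R.mat c)) == idMat) = true → c ∈ M := by
    intro c hc
    have h3 : c ^ 3 = 1 := Subtype.ext (R.mat_inj (by
      rw [SubmonoidClass.coe_pow, pow_succ', pow_two, R.mat_mul, R.mat_mul, beq_iff_eq.1 hc]
      exact R.mat_one.symm))
    have h2 : c ^ 2 ∈ M := by rw [pow_two]; exact (mul_mem_iff_of_index_two hM).2 Iff.rfl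
    have := mul_mem (h3 ▸ one_mem M : c ^ 3 ∈ M) (inv_mem h2)
    rwa [pow_succ' c 2, mul_inv_cancel_right] at this
  have hxM : x ∈ M := hcube x (by rw [hmx]; exact hx3)
  have hyM : y ∈ M := hcube y (by rw [hmy]; exact hy3)
  let w : ↥C := ⟨R.wC, hwordC _ wWord_lt⟩
  have hwN : w ∈ N := MonoidHom.mem_ker.2 (hσw w rfl)
  let e0 : ↥C := ⟨R.rules.el 12 2592 * R.zEl, hQC (mul_mem (R.rules.el_mem 12 le_rfl _) R.rules.z_mem)⟩
  have he0 : e0 ∈ Q := mem_subgroupOf.2 (mul_mem (R.rules.el_mem 12 le_rfl _) R.rules.z_mem)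
  have hxyw : w = e0⁻¹ * ⁅x, y⁆ := by
    have h : x * y = e0 * w * (y * x) := Subtype.ext (R.mat_inj (by
      simp only [Subgroup.coe_mul, R.mat_mul, hmx, hmy, e0, w, R.mat_el 12 le_rfl, R.mat_zEl, R.mat_wC]
      exact beq_iff_eq.1 hxy))
    rw [commutatorElement_def, h]; group
  let q0 : ↥C := ⟨R.qEl 0, hQC (R.rules.q_mem (by norm_num))⟩
  let zc : ↥C := ⟨R.zEl, hQC R.rules.z_mem⟩
  have hNQ : N ≤ zpowers w ⊔ Q := by
    have h2 : zpowers w ⊔ Q ≤ N := sup_le (zpowers_le.2 hwN) hQker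
    refine (eq_of_le_of_card_ge h2 ?_).ge
    have a : 2 ^ 13 ∣ Nat.card ↥(zpowers w ⊔ Q) := hcard ▸ card_dvd_of_le le_sup_right
    have b : 3 ∣ Nat.card ↥(zpowers w ⊔ Q) := by
      have := card_dvd_of_le (le_sup_left : zpowers w ≤ zpowers w ⊔ Q)
      rwa [Nat.card_zpowers, ← orderOf_coe, R.orderOf_wC] at this
    have hd : 3 * 2 ^ 13 ∣ Nat.card ↥(zpowers w ⊔ Q) := Nat.Coprime.mul_dvd_of_dvd_of_dvd (by norm_num) b a
    rw [hσk]
    exact (by norm_num : 24576 = 3 * 2 ^ 13).trans_le (Nat.le_of_dvd Nat.card_pos hd)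
  -- perfect modulo Q
  have hperf : M ≤ ⁅M, M⁆ ⊔ Q := by
    set K0 := ⁅M, M⁆ ⊔ Q with hK0
    have hwK : w ∈ K0 := hxyw ▸ mul_mem (mem_sup_right (inv_mem he0)) (mem_sup_left (commutator_mem_commutator hxM hyM))
    have hNK : N ≤ K0 := hNQ.trans (sup_le (zpowers_le.2 hwK) le_sup_right)
    have hder : ∀ s : ↥hexSimple, ∃ d : ↥M, (d : ↥C) ∈ K0 ∧ f d = s := by
      have hne : (_root_.commutator ↥hexSimple) = ⊤ := by
        refine (Subgroup.commutator_normal ⊤ ⊤).eq_bot_or_eq_top.resolve_left fun hb => ?_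
        have hab : ∀ a b : ↥hexSimple, a * b = b * a := fun a b =>
          commutatorElement_eq_one_iff_mul_comm.1 (mem_bot.1 (hb ▸ commutator_mem_commutator (mem_top a) (mem_top b)))
        let _ : CommGroup ↥hexSimple := { mul_comm := hab }
        have hp := IsSimpleGroup.prime_card (α := ↥hexSimple)
        rw [card_hexSimple] at hp
        norm_num at hp
      intro s
      have hs : s ∈ (_root_.commutator ↥M).map f := by
        rw [_root_.commutator_def, map_commutator, map_top_of_surjective f hfs, ← _root_.commutator_def, hne]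
        exact mem_top s
      obtain ⟨d, hd, rfl⟩ := hs
      refine ⟨d, mem_sup_left ?_, rfl⟩
      have := mem_map_of_mem M.subtype hd
      rwa [map_subtype_commutator] at this
    intro m hm
    obtain ⟨d, hd, hdm⟩ := hder (f ⟨m, hm⟩)
    have : d⁻¹ * ⟨m, hm⟩ ∈ f.ker := by rw [MonoidHom.mem_ker, map_mul, map_inv, hdm, inv_mul_cancel]
    rw [hfk] at this
    have h := mul_mem hd (hNK (mem_subgroupOf.1 this))
    simpa using h
  have hcent : ⁅M, N⁆ ≤ Q := commutator_le_of_perf hQker hN hperf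
  -- the centraliser of Q
  have h2c : centralizer (Q : Set ↥C) ≤ Q := by
    set D := centralizer (Q : Set ↥C) with hD
    haveI : D.Normal := inferInstance
    have hwD : w ∉ D ⊔ Q := by
      intro h
      obtain ⟨d, hd, q, hq, e⟩ := mem_sup_of_normal_right.1 h
      have hq0 : q0 ∈ Q := mem_subgroupOf.2 (R.rules.q_mem (by norm_num))
      obtain ⟨m, -, b, em⟩ := R.rules.mem_sub_iff.1 (mem_subgroupOf.1 hq)
      have hc := R.rules.chi_comm (m := m) b (j := 0) (by norm_num)
      rw [← em] at hc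
      have h1 : w * q0 = q0 * w ∨ w * q0 = q0 * zc * w := by
        have hdq : d * q0 = q0 * d := (mem_centralizer_iff.1 hd q0 hq0).symm
        have hdz : d * zc = zc * d := (mem_centralizer_iff.1 hd zc (mem_subgroupOf.2 R.rules.z_mem)).symm
        cases hb : (R.rules.chi 12 m).testBit 0
        · rw [hb] at hc
          have hq' : q * q0 = q0 * q := Subtype.ext (by simpa [XRules.zb, q0] using hc)
          refine Or.inl ?_
          rw [← e, mul_assoc, hq', ← mul_assoc, hdq, mul_assoc]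
        · rw [hb] at hc
          have hq' : q * q0 = q0 * zc * q := Subtype.ext (by
            have hz : (q : G) * R.zEl = R.zEl * q := R.rules.z_comm (mem_subgroupOf.1 hq)
            simp only [XRules.zb, if_true] at hc
            simp only [Subgroup.coe_mul, q0, zc]
            rw [hc, mul_assoc, hz, ← mul_assoc])
          refine Or.inr ?_
          rw [← e, mul_assoc d q q0, hq', ← mul_assoc, ← mul_assoc, hdq, mul_assoc q0 d zc, hdz]
          simp only [mul_assoc]
      rcases h1 with h1 | h1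
      · have h' := congrArg (fun u : ↥C => R.mat u) h1
        simp only [Subgroup.coe_mul, R.mat_mul, w, q0, R.mat_wC, R.mat_qEl (show 0 < 12 by norm_num)] at h'
        rw [h', beq_self_eq_true] at hw1
        exact Bool.noConfusion hw1
      · have h' := congrArg (fun u : ↥C => R.mat u) h1
        simp only [Subgroup.coe_mul, R.mat_mul, w, q0, zc, R.mat_wC, R.mat_zEl,
          R.mat_qEl (show 0 < 12 by norm_num)] at h'
        rw [h', beq_self_eq_true] at hw2
        exact Bool.noConfusion hw2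
    have hDN : D ≤ N := by
      -- the image is normal in the image of the centraliser
      set S := (D.map σ).subgroupOf hexSimple with hS
      haveI : S.Normal := ⟨fun s hs g => by
        obtain ⟨d, hd, hds⟩ := mem_subgroupOf.1 hs
        obtain ⟨c, hc⟩ := hSr g.2
        refine mem_subgroupOf.2 ⟨c * d * c⁻¹, Subgroup.Normal.conj_mem inferInstance d hd c, ?_⟩
        rw [map_mul, map_mul, map_inv, hc, hds]; rfl⟩
      rcases (inferInstance : S.Normal).eq_bot_or_eq_top with hb | ht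
      · intro d hd
        refine MonoidHom.mem_ker.2 (eq_one_of_comm_hexSimple (hσr ▸ ⟨d, rfl⟩) fun s hs => ?_)
        obtain ⟨c, rfl⟩ := hSr hs
        have h1 : ⟨σ ⁅d, c⁆, ?_⟩ ∈ S := mem_subgroupOf.2 ⟨⁅d, c⁆, ?_, rfl⟩
        · rw [hb, mem_bot, Subtype.ext_iff] at h1
          change σ ⁅d, c⁆ = 1 at h1
          rwa [map_commutatorElement, commutatorElement_eq_one_iff_mul_comm] at h1
        · have hcM : c ∈ M := hs
          exact mem_comap.1 (show ⁅d, c⁆ ∈ M from mul_mem (hMn.conj_mem c hcM d) (inv_mem hcM))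
        · rw [commutatorElement_def, mul_assoc, mul_assoc]
          exact mul_mem hd (by rw [← mul_assoc]; exact Subgroup.Normal.conj_mem inferInstance _ (inv_mem hd) c)
      · exfalso
        -- the two witnesses lie in D ⊔ N
        let ψ := QuotientGroup.mk' (D ⊔ Q)
        have hin : ∀ c ∈ M, ψ c ∈ zpowers (ψ w) := by
          intro c hc
          obtain ⟨d, hd, e⟩ := mem_subgroupOf.1 (ht ▸ mem_top (⟨σ c, hc⟩ : ↥hexSimple) : ⟨σ c, hc⟩ ∈ S)
          have hn : d⁻¹ * c ∈ N := by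
            rw [hNdef, MonoidHom.mem_ker, map_mul, map_inv, e]; exact inv_mul_cancel _
          obtain ⟨a, ha, q, hq, e'⟩ := mem_sup_of_normal_right.1 (hNQ hn)
          obtain ⟨i, rfl⟩ := mem_zpowers_iff.1 ha
          refine mem_zpowers_iff.2 ⟨i, ?_⟩
          have hd1 : ψ d = 1 := (QuotientGroup.eq_one_iff _).2 (mem_sup_left hd)
          have hq1 : ψ q = 1 := (QuotientGroup.eq_one_iff _).2 (mem_sup_right hq)
          rw [show c = d * (w ^ i * q) by rw [e']; group, map_mul, map_mul, hd1, hq1, map_zpow, one_mul, mul_one]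
        obtain ⟨i, hi⟩ := mem_zpowers_iff.1 (hin x hxM)
        obtain ⟨k, hk⟩ := mem_zpowers_iff.1 (hin y hyM)
        refine hwD ((QuotientGroup.eq_one_iff w).1 ?_)
        show ψ w = 1
        rw [hxyw, map_mul, map_inv, show ψ e0 = 1 from (QuotientGroup.eq_one_iff e0).2 (mem_sup_right he0), map_commutatorElement,
          ← hi, ← hk, commutatorElement_eq_one_iff_mul_comm.2 (Commute.zpow_zpow_self (ψ w) i k).eq]
        simp
    -- between Q and N
    have hle : D ⊔ Q ≤ N := sup_le hDN hQker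
    have hQe : D ⊔ Q = Q := by
      obtain ⟨a, ha⟩ := card_dvd_of_le (le_sup_right : Q ≤ D ⊔ Q)
      have hb := card_dvd_of_le hle
      rw [ha, hN, mul_comm 3, Nat.mul_dvd_mul_iff_left Nat.card_pos] at hb
      rcases (Nat.dvd_prime Nat.prime_three).1 hb with rfl | rfl
      · exact (eq_of_le_of_card_ge le_sup_right (by rw [ha, mul_one])).symm
      · exact absurd ((eq_of_le_of_card_ge hle (by rw [ha, hN, mul_comm])).ge hwN) hwD
    exact hQe ▸ le_sup_left
  exact JankoFour.Reduce.type_at_of_centraliser R.orderOf_z hQker hNM hM hQx hcard hN hcent hperf h2c hout hM22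

end MatRep

end Cfsg.Agent.J4Cent
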