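import Cfsg.Agent.Lib.J4Cent.ModelCover
import Cfsg.Agent.Lib.J4Cent.Orbits
import Cfsg.Agent.Lib.J4Cent.TypeModel
import Cfsg.Agent.Lib.J4Cent.Exists

/-!
The node hypotheses hold in the model; it is of Janko-four type and its suborbits have exact sizes.
-/

set_option autoImplicit false
set_option linter.unusedSectionVars false
set_option maxRecDepth 100000

namespace Cfsg.Agent.J4Cent

open Cfsg Cfsg.Agent.J4Bound Cfsg.Agent.J4Pres MulAction

section

variable {G : Type*} [Group G] [Finite G] (R : MatRep G) (S : Rels G) (hx : S.ψ gx = R.gen 0)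
  (hy : S.ψ gy = (R.gen 1)⁻¹) (ht : S.t = R.gen 2) (hgen : Subgroup.closure (Set.range S.ψ ∪ {S.t}) = ⊤)
include hx hy ht hgen

theorem node_hyps : S.ψ.range ≤ R.sH ∧
    (∀ g : G, ∃ i, ∃ h ∈ S.ψ.range, (g : G ⧸ R.sH) = ((h * R.repEl i : G) : G ⧸ R.sH)) ∧
    ∀ i : Fin 20, (orbit ↥S.ψ.range ((R.repEl i : G) : G ⧸ R.sH)).ncard ≤ 244823040 / nodeSizes.getD i.1 0 := by
  classical
  refine ⟨by rintro _ ⟨g, rfl⟩; exact psi_mem_sH R S hx hy ht g, fun a => ?_, fun i => ?_⟩
  · obtain ⟨j, g, hg⟩ := node_cover R S hx hy ht hgen a⁻¹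
    refine ⟨j, S.ψ g⁻¹, ⟨g⁻¹, rfl⟩, QuotientGroup.eq.2 ?_⟩
    rw [← node_inv R S hx hy ht j j.2]
    refine H_le_sH R S hx hy ht ?_
    convert hg using 1
    rw [map_inv]
    group
  · have hK : Data.sizes.getD i.1 0 ≤ Nat.card ↥(S.setup.K i.1) := S.sizes_le i.1 i.2
    have hpos : ∀ k < 20, 0 < Data.sizes.getD k 0 := by decide +kernel
    rw [rep_zero.2.2, Nat.le_div_iff_mul_le (hpos _ i.2)]
    refine le_trans (Nat.mul_le_mul le_rfl hK) ?_
    have hidx : (orbit ↥S.ψ.range ((R.repEl i : G) : G ⧸ R.sH)).ncard ≤ (S.setup.K i.1).index := by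
      let f : M24 ⧸ S.setup.K i.1 → G ⧸ R.sH := Quotient.lift
        (fun g => ((S.ψ g * R.repEl i : G) : G ⧸ R.sH)) (by
          intro a b hab
          have h : S.setup.X i.1 * S.ψ (a⁻¹ * b) * (S.setup.X i.1)⁻¹ ∈ S.H := QuotientGroup.leftRel_apply.1 hab
          refine QuotientGroup.eq.2 ?_
          rw [← node_inv R S hx hy ht i.1 i.2]
          refine H_le_sH R S hx hy ht ?_
          convert h using 1
          rw [map_mul, map_inv]
          group)
      rw [Subgroup.index, ← Nat.card_coe_set_eq]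
      refine le_trans (Nat.card_mono (Set.toFinite (Set.range f)) ?_) (Finite.card_range_le f)
      rintro q ⟨⟨_, g, rfl⟩, rfl⟩
      exact ⟨QuotientGroup.mk g, rfl⟩
    refine le_trans (Nat.mul_le_mul hidx le_rfl) (le_of_eq ?_)
    rw [Subgroup.index_mul_card, Golay.card_M24]

theorem index_sH_le : R.sH.index ≤ 173067389 := by
  classical
  obtain ⟨-, hcov, hsize⟩ := node_hyps R S hx hy ht hgen
  haveI : Fintype (G ⧸ R.sH) := Fintype.ofFinite _
  rw [Subgroup.index, Nat.card_eq_fintype_card, ← Finset.card_univ]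
  calc (Finset.univ : Finset (G ⧸ R.sH)).card
      ≤ (Finset.univ.biUnion fun i : Fin 20 =>
          (orbit ↥S.ψ.range ((R.repEl i : G) : G ⧸ R.sH)).toFinset).card := Finset.card_le_card (by
        intro q _
        induction q using QuotientGroup.induction_on with
        | H g =>
          obtain ⟨i, h, hh, e⟩ := hcov g
          exact Finset.mem_biUnion.2 ⟨i, Finset.mem_univ _, Set.mem_toFinset.2 (e ▸ ⟨⟨h, hh⟩, rfl⟩)⟩)
    _ ≤ ∑ i : Fin 20, (orbit ↥S.ψ.range ((R.repEl i : G) : G ⧸ R.sH)).toFinset.card := Finset.card_biUnion_le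
    _ ≤ ∑ i : Fin 20, 244823040 / nodeSizes.getD i.1 0 := Finset.sum_le_sum fun i _ => by
        rw [← Set.ncard_eq_toFinset_card']; exact hsize i
    _ = 173067389 := by decide +kernel

theorem type_of_rels : Cfsg.IsOfJankoFourType G := by
  obtain ⟨hK, hcov, hsize⟩ := node_hyps R S hx hy ht hgen
  exact ⟨R.zEl, R.isOfJankoFourTypeAt (R.card_cent_le (card_sH R S hx hy ht) hK hcov hsize)⟩

theorem exact_of_rels (hcard : Nat.card G = 86775571046077562880) :
    Nat.card ↥R.sH = 501397585920 ∧ R.sH.index = 173067389 := by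
  have h1 := card_sH R S hx hy ht
  have h2 := index_sH_le R S hx hy ht hgen
  have h3 := R.sH.card_mul_index
  rw [hcard] at h3
  constructor <;> nlinarith

end

/-- The relations in the model. -/
noncomputable def relsM : Rels ModG := pushRels (j4Rels M24Pres.psi M24Pres.psi_gx M24Pres.psi_gy) toMod

theorem relsM_spec : relsM.ψ gx = modRep.gen 0 ∧ relsM.ψ gy = (modRep.gen 1)⁻¹ ∧ relsM.t = modRep.gen 2 ∧
    Subgroup.closure (Set.range relsM.ψ ∪ {relsM.t}) = ⊤ :=
  ⟨(congrArg toMod M24Pres.psi_gx).trans toMod_jx, (congrArg toMod M24Pres.psi_gy).trans toMod_jy, toMod_jt,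
    pushRels_gen _ _ J4Model.rho.rangeRestrict_surjective (j4Rels_gen _ M24Pres.psi_gx M24Pres.psi_gy)⟩

/-- **The model is of Janko-four type.** -/
theorem modG_type [Finite ModG] : Cfsg.IsOfJankoFourType ModG :=
  type_of_rels modRep relsM relsM_spec.1 relsM_spec.2.1 relsM_spec.2.2.1 relsM_spec.2.2.2

/-- A simple presented group is isomorphic to its image in the model. -/
noncomputable def presentedIso [IsSimpleGroup Spor.J4] : Spor.J4 ≃* ModG :=
  MulEquiv.ofBijective toMod ⟨(MonoidHom.ker_eq_bot_iff _).1 ((Subgroup.Normal.eq_bot_or_eq_top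
      (MonoidHom.normal_ker toMod)).resolve_right fun e => by
        have h1 := congrArg modRep.mat (toMod_jx.symm.trans (MonoidHom.mem_ker.1 (e ▸ Subgroup.mem_top jx)))
        rw [modRep.mat_gen 0 (by norm_num), modRep.mat_one] at h1
        revert h1
        decide +kernel), J4Model.rho.rangeRestrict_surjective⟩

end Cfsg.Agent.J4Cent
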