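import Cfsg.Agent.Lib.J4Cent.FastMat
import Cfsg.Agent.Lib.J4Cent.ModelData
import Cfsg.Agent.Lib.J4Cent.ModelWords

/-!
Kernel checks on the words for translations 0 to 3.
-/

set_option autoImplicit false
set_option maxRecDepth 100000

namespace Cfsg.Agent.J4Cent

theorem trWordA : ((List.range 4).drop 0).all (fun k =>
    (trWords.getD k []).all (fun i => Nat.blt i 3) &&
      (wordMatF baseT (trWords.getD k []) == baseT.getD (3 + k) idMat)) = true := by
  decide +kernel

end Cfsg.Agent.J4Cent
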