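import Cfsg.Agent.Lib.J4Cent.FastMat
import Cfsg.Agent.Lib.J4Cent.ModelData
import Cfsg.Agent.Lib.J4Cent.ModelWords

/-!
Kernel checks on the words for translations 4 to 7.
-/

set_option autoImplicit false
set_option maxRecDepth 100000

namespace Cfsg.Agent.J4Cent

theorem trWordB : ((List.range 8).drop 4).all (fun k =>
    (trWords.getD k []).all (fun i => Nat.blt i 3) &&
      (wordMatF baseT (trWords.getD k []) == baseT.getD (3 + k) idMat)) = true := by
  decide +kernel

end Cfsg.Agent.J4Cent
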