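import Cfsg.Agent.Lib.J4Pres.Model.Rep
import Cfsg.Agent.Lib.J4Cent.Bridge
import Cfsg.Agent.Lib.J4Cent.ModelTrA
import Cfsg.Agent.Lib.J4Cent.ModelTrB
import Cfsg.Agent.Lib.J4Cent.ModelTrC

/-!
The matrix representation of the image of the presented fourth Janko group.
-/

set_option autoImplicit false
set_option linter.unusedSectionVars false
set_option maxRecDepth 100000
set_option exponentiation.threshold 300

namespace Cfsg.Agent.J4Cent

open Cfsg Cfsg.Agent.J4Model Subgroup

/-- The image group. -/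
abbrev ModG : Type := ↥(J4Model.rho.range)

theorem app_eq_ap : ∀ (A : List ℕ) (v : ℕ), app v A = ap A v
  | [], v => rfl
  | c :: cs, v => by
    rw [app, ap_cons, app_eq_ap cs (v / 2)]
    rcases Nat.mod_two_eq_zero_or_one v with h | h <;> simp [h, Nat.testBit_zero, Nat.beq]

theorem mul_eq_mcomp (A B : List ℕ) : J4Model.mul A B = mcomp B A :=
  List.map_congr_left fun r _ => app_eq_ap B r

theorem one_eq_idMat : J4Model.one 112 = idMat := rfl

theorem ok_code_unique {A B : List ℕ} {g : GL (Fin 112) (ZMod 2)} (hA : Ok A) (hB : Ok B) (cA : Code A g)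
    (cB : Code B g) : A = B := by
  have e : toMat 112 A = toMat 112 B := cA.2.symm.trans cB.2
  refine List.ext_getElem (hA.1.trans hB.1.symm) fun i h1 h2 => ?_
  refine Nat.eq_of_testBit_eq fun j => ?_
  rcases Nat.lt_or_ge j 112 with hj | hj
  · have := congrFun (congrFun e ⟨i, by rw [← hA.1]; exact h1⟩) ⟨j, hj⟩
    simp only [toMat, toVec, List.getD_eq_getElem _ _ h1, List.getD_eq_getElem _ _ h2] at this
    cases ha : A[i].testBit j <;> cases hb : B[i].testBit j <;> simp [ha, hb] at this ⊢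
  · rw [Nat.testBit_lt_two_pow ((hA.2 _ (List.getElem_mem h1)).trans_le (Nat.pow_le_pow_right two_pos hj)),
      Nat.testBit_lt_two_pow ((hB.2 _ (List.getElem_mem h2)).trans_le (Nat.pow_le_pow_right two_pos hj))]

theorem letters_okB : ((List.range 4).all fun k => okB (letterRows k)) = true := by decide +kernel

theorem closure_gens :
    Subgroup.closure (Set.range (fun a : Spor.J4.Gen => genMat a) ∪ {glY⁻¹}) = J4Model.rho.range := by
  refine le_antisymm ((closure_le _).2 ?_) ?_
  · rintro g (⟨a, rfl⟩ | rfl)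
    · exact ⟨PresentedGroup.of a, PresentedGroup.toGroup.of _⟩
    · exact inv_mem ⟨PresentedGroup.of .y, PresentedGroup.toGroup.of _⟩
  · rw [MonoidHom.range_eq_map, ← PresentedGroup.closure_range_of, MonoidHom.map_closure, closure_le]
    rintro _ ⟨_, ⟨a, rfl⟩, rfl⟩
    exact subset_closure (Or.inl ⟨a, (PresentedGroup.toGroup.of _).symm⟩)

theorem exists_code {g : GL (Fin 112) (ZMod 2)} (hg : g ∈ J4Model.rho.range) : ∃ A, Ok A ∧ Code A g := by
  have hok : ∀ k < 4, Ok (letterRows k) := fun k hk =>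
    ok_of_okB (List.all_eq_true.1 letters_okB k (List.mem_range.2 hk))
  have hl : ∀ k < 4, ∃ A, Ok A ∧ Code A (glLetter k) ∧ ∃ B, Ok B ∧ Code B (glLetter k)⁻¹ := fun k hk =>
    ⟨_, hok k hk, code_letter k, _, hok _ (by split_ifs <;> omega),
      (glLetter_inv k hk) ▸ code_letter (if k = 1 then 2 else if k = 2 then 1 else k)⟩
  have key : ∀ x ∈ Subgroup.closure (Set.range (fun a : Spor.J4.Gen => genMat a) ∪ {glY⁻¹}),
      (∃ A, Ok A ∧ Code A x) ∧ ∃ B, Ok B ∧ Code B x⁻¹ := by
    intro x hx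
    induction hx using closure_induction with
    | mem x hx =>
      rcases hx with ⟨a, rfl⟩ | rfl
      · cases a
        · obtain ⟨A, h1, h2, h3⟩ := hl 0 (by norm_num); exact ⟨⟨A, h1, h2⟩, h3⟩
        · obtain ⟨A, h1, h2, h3⟩ := hl 1 (by norm_num); exact ⟨⟨A, h1, h2⟩, h3⟩
        · obtain ⟨A, h1, h2, h3⟩ := hl 3 (by norm_num); exact ⟨⟨A, h1, h2⟩, h3⟩
      · obtain ⟨A, h1, h2, h3⟩ := hl 2 (by norm_num); exact ⟨⟨A, h1, h2⟩, h3⟩
    | one => exact ⟨⟨_, ok_idMat, one_eq_idMat ▸ code_one 112⟩, ⟨_, ok_idMat, by rw [inv_one]; exact one_eq_idMat ▸ code_one 112⟩⟩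
    | mul a b _ _ ha hb =>
      obtain ⟨⟨A, oA, cA⟩, A', oA', cA'⟩ := ha
      obtain ⟨⟨B, oB, cB⟩, B', oB', cB'⟩ := hb
      exact ⟨⟨_, ok_mcomp oB oA, mul_eq_mcomp A B ▸ cA.mul cB⟩,
        ⟨_, ok_mcomp oA' oB', by rw [mul_inv_rev]; exact mul_eq_mcomp B' A' ▸ cB'.mul cA'⟩⟩
    | inv a _ ha => exact ⟨ha.2, by rw [inv_inv]; exact ha.1⟩
  exact (key g (closure_gens ▸ hg)).1

theorem exists_code_inv (g : ModG) : ∃ A, Ok A ∧ Code A (g : GL (Fin 112) (ZMod 2))⁻¹ := exists_code (inv_mem g.2)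

/-- The rows of the inverse of an element. -/
noncomputable def matOf (g : ModG) : List ℕ := (exists_code_inv g).choose

theorem matOf_spec (g : ModG) : Ok (matOf g) ∧ Code (matOf g) (g : GL (Fin 112) (ZMod 2))⁻¹ :=
  (exists_code_inv g).choose_spec

theorem matOf_eq {g : ModG} {A : List ℕ} (hA : Ok A) (cA : Code A (g : GL (Fin 112) (ZMod 2))⁻¹) : matOf g = A :=
  ok_code_unique (matOf_spec g).1 hA (matOf_spec g).2 cA

/-- The generators `x`, `y⁻¹`, `t`. -/
def gen3 (i : ℕ) : ModG :=
  if i = 0 then ⟨glX, PresentedGroup.of .x, PresentedGroup.toGroup.of _⟩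
  else if i = 1 then ⟨glY⁻¹, (PresentedGroup.of .y)⁻¹, by rw [map_inv]; exact congrArg _ (PresentedGroup.toGroup.of _)⟩
  else ⟨glT, PresentedGroup.of .t, PresentedGroup.toGroup.of _⟩

/-- All the generators. -/
def genM (i : ℕ) : ModG := if i < 3 then gen3 i else MatRep.wEl gen3 (trWords.getD (i - 3) [])

theorem matOf_one : matOf 1 = idMat :=
  matOf_eq ok_idMat (by rw [Subgroup.coe_one, inv_one]; exact one_eq_idMat ▸ code_one 112)

theorem matOf_mul (g h : ModG) : matOf (g * h) = mcomp (matOf g) (matOf h) :=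
  matOf_eq (ok_mcomp (matOf_spec g).1 (matOf_spec h).1) (by
    rw [Subgroup.coe_mul, mul_inv_rev, ← mul_eq_mcomp]
    exact (matOf_spec h).2.mul (matOf_spec g).2)

theorem rows_eq : baseT.getD 0 idMat = letterRows 0 ∧ baseT.getD 1 idMat = letterRows 1 ∧
    baseT.getD 2 idMat = letterRows 3 := by decide +kernel

theorem matOf_gen3 : ∀ i < 3, matOf (gen3 i) = baseT.getD i idMat := by
  intro i hi
  have hok := fun j : ℕ => ok_getD okBase14 j
  interval_cases i
  · refine matOf_eq (hok 0) ?_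
    rw [rows_eq.1]
    show Code _ glX⁻¹
    rw [show glX⁻¹ = glLetter 0 from ((glLetter_inv 0 (by norm_num)).symm.trans rfl)]
    exact code_letter 0
  · refine matOf_eq (hok 1) ?_
    rw [rows_eq.2.1]
    show Code _ (glY⁻¹)⁻¹
    rw [inv_inv]
    exact code_letter 1
  · refine matOf_eq (hok 2) ?_
    rw [rows_eq.2.2]
    show Code _ glT⁻¹
    rw [show glT⁻¹ = glLetter 3 from ((glLetter_inv 3 (by norm_num)).symm.trans rfl)]
    exact code_letter 3
where okBase14 : baseT.all okB = true := by decide +kernel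

theorem matOf_word : ∀ w : List ℕ, (∀ i ∈ w, i < 3) →
    matOf (MatRep.wEl gen3 w) = J4Cent.wordMat baseT w
  | [], _ => matOf_one
  | i :: w, h => by
    rw [MatRep.wEl, matOf_mul, matOf_gen3 i (h i List.mem_cons_self),
      matOf_word w fun j hj => h j (List.mem_cons_of_mem _ hj)]
    rfl

theorem trWords_ok : ∀ k < 11, (∀ i ∈ trWords.getD k [], i < 3) ∧
    wordMatF baseT (trWords.getD k []) = baseT.getD (3 + k) idMat := by
  intro k hk
  have hall : ((List.range 11).all fun k => (trWords.getD k []).all (fun i => Nat.blt i 3) &&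
      (wordMatF baseT (trWords.getD k []) == baseT.getD (3 + k) idMat)) = true := by
    rw [show List.range 11 = (List.range 4).drop 0 ++ (List.range 8).drop 4 ++ (List.range 11).drop 8 from rfl,
      List.all_append, List.all_append, trWordA, trWordB, trWordC]
    rfl
  have h := List.all_eq_true.1 hall k (List.mem_range.2 hk)
  simp only [Bool.and_eq_true, List.all_eq_true, Nat.blt_eq, beq_iff_eq] at h
  exact h

/-- The representation. -/
noncomputable def modRep : MatRep ModG where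
  mat := matOf
  gen := genM
  mat_one := matOf_one
  mat_mul := matOf_mul
  mat_inj := fun g h e => by
    have hh := (matOf_spec g).2
    rw [e] at hh
    exact Subtype.ext (inv_injective (hh.eq (matOf_spec h).2))
  mat_gen := fun i hi => by
    unfold genM
    split_ifs with h
    · exact matOf_gen3 i h
    · obtain ⟨k, rfl⟩ : ∃ k, i = 3 + k := ⟨i - 3, by omega⟩
      rw [Nat.add_sub_cancel_left]
      obtain ⟨hl, he⟩ := trWords_ok k (by omega)
      rw [matOf_word _ hl, ← he, (wordMatF_eq baseT (ok_getD matOf_gen3.okBase14) _).1]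

end Cfsg.Agent.J4Cent
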