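/-!
Words in x, y, y⁻¹ for the conjugators in the definitions of the nodes.
-/

set_option autoImplicit false

namespace Cfsg.Agent.J4Cent

/-- The words (`0` is x, `1` is y, `2` is y⁻¹). -/
def defWords : List (List Nat) := [[], [2], [1], [2, 0, 2, 0, 2, 0, 1], [0, 1, 0, 1, 0, 2], [0, 1, 0, 1, 0, 2, 0, 1, 0, 2, 0, 2], [0, 1, 0, 2, 0, 2, 0, 2, 0, 2, 0, 2, 0, 2, 0, 1], [0, 1, 0, 2, 0, 2, 0, 1], [2, 0, 2, 0, 2], [0, 1, 0, 1, 0, 2, 0, 2, 0, 2, 0, 2, 0, 1, 0, 1, 0, 2], [0, 1, 0, 1, 0, 2, 0, 2, 0, 2, 0, 2, 0, 2], [2, 0, 2, 0, 2, 0, 2, 0, 2], [2, 0, 1, 0, 1, 0, 2, 0, 1, 0, 1], [2, 0, 2], [2, 0, 2, 0, 1, 0, 1, 0, 2], [0, 2], [1, 0, 2], [0, 2, 0, 2], [2, 0, 2]]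

end Cfsg.Agent.J4Cent
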