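import Mathlib.GroupTheory.GroupAction.Quotient
import Mathlib.Data.Set.Card
import Mathlib.Tactic

/-!
Orbits of a subgroup on its cosets are carried along isomorphisms.
-/

set_option autoImplicit false

namespace Cfsg.Agent.J4Cent

open MulAction Subgroup

variable {G K : Type*} [Group G] [Group K]

/-- The bijection of coset spaces of an isomorphism. -/
def cosetEquiv (e : G ≃* K) {H : Subgroup G} {L : Subgroup K} (h : H.map e.toMonoidHom = L) : G ⧸ H ≃ K ⧸ L :=
  Quotient.congr e.toEquiv fun a b => by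
    show QuotientGroup.leftRel H a b ↔ QuotientGroup.leftRel L (e a) (e b)
    rw [QuotientGroup.leftRel_apply, QuotientGroup.leftRel_apply, ← h, mem_map_equiv, map_mul, map_inv,
      e.symm_apply_apply, e.symm_apply_apply]

theorem cosetEquiv_mk (e : G ≃* K) {H : Subgroup G} {L : Subgroup K} (h : H.map e.toMonoidHom = L) (a : G) :
    cosetEquiv e h (a : G ⧸ H) = (e a : K ⧸ L) := rfl

theorem image_orbit (e : G ≃* K) {H : Subgroup G} {L : Subgroup K} (h : H.map e.toMonoidHom = L) (q : G ⧸ H) :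
    cosetEquiv e h '' orbit ↥H q = orbit ↥L (cosetEquiv e h q) := by
  induction q using QuotientGroup.induction_on with
  | H a =>
    ext x
    constructor
    · rintro ⟨_, ⟨⟨k, hk⟩, rfl⟩, rfl⟩
      refine ⟨⟨e k, h ▸ mem_map_of_mem e.toMonoidHom hk⟩, ?_⟩
      show ((e k * e a : K) : K ⧸ L) = cosetEquiv e h ((k * a : G) : G ⧸ H)
      rw [cosetEquiv_mk, map_mul]
    · rintro ⟨⟨l, hl⟩, rfl⟩
      rw [← h] at hl
      obtain ⟨k, hk, rfl⟩ := hl
      refine ⟨((k * a : G) : G ⧸ H), ⟨⟨k, hk⟩, rfl⟩, ?_⟩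
      show cosetEquiv e h ((k * a : G) : G ⧸ H) = ((e k * e a : K) : K ⧸ L)
      rw [cosetEquiv_mk, map_mul]

/-- The orbit data is carried along. -/
theorem transfer_orbits (e : G ≃* K) {H : Subgroup G} {L : Subgroup K} (h : H.map e.toMonoidHom = L) {n : ℕ}
    {l : List ℕ} (hc : ∃ c : Fin n → G ⧸ H, (∀ i j : Fin n, i ≠ j → orbit ↥H (c i) ≠ orbit ↥H (c j)) ∧
      (∀ q : G ⧸ H, ∃ i : Fin n, q ∈ orbit ↥H (c i)) ∧ (List.ofFn fun i => (orbit ↥H (c i)).ncard) = l) :
    ∃ c : Fin n → K ⧸ L, (∀ i j : Fin n, i ≠ j → orbit ↥L (c i) ≠ orbit ↥L (c j)) ∧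
      (∀ q : K ⧸ L, ∃ i : Fin n, q ∈ orbit ↥L (c i)) ∧ (List.ofFn fun i => (orbit ↥L (c i)).ncard) = l := by
  obtain ⟨c, h1, h2, h3⟩ := hc
  refine ⟨fun i => cosetEquiv e h (c i), fun i j hij => ?_, fun q => ?_, ?_⟩
  · rw [← image_orbit, ← image_orbit]
    exact fun he => h1 i j hij ((Set.image_injective.2 (cosetEquiv e h).injective) he)
  · obtain ⟨i, hi⟩ := h2 ((cosetEquiv e h).symm q)
    refine ⟨i, ?_⟩
    rw [← image_orbit]
    exact ⟨_, hi, Equiv.apply_symm_apply _ _⟩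
  · rw [← h3]
    congr 1
    funext i
    rw [← image_orbit, Set.ncard_image_of_injective _ (cosetEquiv e h).injective]

end Cfsg.Agent.J4Cent
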