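import Cfsg.Agent.Lib.J4Cent.Orbits
import Cfsg.Agent.Lib.J4Cent.OrbitTransfer
import Cfsg.Agent.Lib.JankoFour.Recog.Normalizer

/-!
The rank seven action of a simple group of Janko-four type, given an isomorphism with the model.
-/

set_option autoImplicit false
set_option linter.unusedSectionVars false

namespace Cfsg.Agent.J4Cent

open Subgroup MulAction JankoFour.Recog

/-- The orbits of the normaliser of any elementary abelian subgroup of order 2048. -/
theorem normalizer_orbits {G₀ : Type*} [Group G₀] [Finite G₀] (R : MatRep G₀) {K : Subgroup G₀} (hK : K ≤ R.sH)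
    (hH : Nat.card ↥R.sH = 501397585920) (hidx : R.sH.index = 173067389)
    (hcov : ∀ g : G₀, ∃ i, ∃ h ∈ K, (g : G₀ ⧸ R.sH) = ((h * R.repEl i : G₀) : G₀ ⧸ R.sH))
    (hsize : ∀ i : Fin 20, (orbit ↥K ((R.repEl i : G₀) : G₀ ⧸ R.sH)).ncard ≤ 244823040 / nodeSizes.getD i.1 0)
    {G : Type*} [Group G] [Finite G] [IsSimpleGroup G] (hG : ¬ IsMulCommutative G) {z : G}
    (hJ : Cfsg.IsOfJankoFourTypeAt z) (e : G₀ ≃* G) (V : Subgroup G) (hV : Cfsg.IsElementaryAbelian 2 V)
    (hcard : Nat.card ↥V = 2048) :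
    ∃ c : Fin 7 → G ⧸ normalizer (V : Set G),
      (∀ i j : Fin 7, i ≠ j → orbit ↥(normalizer (V : Set G)) (c i) ≠ orbit ↥(normalizer (V : Set G)) (c j)) ∧
      (∀ q : G ⧸ normalizer (V : Set G), ∃ i : Fin 7, q ∈ orbit ↥(normalizer (V : Set G)) (c i)) ∧
      (List.ofFn fun i => (orbit ↥(normalizer (V : Set G)) (c i)).ncard) =
        [1, 15180, 28336, 3400320, 32643072, 54405120, 82575360] := by
  set V' : Subgroup G := R.sV.map e.toMonoidHom with hV'
  have hel : Cfsg.IsElementaryAbelian 2 V' := by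
    obtain ⟨hc, hs⟩ := R.sV_elementary
    refine ⟨⟨⟨fun a b => ?_⟩⟩, ?_⟩
    · obtain ⟨_, x, hx, rfl⟩ := a
      obtain ⟨_, y, hy, rfl⟩ := b
      refine Subtype.ext ?_
      show e x * e y = e y * e x
      rw [← map_mul, ← map_mul]
      exact congrArg e (congrArg Subtype.val (hc.is_comm.comm ⟨x, hx⟩ ⟨y, hy⟩))
    · rintro _ ⟨x, hx, rfl⟩
      show e x ^ 2 = 1
      rw [← map_pow, hs x hx, map_one]
  have hc' : Nat.card ↥V' = 2048 := by
    rw [hV', card_map_of_injective e.injective, R.card_sV]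
  have hN : R.sH.map e.toMonoidHom = normalizer (V' : Set G) := by
    refine eq_of_le_of_card_ge ?_ ?_
    · rw [hV', ← map_normalizer_of_bijective e R.sV]
      exact map_mono R.sH_le_normalizer
    · rw [card_normalizer_of_type hG hJ V' hel hc', card_map_of_injective e.injective, hH]
  obtain ⟨P, hP⟩ := hJ
  obtain ⟨F⟩ := exists_frame hG hP
  obtain ⟨g, hg⟩ := F.X.Z.D.conjugate V hV hcard
  obtain ⟨g', hg'⟩ := F.X.Z.D.conjugate V' hel hc'
  have hmap : (normalizer (V' : Set G)).map (MulAut.conj (g * g'⁻¹)).toMonoidHom = normalizer (V : Set G) := by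
    rw [map_normalizer_of_bijective (MulAut.conj (g * g'⁻¹)) V', hg, hg', Subgroup.map_map]
    congr 3
    ext x
    simp [mul_assoc]
  exact transfer_orbits (MulAut.conj (g * g'⁻¹)) hmap (transfer_orbits e hN
    (R.seven_suborbits hK hH hidx hcov hsize))

end Cfsg.Agent.J4Cent
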