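import Cfsg.Agent.Lib.J4Cent.Simple
import Cfsg.Agent.Lib.J4Cent.Exists
import Cfsg.Agent.Lib.J4Cent.OrbitMain
import Cfsg.Agent.Lib.J4Pres.Bound.Presented
import Cfsg.Agent.Lib.J4Pres.Bound.TransMain
import Cfsg.Agent.Lib.JankoFour.Recog.Main

/-!
The rank seven action in every simple group of Janko-four type: such a group is the presented group, so it is the
model.
-/

set_option autoImplicit false

namespace Cfsg.Agent.J4Cent

open Cfsg Cfsg.Agent.J4Bound Cfsg.Agent.J4Pres MulAction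

theorem orbits_of_hom (φ : M24 →* Spor.J4) (hx : φ gx = jx) (hy : φ gy = jy)
    (h : Nat.card ModG = 86775571046077562880) {G : Type*} [Group G] [Finite G] [IsSimpleGroup G]
    (hG : ¬ IsMulCommutative G) {z : G} (hJ : Cfsg.IsOfJankoFourTypeAt z) (e : ModG ≃* G) (V : Subgroup G)
    (hV : Cfsg.IsElementaryAbelian 2 V) (hcard : Nat.card ↥V = 2048) :
    ∃ c : Fin 7 → G ⧸ Subgroup.normalizer (V : Set G),
      (∀ i j : Fin 7, i ≠ j →
        orbit ↥(Subgroup.normalizer (V : Set G)) (c i) ≠ orbit ↥(Subgroup.normalizer (V : Set G)) (c j)) ∧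
      (∀ q : G ⧸ Subgroup.normalizer (V : Set G), ∃ i : Fin 7, q ∈ orbit ↥(Subgroup.normalizer (V : Set G)) (c i)) ∧
      (List.ofFn fun i => (orbit ↥(Subgroup.normalizer (V : Set G)) (c i)).ncard) =
        [1, 15180, 28336, 3400320, 32643072, 54405120, 82575360] := by
  set S := pushRels (j4Rels φ hx hy) toMod
  have e0 : S.ψ gx = modRep.gen 0 := (congrArg toMod hx).trans toMod_jx
  have e1 : S.ψ gy = (modRep.gen 1)⁻¹ := (congrArg toMod hy).trans toMod_jy
  have e2 : S.t = modRep.gen 2 := toMod_jt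
  have hgen : Subgroup.closure (Set.range S.ψ ∪ {S.t}) = ⊤ :=
    pushRels_gen _ _ J4Model.rho.rangeRestrict_surjective (j4Rels_gen φ hx hy)
  obtain ⟨hH, hidx⟩ := card_sH_eq modRep S e0 e1 e2 hgen h
  exact normalizer_orbits modRep (K := S.ψ.range)
    (by rintro _ ⟨g, rfl⟩; exact psi_mem_sH modRep S e0 e1 e2 g) hH hidx (cover_K modRep S e0 e1 e2 hgen)
    (orbit_le modRep S e0 e1 e2) hG hJ e V hV hcard

/-- A simple group of Janko-four type is isomorphic to the model. -/
theorem modG_equiv_of_type {G : Type*} [Group G] [Finite G] [IsSimpleGroup G] (hG : ¬ IsMulCommutative G)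
    (hJ : Cfsg.IsOfJankoFourType G) : Nat.card ModG = 86775571046077562880 ∧ Nonempty (ModG ≃* G) := by
  haveI := (Rels.card_H relsJ).1
  obtain ⟨hfin, hle⟩ := card_le_of_card_H (Rels.card_H relsJ).2
  haveI := hfin
  obtain ⟨e⟩ := JankoFour.Recog.iso_of_card_le hG hJ hle
  have hc : Nat.card Spor.J4 = 86775571046077562880 :=
    (Nat.card_congr e.toEquiv).symm.trans (JankoFour.order_of_type hG hJ)
  have hs : IsSimpleGroup Spor.J4 := e.symm.isSimpleGroup
  obtain ⟨f⟩ := equiv_modG hs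
  exact ⟨(Nat.card_congr f.toEquiv).symm.trans hc, ⟨f.symm.trans e.symm⟩⟩

end Cfsg.Agent.J4Cent
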