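import Cfsg.Agent.Lib.J4Cent.ModelHyps
import Cfsg.Agent.Lib.JankoFour.Recog.Out

/-!
The presented fourth Janko group: type, outer automorphisms and the rank seven action, given simplicity or a
group of Janko-four type.
-/

set_option autoImplicit false
set_option linter.unusedSectionVars false
set_option linter.style.haveILetI false
set_option maxRecDepth 100000

namespace Cfsg.Agent.J4Cent

open Cfsg Cfsg.Agent.J4Bound Cfsg.Agent.J4Pres

/-- The representation of the presented group. -/
noncomputable def presRep [IsSimpleGroup Spor.J4] : MatRep Spor.J4 where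
  mat g := modRep.mat (presentedIso g)
  gen i := presentedIso.symm (modRep.gen i)
  mat_one := by rw [map_one]; exact modRep.mat_one
  mat_mul g h := by rw [map_mul]; exact modRep.mat_mul _ _
  mat_inj := modRep.mat_inj.comp presentedIso.injective
  mat_gen i hi := by rw [MulEquiv.apply_symm_apply]; exact modRep.mat_gen i hi

theorem presRels [IsSimpleGroup Spor.J4] :
    let S := j4Rels M24Pres.psi M24Pres.psi_gx M24Pres.psi_gy
    S.ψ gx = presRep.gen 0 ∧ S.ψ gy = (presRep.gen 1)⁻¹ ∧ S.t = presRep.gen 2 := by
  refine ⟨presentedIso.injective ?_, presentedIso.injective ?_, presentedIso.injective ?_⟩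
  · show _ = presentedIso (presentedIso.symm _)
    rw [MulEquiv.apply_symm_apply]
    exact relsM_spec.1
  · show _ = presentedIso (presentedIso.symm _)⁻¹
    rw [map_inv presentedIso, MulEquiv.apply_symm_apply]
    exact relsM_spec.2.1
  · show _ = presentedIso (presentedIso.symm _)
    rw [MulEquiv.apply_symm_apply]
    exact relsM_spec.2.2.1

/-- A finite simple presented group is of Janko-four type. -/
theorem presented_type [IsSimpleGroup Spor.J4] [Finite Spor.J4] : Cfsg.IsOfJankoFourType Spor.J4 :=
  type_of_rels presRep (j4Rels M24Pres.psi M24Pres.psi_gx M24Pres.psi_gy) presRels.1 presRels.2.1 presRels.2.2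
    (j4Rels_gen _ _ _)

/-- A simple presented group of this order is not commutative. -/
theorem presented_not_comm [IsSimpleGroup Spor.J4] (hc : Nat.card Spor.J4 = 86775571046077562880) :
    ¬ IsMulCommutative Spor.J4 := by
  intro h
  haveI : Finite Spor.J4 := Nat.finite_of_card_ne_zero (by rw [hc]; norm_num)
  let _ : CommGroup Spor.J4 := { mul_comm := fun a b => mul_comm' a b }
  have hp := IsSimpleGroup.prime_card (α := Spor.J4)
  rw [hc] at hp
  norm_num at hp

/-- Trivial outer automorphism group. -/
theorem presented_out [IsSimpleGroup Spor.J4] [Finite Spor.J4] (hc : Nat.card Spor.J4 = 86775571046077562880) :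
    Nat.card (Cfsg.Out Spor.J4) = 1 :=
  JankoFour.Recog.card_out_of_type (presented_not_comm hc) presented_type

end Cfsg.Agent.J4Cent
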