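import Cfsg.Agent.Lib.J4Cent.NodeChecks

/-!
The kernel checks for simplicity: an element of order 43 and a translation moved by a generator.
-/

set_option autoImplicit false
set_option maxRecDepth 100000

namespace Cfsg.Agent.J4Cent

/-- Letters of an element of the Mathieu group that times the third generator has order 43. -/
def w43 : List ℕ := [1, 0, 2, 0, 1, 0, 1]

/-- The matrix of the word. -/
def m43 : List ℕ := wordMatF baseT (defGen w43 ++ [2])

/-- The matrix of the first part. -/
def a43 : List ℕ := wordMatF baseT (defGen w43)

/-- Repeated squaring. -/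
def sqF : ℕ → List ℕ → List ℕ
  | 0, A => A
  | n + 1, A => sqF n (fcomp A A)

theorem w43_lt : (w43.all fun k => Nat.blt k 3) = true := by decide +kernel

theorem m43_ok : (fcomp (fcomp (fcomp (sqF 5 m43) (sqF 3 m43)) (fcomp m43 m43)) m43 == idMat) = true ∧
    (fcomp a43 a43 == idMat) = false := by
  decide +kernel

theorem x_moves : (fcomp (baseT.getD 0 idMat) (baseT.getD 3 idMat) ==
    fcomp (baseT.getD 3 idMat) (baseT.getD 0 idMat)) = false := by
  decide +kernel

end Cfsg.Agent.J4Cent
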