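import Cfsg.Agent.Lib.J4Cent.ModelCover
import Cfsg.Agent.Lib.J4Cent.Orbits
import Cfsg.Agent.Lib.J4Cent.SimpleChecks
import Cfsg.Agent.Lib.M24Pres.J4
import Cfsg.Agent.Lib.Golay.Mathieu
import Cfsg.Prelude.Def_Sporadic

/-!
Simplicity of the model from its order.

A normal subgroup in the stabiliser of the fixed vector is trivial, since it meets the translations trivially
(they are moved freely at one node) and its centralising them leaves nothing outside. Any other normal subgroup
is transitive on the cosets, as the seven suborbit sizes leave no intermediate block; so its index is prime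
to 43, and it contains the element `a t` of order 43. If the Mathieu group were faithful in the quotient,
`t` would become `a⁻¹`, which is no involution; so the quotient is trivial.
-/

set_option autoImplicit false
set_option linter.unusedSectionVars false
set_option linter.style.haveILetI false
set_option maxRecDepth 100000

namespace Cfsg.Agent.J4Cent

open Cfsg Cfsg.Agent.J4Bound Cfsg.Agent.J4Pres Cfsg.Agent.Golay MulAction
open scoped Pointwise

/-- The only union of suborbits with the first one whose size divides the index is the point or everything. -/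
theorem block_checks : ∀ F : Finset (Fin 7), (0 : Fin 7) ∈ F → (∑ l ∈ F, classSize.getD l.1 0) ∣ 173067389 →
    (∑ l ∈ F, classSize.getD l.1 0) = 1 ∨ (∑ l ∈ F, classSize.getD l.1 0) = 173067389 := by
  decide +kernel

theorem class_zero : ∀ k : Fin 20, classOf.getD k.1 7 = 0 → k.1 = 0 := by decide +kernel

namespace MatRep

variable {G : Type*} [Group G] [Finite G] (R : MatRep G) {K : Subgroup G}

/-- A subgroup above the stabiliser has index one or is the stabiliser. -/
theorem block_eq (hK : K ≤ R.sH) (hH : Nat.card ↥R.sH = 501397585920) (hidx : R.sH.index = 173067389)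
    (hcov : ∀ g : G, ∃ i, ∃ h ∈ K, (g : G ⧸ R.sH) = ((h * R.repEl i : G) : G ⧸ R.sH))
    (hsize : ∀ i : Fin 20, (orbit ↥K ((R.repEl i : G) : G ⧸ R.sH)).ncard ≤ 244823040 / nodeSizes.getD i.1 0)
    {L : Subgroup G} (hL : R.sH ≤ L) : L = R.sH ∨ L = ⊤ := by
  classical
  obtain ⟨c, hd, hcv, hsz⟩ := R.seven_suborbits hK hH hidx hcov hsize
  haveI : Fintype (G ⧸ R.sH) := Fintype.ofFinite _
  have hs : ∀ i : Fin 7, (orbit ↥R.sH (c i)).ncard = classSize.getD i.1 0 := fun i => by
    have hl : i.1 < (List.ofFn fun i => (orbit ↥R.sH (c i)).ncard).length := by rw [List.length_ofFn]; exact i.2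
    have e : classSize = List.ofFn fun i => (orbit ↥R.sH (c i)).ncard := hsz.symm
    rw [e, List.getD_eq_getElem _ _ hl, List.getElem_ofFn]
  have hfix : orbit ↥R.sH ((1 : G) : G ⧸ R.sH) = {((1 : G) : G ⧸ R.sH)} := by
    refine Set.eq_singleton_iff_unique_mem.2 ⟨mem_orbit_self _, ?_⟩
    rintro q ⟨h, rfl⟩
    exact QuotientGroup.eq.2 (by simpa [Subgroup.smul_def] using R.sH.inv_mem h.2)
  -- the index of the stabiliser in `L` as a union of suborbits
  let B : Finset (G ⧸ R.sH) := Finset.univ.filter fun q => ∃ l ∈ L, (l : G ⧸ R.sH) = q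
  have hBcard : B.card = R.sH.relIndex L := by
    rw [Subgroup.relIndex, Subgroup.index, ← Nat.card_eq_finsetCard]
    refine (Nat.card_eq_of_bijective (Quotient.lift (fun l : ↥L => (⟨(l : G ⧸ R.sH),
      Finset.mem_filter.2 ⟨Finset.mem_univ _, l.1, l.2, rfl⟩⟩ : ↥B)) ?_) ⟨?_, ?_⟩).symm
    · intro a b hab
      exact Subtype.ext (QuotientGroup.eq.2 (Subgroup.mem_subgroupOf.1 (QuotientGroup.leftRel_apply.1 hab)))
    · intro a b
      induction a using Quotient.inductionOn with
      | _ a =>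
        induction b using Quotient.inductionOn with
        | _ b =>
          intro e
          exact Quotient.sound (QuotientGroup.leftRel_apply.2 (Subgroup.mem_subgroupOf.2
            (QuotientGroup.eq.1 (congrArg Subtype.val e))))
    · rintro ⟨q, hq⟩
      obtain ⟨l, hl, rfl⟩ := (Finset.mem_filter.1 hq).2
      exact ⟨Quotient.mk'' ⟨l, hl⟩, rfl⟩
  have hBinv : ∀ q ∈ B, ∀ q' ∈ orbit ↥R.sH q, q' ∈ B := by
    rintro q hq q' ⟨h, rfl⟩
    obtain ⟨l, hl, rfl⟩ := (Finset.mem_filter.1 hq).2
    exact Finset.mem_filter.2 ⟨Finset.mem_univ _, h.1 * l, L.mul_mem (hL h.2) hl, rfl⟩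
  choose cls hcls using hcv
  let F : Finset (Fin 7) := Finset.univ.filter fun i => c i ∈ B
  have hmem : ∀ q, q ∈ B ↔ cls q ∈ F := by
    intro q
    simp only [F, Finset.mem_filter, Finset.mem_univ, true_and]
    refine ⟨fun h => hBinv q h _ ?_, fun h => hBinv _ h q (hcls q)⟩
    rw [orbit_eq_iff.2 (hcls q)]
    exact mem_orbit_self _
  have huniq : ∀ q i, q ∈ orbit ↥R.sH (c i) → cls q = i := by
    intro q i h
    by_contra hne
    exact hd _ _ hne ((orbit_eq_iff.2 (hcls q)).symm.trans (orbit_eq_iff.2 h))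
  have hsum : B.card = ∑ i ∈ F, classSize.getD i.1 0 := by
    rw [Finset.card_eq_sum_card_fiberwise (f := cls) (t := F) fun q hq => (hmem q).1 hq]
    refine Finset.sum_congr rfl fun i hi => ?_
    rw [← hs i, ← Set.ncard_coe_finset]
    congr 1
    ext q
    simp only [Finset.coe_filter, Set.mem_ofPred_eq]
    refine ⟨fun h => h.2 ▸ hcls q, fun h => ⟨(hmem q).2 ?_, huniq q i h⟩⟩
    rw [huniq q i h]
    exact hi
  have h0 : (0 : Fin 7) ∈ F := by
    have h1 : ((1 : G) : G ⧸ R.sH) ∈ B := Finset.mem_filter.2 ⟨Finset.mem_univ _, 1, L.one_mem, rfl⟩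
    obtain ⟨i, hi⟩ : ∃ i, i = cls ((1 : G) : G ⧸ R.sH) := ⟨_, rfl⟩
    have hc1 := hcls ((1 : G) : G ⧸ R.sH)
    rw [← hi] at hc1
    have hone : classSize.getD i.1 0 = 1 := by
      rw [← hs i, ← orbit_eq_iff.2 hc1, hfix, Set.ncard_singleton]
    have : ∀ j : Fin 7, classSize.getD j.1 0 = 1 → j = 0 := by decide
    exact this i hone ▸ hi ▸ (hmem _).1 h1
  have hdvd : (∑ i ∈ F, classSize.getD i.1 0) ∣ 173067389 := by
    rw [← hsum, hBcard, ← hidx]
    exact Subgroup.relIndex_dvd_index_of_le hL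
  have hm := Subgroup.relIndex_mul_index hL
  rw [← hBcard, hsum, hidx] at hm
  rcases block_checks F h0 hdvd with e | e
  · exact Or.inl (le_antisymm (Subgroup.relIndex_eq_one.1 (by rw [← hBcard, hsum, e])) hL)
  · rw [e] at hm
    exact Or.inr (Subgroup.index_eq_one.1 (by omega))

/-- An element of the translations fixing the free node is trivial. -/
theorem eq_one_of_fix_node {m : ℕ} (hm : m < 2048)
    (h : ap (R.mat (R.trEl 11 m)) (R.pvec (R.repN 3)) = R.pvec (R.repN 3)) : R.trEl 11 m = 1 := by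
  rcases Nat.eq_zero_or_pos m with rfl | hpos
  · exact R.trEl_zero 11
  exfalso
  have hid : ap idMat (R.pvec (R.repN 3)) = R.pvec (R.repN 3) := R.ap_id_mat _ _
  obtain ⟨ed, -⟩ := R.dblL_eq (ap_id_lt hid) hid 11 le_rfl
  have hc := pair_checks.2
  rw [← R.pvec_repN (k := 3) (by norm_num), ed, ← List.map_tail, List.tail_range] at hc
  have := List.all_eq_true.1 hc _
    (List.mem_map.2 ⟨m, List.mem_range'.2 ⟨m - 1, by norm_num; omega, by omega⟩, rfl⟩)
  rw [h] at this
  simp at this

end MatRep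

section

variable {G : Type*} [Group G] (R : MatRep G) (S : Rels G) (hx : S.ψ gx = R.gen 0) (hy : S.ψ gy = (R.gen 1)⁻¹)
  (ht : S.t = R.gen 2)
include hx hy ht

theorem sH_le_sup : R.sH ≤ R.sV ⊔ S.ψ.range := by
  refine (Subgroup.closure_le _).2 ?_
  rintro _ ⟨i, ⟨hi, hi2⟩, rfl⟩
  rcases (by omega : i = 0 ∨ i = 1 ∨ 3 ≤ i) with rfl | rfl | h3
  · exact Subgroup.mem_sup_right ⟨gx, hx⟩
  · exact Subgroup.mem_sup_right ⟨gy⁻¹, by rw [map_inv, hy, inv_inv]⟩
  · exact Subgroup.mem_sup_left (Subgroup.subset_closure ⟨i, ⟨h3, hi⟩, rfl⟩)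

variable [Finite G] (hgen : Subgroup.closure (Set.range S.ψ ∪ {S.t}) = ⊤)
  (hcard : Nat.card G = 86775571046077562880)
include hgen hcard

theorem card_sH_eq : Nat.card ↥R.sH = 501397585920 ∧ R.sH.index = 173067389 := by
  have h1 := card_sH R S hx hy ht
  have h2 : R.sH.index ≤ 173067389 :=
    (Nat.le_of_dvd (Nat.pos_of_ne_zero (S.index_H hgen).1)
      (Subgroup.index_dvd_of_le (H_le_sH R S hx hy ht))).trans (S.index_H hgen).2
  have hm := R.sH.card_mul_index
  rw [hcard] at hm
  constructor <;> by_contra hne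
  · have : Nat.card ↥R.sH * R.sH.index < 501397585920 * 173067389 :=
      Nat.mul_lt_mul_of_lt_of_le (lt_of_le_of_ne h1 hne) h2 (by norm_num)
    omega
  · have : Nat.card ↥R.sH * R.sH.index < 501397585920 * 173067389 :=
      Nat.mul_lt_mul_of_le_of_lt h1 (lt_of_le_of_ne h2 hne) (by norm_num)
    omega

theorem normal_in_sH {K : Subgroup G} [hn : K.Normal] (hK : K ≤ R.sH) : K = ⊥ := by
  classical
  have hcov := cover_K R S hx hy ht hgen
  have hψ : S.ψ.range ≤ R.sH := by rintro _ ⟨g, rfl⟩; exact psi_mem_sH R S hx hy ht g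
  have hVsurj : ∀ v ∈ R.sV, ∃ m < 2048, R.trEl 11 m = v := by
    intro v hv
    let f : Fin 2048 → ↥R.sV := fun m => ⟨R.trEl 11 m, R.trEl_mem 11 le_rfl m⟩
    have hfi : Function.Injective f := fun a b e => Fin.ext (R.trEl_inj a a.2 b b.2 (congrArg Subtype.val e))
    have hf : Function.Surjective f := (hfi.bijective_of_nat_card_le (by rw [R.card_sV, Nat.card_fin])).2
    obtain ⟨m, e⟩ := hf ⟨v, hv⟩
    exact ⟨m, m.2, congrArg Subtype.val e⟩
  -- the kernel fixes every vector
  have hfix : ∀ k ∈ K, ∀ g, ap (R.mat k) (R.pvec g) = R.pvec g := by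
    intro k hk g
    rw [← R.pvec_mul, show k * g = g * (g⁻¹ * k * g) by group, R.pvec_mul,
      R.pvec_sH (hK (by simpa using hn.conj_mem k hk g⁻¹))]
    rfl
  have hKV : ∀ k ∈ K, k ∈ R.sV → k = 1 := by
    intro k hk hkV
    obtain ⟨m, hm, rfl⟩ := hVsurj k hkV
    exact R.eq_one_of_fix_node hm (hfix _ hk _)
  have hcomm : ∀ k ∈ K, ∀ v ∈ R.sV, k * v = v * k := by
    intro k hk v hv
    have h1 : k * v * k⁻¹ * v⁻¹ ∈ R.sV := mul_mem (R.sH_normal k (hK hk) v hv) (inv_mem hv)
    have h2 : k * v * k⁻¹ * v⁻¹ ∈ K := by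
      have := mul_mem hk (hn.conj_mem _ (inv_mem hk) v)
      convert this using 1
      group
    have h3 := hKV _ h2 h1
    calc k * v = k * v * k⁻¹ * v⁻¹ * (v * k) := by group
      _ = v * k := by rw [h3, one_mul]
  have hvc : ∀ v ∈ R.sV, ∀ w ∈ R.sV, v * w = w * v := fun v hv w hw =>
    congrArg Subtype.val (R.sV_elementary.1.1.comm ⟨v, hv⟩ ⟨w, hw⟩)
  -- the part in the Mathieu group
  let K' : Subgroup M24 := (K ⊔ R.sV).comap S.ψ
  have hK'n : K'.Normal := by
    refine ⟨fun a ha g => ?_⟩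
    show S.ψ (g * a * g⁻¹) ∈ K ⊔ R.sV
    rw [map_mul, map_mul, map_inv]
    have hsub : (K ⊔ R.sV).map (MulAut.conj (S.ψ g)).toMonoidHom ≤ K ⊔ R.sV := by
      rw [Subgroup.map_sup]
      refine sup_le_sup ?_ ?_ <;> rintro _ ⟨u, hu, rfl⟩
      · exact hn.conj_mem u hu _
      · exact R.sH_normal _ (psi_mem_sH R S hx hy ht g) u hu
    exact hsub ⟨_, ha, rfl⟩
  have hsimp := Golay.isSimpleGroup_M24
  rcases hK'n.eq_bot_or_eq_top with h | h
  · -- inside the translations
    refine eq_bot_iff.2 fun k hk => Subgroup.mem_bot.2 (hKV k hk ?_)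
    have hks := sH_le_sup R S hx hy ht (hK hk)
    rw [← SetLike.mem_coe, Subgroup.coe_mul_of_right_le_normalizer_left _ _
      (hψ.trans R.sH_le_normalizer)] at hks
    obtain ⟨u, hu, _, ⟨g, rfl⟩, rfl⟩ := hks
    have hg : g ∈ K' := by
      show S.ψ g ∈ K ⊔ R.sV
      rw [show S.ψ g = u⁻¹ * (u * S.ψ g) by group]
      exact mul_mem (Subgroup.mem_sup_right (inv_mem hu)) (Subgroup.mem_sup_left hk)
    rw [h, Subgroup.mem_bot] at hg
    show u * S.ψ g ∈ R.sV
    rw [hg, map_one, mul_one]
    exact hu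
  · exfalso
    have hgx : S.ψ gx ∈ Subgroup.centralizer (R.sV : Set G) := by
      have h1 : S.ψ gx ∈ K ⊔ R.sV := by
        have : gx ∈ K' := h ▸ Subgroup.mem_top gx
        exact this
      have hle : K ⊔ R.sV ≤ Subgroup.centralizer (R.sV : Set G) := by
        refine sup_le ?_ ?_
        · exact fun k hk => Subgroup.mem_centralizer_iff.2 fun v hv => (hcomm k hk v hv).symm
        · exact fun w hw => Subgroup.mem_centralizer_iff.2 fun v hv => hvc v hv w hw
      exact hle h1
    have h3 := congrArg R.mat (Subgroup.mem_centralizer_iff.1 hgx (R.gen 3)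
      (Subgroup.subset_closure ⟨3, ⟨le_rfl, by norm_num⟩, rfl⟩))
    rw [hx, R.mat_mul, R.mat_mul, R.mat_gen 0 (by norm_num), R.mat_gen 3 (by norm_num),
      ← fcomp_eq (ok_getD okBase.1 0) (ok_getD okBase.1 3),
      ← fcomp_eq (ok_getD okBase.1 3) (ok_getD okBase.1 0)] at h3
    have := x_moves
    rw [← h3, beq_self_eq_true] at this
    exact Bool.noConfusion this

theorem isSimple_of_rels : IsSimpleGroup G := by
  classical
  obtain ⟨hH, hidx⟩ := card_sH_eq R S hx hy ht hgen hcard
  haveI : Nontrivial G := Finite.one_lt_card_iff_nontrivial.1 (by rw [hcard]; norm_num)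
  refine ⟨fun K hn => ?_⟩
  by_cases hK : K ≤ R.sH
  · exact Or.inl (normal_in_sH R S hx hy ht hgen hcard hK)
  refine Or.inr ?_
  rcases R.block_eq (K := S.ψ.range) (by rintro _ ⟨g, rfl⟩; exact psi_mem_sH R S hx hy ht g) hH hidx
      (cover_K R S hx hy ht hgen) (orbit_le R S hx hy ht) (L := R.sH ⊔ K) le_sup_left with h | h
  · exact absurd (h ▸ le_sup_right) hK
  -- the quotient is an image of the stabiliser
  have hcop : Nat.Coprime (Nat.card (G ⧸ K)) 43 := by
    have hd : Nat.card (G ⧸ K) ∣ 501397585920 := by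
      rw [← hH]
      refine Subgroup.card_dvd_of_surjective ((QuotientGroup.mk' K).comp R.sH.subtype) fun q => ?_
      induction q using QuotientGroup.induction_on with
      | H g =>
        have hg : g ∈ R.sH ⊔ K := by rw [h]; trivial
        rw [← SetLike.mem_coe, Subgroup.mul_normal] at hg
        obtain ⟨a, ha, b, hb, rfl⟩ := hg
        refine ⟨⟨a, ha⟩, ?_⟩
        show (a : G ⧸ K) = ((a * b : G) : G ⧸ K)
        exact QuotientGroup.eq.2 (by rwa [inv_mul_cancel_left])
    exact Nat.Coprime.coprime_dvd_left hd (by norm_num)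
  set φ := QuotientGroup.mk' K with hφ
  set a : M24 := (w43.map m24Letter).prod with ha
  have hlt : ∀ k ∈ w43, k < 3 := fun k hk => Nat.le_of_ble_eq_true (List.all_eq_true.1 w43_lt k hk)
  obtain ⟨e1, o1⟩ := R.ok_mat (r := defGen w43 ++ [2]) (by decide)
  obtain ⟨e2, o2⟩ := R.ok_mat (r := defGen w43) (by decide)
  have hw : MatRep.wEl R.gen (defGen w43 ++ [2]) = S.ψ a * S.t := by
    rw [wEl_append, wEl_defGen R S hx hy ht, ht]; simp [MatRep.wEl, ha]
  have h43 : (S.ψ a * S.t) ^ 43 = 1 := by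
    set u := S.ψ a * S.t with hu
    have sq : ∀ n M (g : G), R.mat g = M → Ok M → R.mat (g ^ 2 ^ n) = sqF n M ∧ Ok (sqF n M) := by
      intro n
      induction n with
      | zero => intro M g e o; simpa [sqF] using ⟨e, o⟩
      | succ n ih =>
        intro M g e o
        have := ih (fcomp M M) (g * g) (by rw [R.mat_mul, e, fcomp_eq o o]) (fcomp_eq o o ▸ ok_mcomp o o)
        rw [← pow_two, ← pow_mul, ← pow_succ'] at this
        exact this
    have em : R.mat u = m43 := by rw [← hw]; exact e1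
    have o43 : Ok m43 := o1
    obtain ⟨a5, o5⟩ := sq 5 m43 u em o1
    obtain ⟨a3, o3⟩ := sq 3 m43 u em o1
    refine R.mat_inj ?_
    have hok : ∀ {A B : List ℕ}, Ok A → Ok B → Ok (fcomp A B) := fun oA oB => fcomp_eq oA oB ▸ ok_mcomp oA oB
    rw [show u ^ 43 = u ^ 2 ^ 5 * u ^ 2 ^ 3 * (u * u) * u by
        rw [← pow_two, ← pow_add, ← pow_add, ← pow_succ]; norm_num, R.mat_mul, R.mat_mul, R.mat_mul, R.mat_mul,
      a5, a3, em, ← fcomp_eq o5 o3, ← fcomp_eq o43 o43, ← fcomp_eq (hok o5 o3) (hok o43 o43),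
      ← fcomp_eq (hok (hok o5 o3) (hok o43 o43)) o43, R.mat_one]
    exact beq_iff_eq.1 m43_ok.1
  have hat : φ (S.ψ a) * φ S.t = 1 := by
    rw [← map_mul]
    refine orderOf_eq_one_iff.1 (Nat.eq_one_of_dvd_coprimes hcop (orderOf_dvd_natCard _) ?_)
    exact orderOf_dvd_of_pow_eq_one (by rw [← map_pow, h43, map_one])
  haveI := Golay.isSimpleGroup_M24
  rcases (MonoidHom.normal_ker (φ.comp S.ψ)).eq_bot_or_eq_top with hb | hb
  · exfalso
    have hsq : φ (S.ψ (a * a)) = 1 := by
      have e : φ (S.ψ a) = φ S.t := by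
        rw [eq_inv_of_mul_eq_one_left hat, ← map_inv, S.tinv]
      rw [map_mul, map_mul, e, ← map_mul, S.tt, map_one]
    have haa : a * a = 1 := by
      rw [← Subgroup.mem_bot, ← hb]
      exact hsq
    have := congrArg R.mat (congrArg S.ψ haa)
    rw [map_mul, map_one, ← wEl_defGen R S hx hy ht, R.mat_mul, e2, R.mat_one, ← fcomp_eq o2 o2] at this
    have h2 := m43_ok.2
    rw [show a43 = wordMatF baseT (defGen w43) from rfl, this, beq_self_eq_true] at h2
    exact Bool.noConfusion h2
  · have hψ : ∀ g, φ (S.ψ g) = 1 := fun g => by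
      have : g ∈ (φ.comp S.ψ).ker := hb ▸ Subgroup.mem_top g
      exact this
    have ht1 : φ S.t = 1 := by rw [hψ, one_mul] at hat; exact hat
    refine eq_top_iff.2 ?_
    rw [← hgen, Subgroup.closure_le]
    rintro _ (⟨g, rfl⟩ | rfl)
    · exact (QuotientGroup.eq_one_iff _).1 (hψ g)
    · exact (QuotientGroup.eq_one_iff _).1 ht1

end

theorem isSimple_of_hom [Finite ModG] (φ : M24 →* Spor.J4) (hx : φ gx = jx) (hy : φ gy = jy)
    (h : Nat.card ModG = 86775571046077562880) : IsSimpleGroup ModG :=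
  isSimple_of_rels modRep (pushRels (j4Rels φ hx hy) toMod)
    ((congrArg toMod hx).trans toMod_jx) ((congrArg toMod hy).trans toMod_jy) toMod_jt
    (pushRels_gen _ _ J4Model.rho.rangeRestrict_surjective (j4Rels_gen φ hx hy)) h

/-- The model is simple if it has the order of the fourth Janko group. -/
theorem isSimple_modG (h : Nat.card ModG = 86775571046077562880) : IsSimpleGroup ModG :=
  isSimple_of_hom M24Pres.psi M24Pres.psi_gx M24Pres.psi_gy h

theorem isJ4_of_surjective {A B : Type*} [Group A] [Group B] [Finite A] (f : A →* B) (hf : Function.Surjective f)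
    {n : ℕ} (h1 : Nat.card A ≤ n) (h2 : Nat.card B = n) (hB : IsSimpleGroup B) :
    IsSimpleGroup A ∧ Nat.card A = n := by
  have hb : Function.Bijective f := hf.bijective_of_nat_card_le (le_of_le_of_eq h1 h2.symm)
  exact ⟨(MulEquiv.ofBijective f hb).isSimpleGroup, (Nat.card_eq_of_bijective f hb).trans h2⟩

/-- The presented group is of type J4 if it is no larger than the fourth Janko group and its image has that
order. -/
theorem isJ4_of_bounds [Finite Spor.J4] (h1 : Nat.card Spor.J4 ≤ 86775571046077562880)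
    (h2 : Nat.card ModG = 86775571046077562880) : IsJ4 Spor.J4 :=
  isJ4_of_surjective toMod J4Model.rho.rangeRestrict_surjective h1 h2 (isSimple_modG h2)

/-- The presented group is of type J4 if it has the order of the fourth Janko group and is faithful in the
model. -/
theorem isJ4_of_card (h1 : Nat.card Spor.J4 = 86775571046077562880) (hinj : Function.Injective J4Model.rho) :
    IsJ4 Spor.J4 :=
  haveI : Finite Spor.J4 := Nat.finite_of_card_ne_zero (by rw [h1]; norm_num)
  isJ4_of_bounds h1.le ((Nat.card_congr (MonoidHom.ofInjective hinj).toEquiv).symm.trans h1)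

end Cfsg.Agent.J4Cent
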